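import Cfsg.Agent.FrobComp.GroupAlgebra
import Cfsg.Agent.Characters.FrobeniusKernel

/-!
# Frobenius complements act freely on elementary abelian groups and on rational vector spaces

* `exists_kernel`: Frobenius' theorem in the language of `Cfsg.frobeniusKernel`;
* `exists_free_module`: for a prime dividing the index, the complement acts freely on a nontrivial
  module of that exponent;
* `exists_free_rat_module_of_isFrobeniusComplement`;
* `subgroup_isFrobeniusComplement`: nontrivial subgroups of complements are complements.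
-/

set_option autoImplicit false
set_option linter.unusedSectionVars false

namespace CfsgLib.FrobComp

open Cfsg

universe u

variable {L : Type u} [Group L] [Finite L] {C : Subgroup L}

theorem exists_kernel (hC : IsFrobeniusComplement C) :
    ∃ N : Subgroup L, N.Normal ∧ N.IsComplement' C ∧ (N : Set L) = frobeniusKernel C := by
  obtain ⟨N, hN, hc, -⟩ := CfsgLib.Characters.exists_frobenius_kernel C (fun g hg x hx hgx => by
    by_contra h1
    have := mem_of_conj_mem hC hx h1 (g := g⁻¹) (by simpa using hgx)
    exact hg (by simpa using inv_mem this))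
  exact ⟨N, hN, hc, CfsgLib.Solvable.kernel_eq_of_normal_complement hc hC⟩

/-- For a prime `p` dividing the index, a Frobenius complement acts freely on a nontrivial finite
module of exponent `p`. -/
theorem exists_free_module (hC : IsFrobeniusComplement C) {p : ℕ} [hp : Fact p.Prime]
    (hdvd : p ∣ C.index) :
    ∃ (V : Type u) (_ : AddCommGroup V) (_ : Finite V) (_ : Nontrivial V)
      (ρ : C →* AddMonoid.End V), (∀ v : V, p • v = 0) ∧ IsFree ρ := by
  obtain ⟨N, hN, hc, hker⟩ := exists_kernel hC
  have hNcard : Nat.card N = C.index := hc.index_eq_card.symm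
  have hNidx : N.index = Nat.card C := hc.symm.index_eq_card
  obtain ⟨P⟩ : Nonempty (Sylow p N) := Sylow.nonempty
  set P' : Subgroup L := (P : Subgroup N).map N.subtype with hP'
  have hP'N : P' ≤ N := Subgroup.map_subtype_le _
  set M := Subgroup.normalizer (P' : Set L) with hM
  have hsup : M ⊔ N = ⊤ := P.normalizer_sup_eq_top
  set R := N.subgroupOf M with hR
  have hRi : R.index = Nat.card C := by
    rw [hR, ← hNidx]
    show N.relIndex M = N.index
    rw [← Subgroup.relIndex_sup_right (H := M) (K := N), hsup, Subgroup.relIndex_top_right]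
  have hRc : (Nat.card R).Coprime R.index := by
    rw [hRi]
    have h1 : Nat.card R ∣ Nat.card N := by
      rw [← Subgroup.card_map_of_injective M.subtype_injective]
      exact Subgroup.card_dvd_of_le (Subgroup.map_le_iff_le_comap.mpr le_rfl)
    refine Nat.Coprime.coprime_dvd_left h1 ?_
    rw [hNcard]
    exact (coprime_card_index hC).symm
  obtain ⟨D, hD⟩ := Subgroup.exists_right_complement'_of_coprime hRc
  set D' : Subgroup L := D.map M.subtype with hD'
  have hD'M : D' ≤ M := Subgroup.map_subtype_le _
  have hD'card : Nat.card D' = Nat.card C := by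
    rw [hD', Subgroup.card_map_of_injective M.subtype_injective, ← hRi]
    exact hD.symm.index_eq_card.symm
  have hND : N.IsComplement' D' := by
    refine Subgroup.isComplement'_of_coprime ?_ ?_
    · rw [hD'card, ← hc.card_mul_card]
    · rw [hD'card, hNcard]
      exact (coprime_card_index hC).symm
  let e : C ≃* D' := (hc.symm.QuotientMulEquiv.symm.trans hND.symm.QuotientMulEquiv)
  -- `Ω₁(Z(P))`
  let V : Subgroup L :=
    { carrier := {x | x ∈ P' ∧ (∀ y ∈ P', x * y = y * x) ∧ x ^ p = 1}
      one_mem' := ⟨one_mem _, fun y _ => by rw [one_mul, mul_one], one_pow p⟩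
      mul_mem' := fun {a b} ha hb => ⟨mul_mem ha.1 hb.1, fun y hy => by
          rw [mul_assoc, hb.2.1 y hy, ← mul_assoc, ha.2.1 y hy, mul_assoc],
        by rw [(Commute.mul_pow (ha.2.1 b hb.1)), ha.2.2, hb.2.2, one_mul]⟩
      inv_mem' := fun {a} ha => ⟨inv_mem ha.1, fun y hy => (Commute.inv_left (ha.2.1 y hy)).eq,
        by rw [inv_pow, ha.2.2, inv_one]⟩ }
  let _ : CommGroup V :=
    { (inferInstance : Group V) with
      mul_comm := fun a b => Subtype.ext (a.2.2.1 b b.2.1) }
  have hconj : ∀ d : L, d ∈ M → ∀ x ∈ V, d * x * d⁻¹ ∈ V := by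
    intro d hd x hx
    refine ⟨(Subgroup.mem_normalizer_iff.mp hd x).mp hx.1, fun y hy => ?_, ?_⟩
    · have hy' : d⁻¹ * y * d ∈ P' := by
        have := (Subgroup.mem_normalizer_iff.mp (inv_mem hd) y).mp hy
        simpa using this
      calc d * x * d⁻¹ * y = d * (x * (d⁻¹ * y * d)) * d⁻¹ := by group
        _ = d * ((d⁻¹ * y * d) * x) * d⁻¹ := by rw [hx.2.1 _ hy']
        _ = y * (d * x * d⁻¹) := by group
    · rw [conj_pow, hx.2.2, mul_one, mul_inv_cancel]
  let ρ : C →* AddMonoid.End (Additive V) :=
    { toFun := fun c => MonoidHom.toAdditive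
        { toFun := fun x : V => (⟨(e c : L) * x * (e c : L)⁻¹, hconj _ (hD'M (e c).2) x x.2⟩ : V)
          map_one' := Subtype.ext (by
            show (e c : L) * (1 : L) * (e c : L)⁻¹ = 1
            rw [mul_one, mul_inv_cancel])
          map_mul' := fun x y => Subtype.ext (by
            show (e c : L) * ((x : L) * y) * (e c : L)⁻¹ =
              (e c : L) * x * (e c : L)⁻¹ * ((e c : L) * y * (e c : L)⁻¹)
            group) }
      map_one' := AddMonoidHom.ext fun x => Subtype.ext (by
        show (e 1 : L) * (x.toMul : L) * (e 1 : L)⁻¹ = x.toMul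
        rw [map_one, Subgroup.coe_one, one_mul, inv_one, mul_one])
      map_mul' := fun c c' => AddMonoidHom.ext fun x => Subtype.ext (by
        show (e (c * c') : L) * (x.toMul : L) * (e (c * c') : L)⁻¹ =
          (e c : L) * ((e c' : L) * (x.toMul : L) * (e c' : L)⁻¹) * (e c : L)⁻¹
        rw [map_mul, Subgroup.coe_mul, mul_inv_rev]
        group) }
  have hnt : Nontrivial V := by
    have hP : IsPGroup p P' := P.2.map _
    have : Nontrivial P' := by
      rw [← Finite.one_lt_card_iff_nontrivial, hP', Subgroup.card_map_of_injective N.subtype_injective,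
        Subgroup.one_lt_card_iff_ne_bot]
      exact P.ne_bot_of_dvd_card (hNcard.symm ▸ hdvd)
    have := hP.center_nontrivial
    obtain ⟨k, hk⟩ := (hP.to_subgroup (Subgroup.center P')).exists_card_eq
    have hk0 : k ≠ 0 := fun h => by
      rw [h, pow_zero] at hk
      exact absurd hk (Finite.one_lt_card (α := Subgroup.center P')).ne'
    obtain ⟨z, hz⟩ := exists_prime_orderOf_dvd_card' p
      (hk ▸ dvd_pow_self p hk0 : p ∣ Nat.card (Subgroup.center P'))
    refine ⟨⟨⟨((z : P') : L), (z : P').2, fun y hy => ?_, ?_⟩, 1, fun h => ?_⟩⟩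
    · exact (congrArg Subtype.val (Subgroup.mem_center_iff.mp z.2 ⟨y, hy⟩)).symm
    · have h1 := pow_orderOf_eq_one z
      rw [hz] at h1
      simpa using congrArg (fun w : Subgroup.center P' => ((w : P') : L)) h1
    · have h1 : ((z : P') : L) = 1 := congrArg Subtype.val h
      exact hp.out.ne_one (by rw [← hz, show z = 1 from Subtype.ext (Subtype.ext h1), orderOf_one])
  refine ⟨Additive V, inferInstance, inferInstance, inferInstance, ρ, fun v => ?_, fun c hc1 v hv => ?_⟩
  · show Additive.ofMul (v.toMul ^ p) = 0
    rw [show v.toMul ^ p = 1 from Subtype.ext (by simpa using v.toMul.2.2.2)]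
    rfl
  · have hv' : (e c : L) * (v.toMul : L) * (e c : L)⁻¹ = v.toMul := congrArg Subtype.val hv
    have h1 : (v.toMul : L) = 1 := by
      refine eq_one_of_commute hC (y := (e c : L)) ?_ ?_ (mul_inv_eq_iff_eq_mul.mp hv').symm
      · rw [← hker]; exact hP'N v.toMul.2.1
      · rw [← hker]
        intro hmem
        have := Subgroup.disjoint_def.mp hND.disjoint hmem (e c).2
        exact hc1 (e.injective (by rw [Subtype.ext (by rw [this, Subgroup.coe_one] : (e c : L) = (1 : D'))]
                                   exact (map_one e).symm))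
    exact Subtype.ext h1

/-- A Frobenius complement acts freely on a non-zero rational vector space. -/
theorem exists_free_rat_module_of_isFrobeniusComplement (hC : IsFrobeniusComplement C) :
    ∃ (W : Type u) (_ : AddCommGroup W) (_ : Module ℚ W) (_ : Nontrivial W)
      (σ : C →* (W →ₗ[ℚ] W)), ∀ h : C, h ≠ 1 → ∀ x : W, σ h x = x → x = 0 := by
  obtain ⟨p, hp, hdvd⟩ := Nat.exists_prime_and_dvd (n := C.index)
    (fun h => hC.2.1 (Subgroup.index_eq_one.mp h))
  have := Fact.mk hp
  obtain ⟨V, _, _, _, ρ, hV, hρ⟩ := exists_free_module hC hdvd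
  exact exists_free_rat_module hV hρ

/-- Pull a free action back along an injective homomorphism and make a Frobenius group. -/
theorem exists_frobenius_of_injective {H : Type*} [Group H] [Finite H] [Nontrivial H]
    (hC : IsFrobeniusComplement C) (f : H →* C) (hf : Function.Injective f) :
    ∃ (L' : Type) (_ : Group L') (_ : Finite L') (C' : Subgroup L'),
      IsFrobeniusComplement C' ∧ Nonempty (H ≃* C') := by
  obtain ⟨p, hp, hdvd⟩ := Nat.exists_prime_and_dvd (n := C.index)
    (fun h => hC.2.1 (Subgroup.index_eq_one.mp h))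
  have := Fact.mk hp
  obtain ⟨V, _, _, _, ρ, -, hρ⟩ := exists_free_module hC hdvd
  obtain ⟨L', hL', hLf, C', hC', he, -⟩ := exists_frobenius_of_free (ρ := ρ.comp f)
    fun h h1 x hx => hρ (f h) (fun e => h1 (hf (e.trans (map_one f).symm))) x hx
  exact ⟨L', hL', hLf, C', hC', he⟩

end CfsgLib.FrobComp
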