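import Mathlib
import Cfsg.Prelude.Def_Solvable

/-!
# Elementary facts about Frobenius complements

These do not use Frobenius' theorem.
-/

set_option autoImplicit false

open scoped Pointwise

namespace CfsgLib.FrobComp

open Cfsg

variable {G : Type*} [Group G]

theorem smul_mem_iff (H : Subgroup G) (g x : G) :
    x ∈ MulAut.conj g • H ↔ g⁻¹ * x * g ∈ H := by
  rw [Subgroup.mem_pointwise_smul_iff_inv_smul_mem]
  simp [MulAut.smul_def, MulAut.inv_def, MulAut.conj_symm_apply]

theorem mem_of_conj_mem {H : Subgroup G} (hH : IsFrobeniusComplement H) {h g : G} (hh : h ∈ H)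
    (h1 : h ≠ 1) (hg : g⁻¹ * h * g ∈ H) : g ∈ H := by
  by_contra hgH
  have : h ∈ H ⊓ MulAut.conj g • H := ⟨hh, (smul_mem_iff H g h).mpr hg⟩
  rw [hH.2.2 g hgH, Subgroup.mem_bot] at this
  exact h1 this

theorem centralizer_le {H : Subgroup G} (hH : IsFrobeniusComplement H) {h : G} (hh : h ∈ H)
    (h1 : h ≠ 1) : Subgroup.centralizer ({h} : Set G) ≤ H := by
  intro g hg
  refine mem_of_conj_mem hH hh h1 ?_
  rw [mul_assoc, Subgroup.mem_centralizer_iff.mp hg h rfl, inv_mul_cancel_left]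
  exact hh

theorem mem_kernel_iff (H : Subgroup G) (x : G) :
    x ∈ frobeniusKernel H ↔ x = 1 ∨ ∀ g : G, g⁻¹ * x * g ∉ H := by
  simp [frobeniusKernel, smul_mem_iff]

theorem kernel_conj_mem {H : Subgroup G} {x : G} (hx : x ∈ frobeniusKernel H) (g : G) :
    g * x * g⁻¹ ∈ frobeniusKernel H := by
  rw [mem_kernel_iff] at hx ⊢
  rcases hx with rfl | hx
  · left; group
  · right
    intro a
    have := hx (g⁻¹ * a)
    simpa [mul_assoc] using this

theorem exists_conj_of_notMem_kernel {H : Subgroup G} {x : G} (hx : x ∉ frobeniusKernel H) :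
    x ≠ 1 ∧ ∃ g h : G, h ∈ H ∧ h ≠ 1 ∧ x = g * h * g⁻¹ := by
  rw [mem_kernel_iff] at hx
  push Not at hx
  obtain ⟨h1, g, hg⟩ := hx
  refine ⟨h1, g, _, hg, fun h => h1 ?_, by group⟩
  calc x = g * (g⁻¹ * x * g) * g⁻¹ := by group
    _ = 1 := by rw [h]; group

theorem eq_one_of_mem_kernel_of_mem {H : Subgroup G} {x : G} (hx : x ∈ frobeniusKernel H)
    (hxH : x ∈ H) : x = 1 :=
  ((mem_kernel_iff H x).mp hx).resolve_right fun h => h 1 (by simpa using hxH)

/-- An element of the kernel commuting with an element outside it is trivial. -/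
theorem eq_one_of_commute {H : Subgroup G} (hH : IsFrobeniusComplement H) {x y : G}
    (hx : x ∈ frobeniusKernel H) (hy : y ∉ frobeniusKernel H) (hxy : Commute x y) : x = 1 := by
  obtain ⟨-, g, h, hh, h1, rfl⟩ := exists_conj_of_notMem_kernel hy
  have hc : g⁻¹ * x * g ∈ Subgroup.centralizer ({h} : Set G) := by
    rw [Subgroup.mem_centralizer_iff]
    rintro z rfl
    have := hxy.eq
    calc z * (g⁻¹ * x * g) = g⁻¹ * ((g * z * g⁻¹) * x) * g := by group
      _ = g⁻¹ * (x * (g * z * g⁻¹)) * g := by rw [this]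
      _ = g⁻¹ * x * g * z := by group
  have hk : g⁻¹ * x * g ∈ frobeniusKernel H := by simpa using kernel_conj_mem hx g⁻¹
  have h2 := eq_one_of_mem_kernel_of_mem hk (centralizer_le hH hh h1 hc)
  calc x = g * (g⁻¹ * x * g) * g⁻¹ := by group
    _ = 1 := by rw [h2]; group

variable [Finite G]

theorem index_le_ncard_kernel (H : Subgroup G) : H.index ≤ (frobeniusKernel H).ncard := by
  classical
  let f : (G ⧸ H) × {h : H // h ≠ 1} → G := fun p => p.1.out * p.2.1 * p.1.out⁻¹
  have hsub : (frobeniusKernel H)ᶜ ⊆ Set.range f := by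
    intro x hx
    obtain ⟨-, g, h, hh, h1, rfl⟩ := exists_conj_of_notMem_kernel hx
    obtain ⟨a, ha⟩ := QuotientGroup.mk_out_eq_mul H g
    have hm : (a : G)⁻¹ * h * a ∈ H := H.mul_mem (H.mul_mem (H.inv_mem a.2) hh) a.2
    refine ⟨(QuotientGroup.mk g, ⟨⟨_, hm⟩, fun h' => h1 ?_⟩), ?_⟩
    · have h'' : (a : G)⁻¹ * h * a = 1 := congrArg Subtype.val h'
      calc h = (a : G) * ((a : G)⁻¹ * h * a) * (a : G)⁻¹ := by group
        _ = 1 := by rw [h'']; group
    · simp only [f, ha]
      group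
  have h1 : (frobeniusKernel H)ᶜ.ncard ≤ H.index * (Nat.card H - 1) := by
    refine (Set.ncard_le_ncard hsub (Set.toFinite _)).trans ?_
    rw [← Set.image_univ]
    refine (Set.ncard_image_le (Set.toFinite _)).trans ?_
    rw [Set.ncard_univ, Nat.card_prod, Subgroup.index]
    refine Nat.mul_le_mul le_rfl ?_
    let _ := Fintype.ofFinite H
    simp [Nat.card_eq_fintype_card, Fintype.card_subtype_compl]
  have h2 : (frobeniusKernel H).ncard + (frobeniusKernel H)ᶜ.ncard = Nat.card G :=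
    Set.ncard_add_ncard_compl _
  have h3 : H.index * (Nat.card H - 1) + H.index = Nat.card G := by
    rw [← Nat.mul_succ, Nat.succ_eq_add_one, Nat.sub_add_cancel Nat.card_pos, mul_comm,
      Subgroup.card_mul_index]
  omega

/-- A Frobenius complement is a Hall subgroup. -/
theorem coprime_card_index {H : Subgroup G} (hH : IsFrobeniusComplement H) :
    (Nat.card H).Coprime H.index := by
  refine Nat.coprime_of_dvd fun p hp hpH hpi => ?_
  have := Fact.mk hp
  obtain ⟨h, hh⟩ := exists_prime_orderOf_dvd_card' p hpH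
  have hh1 : (h : G) ≠ 1 := fun e => hp.ne_one <| by
    rw [← hh, show h = 1 from Subtype.ext e, orderOf_one]
  have hP0 : IsPGroup p (Subgroup.zpowers (h : G)) := by
    refine IsPGroup.of_card (n := 1) ?_
    rw [Nat.card_zpowers, Subgroup.orderOf_coe, hh, pow_one]
  obtain ⟨P, hP⟩ := hP0.exists_le_sylow
  have hhP : (h : G) ∈ P := hP (Subgroup.mem_zpowers _)
  have : Nontrivial P := ⟨⟨⟨h, hhP⟩, 1, fun e => hh1 (congrArg Subtype.val e)⟩⟩
  have := P.2.center_nontrivial
  obtain ⟨z, hz⟩ := exists_ne (1 : Subgroup.center P)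
  have hz1 : ((z : P) : G) ≠ 1 := fun e => hz (Subtype.ext (Subtype.ext e))
  have hzc : ∀ k : P, (k : G) * (z : P) = (z : P) * k := fun k =>
    congrArg Subtype.val (Subgroup.mem_center_iff.mp z.2 k)
  have hzH : ((z : P) : G) ∈ H := by
    refine centralizer_le hH h.2 hh1 (Subgroup.mem_centralizer_iff.mpr ?_)
    rintro _ rfl
    exact hzc ⟨h, hhP⟩
  have hPH : (P : Subgroup G) ≤ H := fun k hk => by
    refine centralizer_le hH hzH hz1 (Subgroup.mem_centralizer_iff.mpr ?_)
    rintro _ rfl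
    exact (hzc ⟨k, hk⟩).symm
  exact P.not_dvd_index' Subgroup.index_ne_zero_of_finite (hpi.trans (Subgroup.index_dvd_of_le hPH))

end CfsgLib.FrobComp
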