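import Cfsg.Agent.FrobComp.FreeAction

/-!
# Sylow subgroups of groups with a free action

* `mem_zpowers_of_free`: no `C_p × C_p`;
* `isCyclic_of_free_of_odd`: `p`-groups acting freely are cyclic for odd `p`;
* `exists_anticommute_of_free`: a non-cyclic 2-group acting freely contains `a`, `b` with
  `ρ a` and `ρ b` anticommuting;
* `isSquare_card_of_anticommute`: two anticommuting automorphisms of an abelian group of odd order
  force a square order.
-/

set_option autoImplicit false
set_option linter.unusedSectionVars false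

namespace CfsgLib.FrobComp

variable {H : Type*} [Group H] [Finite H] {M : Type*} [AddCommGroup M] [Finite M] [Nontrivial M]

/-- No `C_p × C_p` acts freely. -/
theorem mem_zpowers_of_free {ρ : H →* AddMonoid.End M} (hρ : IsFree ρ) {p : ℕ} [hp : Fact p.Prime]
    {a b : H} (ha : orderOf a = p) (hb : b ^ p = 1) (hab : Commute a b) :
    b ∈ Subgroup.zpowers a := by
  by_contra hba
  obtain ⟨v, hv⟩ := exists_ne (0 : M)
  have hb1 : b ≠ 1 := fun h => hba (h ▸ one_mem _)
  have ha1 : a ≠ 1 := fun h => hp.out.ne_one (by rw [← ha, h, orderOf_one])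
  have hap : a ^ p = 1 := by
    have := pow_orderOf_eq_one a
    rwa [ha] at this
  have hsum : ∀ c : H, c ≠ 1 → c ^ p = 1 → ∑ i ∈ Finset.range p, ρ (c ^ i) v = 0 := by
    intro c hc hcp
    have := sum_pow_apply_eq_zero_of_free hρ hc v
    rwa [orderOf_eq_prime hcp hc] at this
  have hne : ∀ j : ℕ, a * b ^ j ≠ 1 := by
    intro j h
    by_cases hj : p ∣ j
    · obtain ⟨q, rfl⟩ := hj
      rw [pow_mul, hb, one_pow, mul_one] at h
      exact ha1 h
    · have hbj : b ^ j ∈ Subgroup.zpowers a := by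
        rw [eq_inv_of_mul_eq_one_right h]
        exact inv_mem (Subgroup.mem_zpowers a)
      refine hba ?_
      have hcop : (orderOf b).Coprime j := by
        rw [orderOf_eq_prime hb hb1]; exact hp.out.coprime_iff_not_dvd.mpr hj
      obtain ⟨m, hm⟩ := exists_pow_eq_self_of_coprime hcop.symm
      rw [← hm]
      exact pow_mem hbj m
  have hkey : ∑ j ∈ Finset.range p, ∑ i ∈ Finset.range p, ρ ((a * b ^ j) ^ i) v = 0 :=
    Finset.sum_eq_zero fun j _ => hsum _ (hne j) (by
      rw [(hab.pow_right j).mul_pow, hap, ← pow_mul, mul_comm, pow_mul, hb, one_pow, one_mul])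
  rw [Finset.sum_comm] at hkey
  have hterm : ∀ i ∈ Finset.range p, i ≠ 0 → ∑ j ∈ Finset.range p, ρ ((a * b ^ j) ^ i) v = 0 := by
    intro i hi hi0
    rw [Finset.mem_range] at hi
    have : ∀ j, ρ ((a * b ^ j) ^ i) v = ρ (a ^ i) (ρ ((b ^ i) ^ j) v) := fun j => by
      rw [(hab.pow_right j).mul_pow, ← pow_mul, mul_comm j, pow_mul, map_mul]; rfl
    rw [Finset.sum_congr rfl fun j _ => this j, ← map_sum, hsum, map_zero]
    · intro h
      have h1 := orderOf_dvd_of_pow_eq_one h
      rw [orderOf_eq_prime hb hb1] at h1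
      exact absurd (Nat.le_of_dvd (Nat.pos_of_ne_zero hi0) h1) (by omega)
    · rw [← pow_mul, mul_comm, pow_mul, hb, one_pow]
  rw [Finset.sum_eq_single 0 hterm (fun h => absurd (Finset.mem_range.mpr hp.out.pos) h)] at hkey
  have h0 : p • v = 0 := by
    simp only [pow_zero, map_one, Finset.sum_const, Finset.card_range] at hkey
    exact hkey
  exact hv (nsmul_orderOf_injective hρ (ha ▸ orderOf_dvd_natCard a) h0)

theorem mem_zpowers_of_pow_eq_one {ρ : H →* AddMonoid.End M} (hρ : IsFree ρ) {p : ℕ}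
    [hp : Fact p.Prime] {P : Subgroup H} (hP : IsPGroup p P) :
    ∃ z : H, ∀ x ∈ P, x ^ p = 1 → x ∈ Subgroup.zpowers z ∧ orderOf z ∣ p := by
  by_cases hPbot : P = ⊥
  · refine ⟨1, fun x hx _ => ⟨?_, by rw [orderOf_one]; exact one_dvd p⟩⟩
    rw [hPbot, Subgroup.mem_bot] at hx
    rw [hx]; exact one_mem _
  have : Nontrivial P := (Subgroup.nontrivial_iff_ne_bot P).mpr hPbot
  have := hP.center_nontrivial
  obtain ⟨k, hk⟩ := (hP.to_subgroup (Subgroup.center P)).exists_card_eq
  have hk0 : k ≠ 0 := fun h => by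
    rw [h, pow_zero] at hk
    exact absurd hk (Finite.one_lt_card (α := Subgroup.center P)).ne'
  obtain ⟨z, hz⟩ := exists_prime_orderOf_dvd_card' p
    (hk ▸ dvd_pow_self p hk0 : p ∣ Nat.card (Subgroup.center P))
  have hz' : orderOf ((z : P) : H) = p := by rw [Subgroup.orderOf_coe, Subgroup.orderOf_coe, hz]
  refine ⟨((z : P) : H), fun x hx hxp => ⟨mem_zpowers_of_free hρ hz' hxp ?_, hz'.dvd⟩⟩
  exact (congrArg Subtype.val (Subgroup.mem_center_iff.mp z.2 ⟨x, hx⟩)).symm

/-- If the `p`-th power map is multiplicative and `x^p = 1` has at most `p` solutions, a `p`-group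
is cyclic as soon as one subgroup of index `p` is. -/
theorem isCyclic_of_pow_mul {P : Type*} [Group P] [Finite P] {p : ℕ} [hp : Fact p.Prime]
    (hP : IsPGroup p P)
    (hmul : ∀ x y : P, (x * y) ^ p = x ^ p * y ^ p) {z : P}
    (hz : ∀ x : P, x ^ p = 1 → x ∈ Subgroup.zpowers z ∧ orderOf z ∣ p)
    {K : Subgroup P} [K.Normal] (hKc : IsCyclic K) (hK : K.index = p) : IsCyclic P := by
  let f : P →* P := MonoidHom.mk' (fun x => x ^ p) hmul
  have hker : Nat.card f.ker ≤ p := by
    have h1 : f.ker ≤ Subgroup.zpowers z := fun x hx => (hz x hx).1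
    refine le_trans (Nat.le_of_dvd Nat.card_pos (Subgroup.card_dvd_of_le h1)) ?_
    rw [Nat.card_zpowers]
    exact Nat.le_of_dvd hp.out.pos (hz 1 (one_pow p)).2
  have hle : f.range ≤ K := by
    rintro _ ⟨x, rfl⟩
    have := K.pow_index_mem x
    rwa [hK] at this
  have heq : f.range = K := by
    refine Subgroup.eq_of_le_of_card_ge hle ?_
    have h1 := Subgroup.card_mul_index K
    have h2 := Subgroup.card_mul_index f.ker
    rw [Subgroup.index_ker] at h2
    rw [hK] at h1
    refine Nat.le_of_mul_le_mul_right ?_ hp.out.pos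
    calc Nat.card K * p = Nat.card P := h1
      _ = Nat.card f.ker * Nat.card f.range := h2.symm
      _ ≤ Nat.card f.range * p := by rw [mul_comm]; exact Nat.mul_le_mul_left _ hker
  obtain ⟨m, hm⟩ := hKc.exists_ofOrder_eq_natCard
  obtain ⟨u, hu⟩ : (m : P) ∈ f.range := heq ▸ m.2
  have hKP : Nat.card K * p = Nat.card P := hK ▸ Subgroup.card_mul_index K
  by_cases hK1 : Nat.card K = 1
  · rw [hK1, one_mul] at hKP
    exact isCyclic_of_prime_card hKP.symm
  refine isCyclic_of_orderOf_eq_card u ?_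
  have h1 : orderOf (u ^ p) = Nat.card K := by
    rw [show u ^ p = (m : P) from hu, Subgroup.orderOf_coe, hm]
  have h2 : p ∣ orderOf u := by
    by_contra h
    have h3 : (orderOf u).Coprime p := (hp.out.coprime_iff_not_dvd.mpr h).symm
    rw [h3.orderOf_pow] at h1
    have h4 : p ∣ Nat.card K := by
      obtain ⟨j, hj⟩ := (hP.to_subgroup K).exists_card_eq
      rw [hj] at hK1 ⊢
      exact dvd_pow_self p fun h => hK1 (by rw [h, pow_zero])
    exact h (h1 ▸ h4)
  rw [orderOf_pow_of_dvd hp.out.ne_zero h2] at h1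
  rw [← Nat.div_mul_cancel h2, h1, hKP]

/-- At most one subgroup of order `p`, elementwise. -/
def UniqueOrderP (p : ℕ) (P : Type*) [Group P] : Prop :=
  ∀ x y : P, x ^ p = 1 → y ^ p = 1 → x ≠ 1 → y ∈ Subgroup.zpowers x

theorem UniqueOrderP.subgroup {p : ℕ} {P : Type*} [Group P] (h : UniqueOrderP p P)
    (K : Subgroup P) : UniqueOrderP p K := by
  intro x y hx hy hx1
  obtain ⟨j, hj⟩ := Subgroup.mem_zpowers_iff.mp (h x y (by simpa using congrArg Subtype.val hx)
    (by simpa using congrArg Subtype.val hy) (fun e => hx1 (Subtype.ext e)))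
  exact Subgroup.mem_zpowers_iff.mpr ⟨j, Subtype.ext (by simpa using hj)⟩

theorem uniqueOrderP_of_free {ρ : H →* AddMonoid.End M} (hρ : IsFree ρ) {p : ℕ} [hp : Fact p.Prime]
    {P : Subgroup H} (hP : IsPGroup p P) : UniqueOrderP p P := by
  intro x y hx hy hx1
  obtain ⟨z, hz⟩ := mem_zpowers_of_pow_eq_one hρ hP
  obtain ⟨hxz, hzp⟩ := hz x x.2 (by simpa using congrArg Subtype.val hx)
  obtain ⟨hyz, -⟩ := hz y y.2 (by simpa using congrArg Subtype.val hy)
  have heq : Subgroup.zpowers (x : H) = Subgroup.zpowers z := by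
    refine Subgroup.eq_of_le_of_card_ge (Subgroup.zpowers_le.mpr hxz) ?_
    rw [Nat.card_zpowers, Nat.card_zpowers, Subgroup.orderOf_coe, orderOf_eq_prime hx hx1]
    exact Nat.le_of_dvd hp.out.pos hzp
  obtain ⟨j, hj⟩ := Subgroup.mem_zpowers_iff.mp (heq ▸ hyz)
  exact Subgroup.mem_zpowers_iff.mpr ⟨j, Subtype.ext (by simpa using hj)⟩

/-- A `p`-group with a unique subgroup of order `p` is cyclic if it is commutative or `p` is odd. -/
theorem isCyclic_of_uniqueOrderP {p : ℕ} [hp : Fact p.Prime] {P : Type*} [Group P] [Finite P]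
    (hP : IsPGroup p P) (hu : UniqueOrderP p P)
    (hcase : (∀ x y : P, x * y = y * x) ∨ p ≠ 2) : IsCyclic P := by
  suffices key : ∀ n, ∀ Q : Subgroup P, Nat.card Q = n → IsCyclic Q from
    isCyclic_of_surjective (Subgroup.topEquiv (G := P)).toMonoidHom
      (hH := key _ ⊤ rfl) (Subgroup.topEquiv (G := P)).surjective
  intro n
  induction n using Nat.strong_induction_on with
  | _ n ih =>
  intro Q hn
  subst hn
  obtain ⟨k, hk⟩ := (hP.to_subgroup Q).exists_card_eq
  rcases k with _ | k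
  · have : Subsingleton Q := (Nat.card_eq_one_iff_unique.mp (by simpa using hk)).1
    exact isCyclic_of_subsingleton
  have hQu := hu.subgroup Q
  obtain ⟨z, hz⟩ := exists_prime_orderOf_dvd_card' p (hk ▸ dvd_pow_self p k.succ_ne_zero : p ∣ Nat.card Q)
  have hz1 : z ≠ 1 := fun e => hp.out.ne_one (by rw [← hz, e, orderOf_one])
  have hzp : z ^ p = 1 := by
    have := pow_orderOf_eq_one z
    rwa [hz] at this
  have hsub : ∀ K : Subgroup Q, K ≠ ⊤ → IsCyclic K := by
    intro K hK
    have hlt : Nat.card (K.map Q.subtype) < Nat.card Q := by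
      rw [Subgroup.card_map_of_injective Q.subtype_injective]
      exact lt_of_le_of_ne (Subgroup.card_le_card_group K) (fun h => hK (Subgroup.eq_top_of_card_eq K h))
    have := ih _ hlt (K.map Q.subtype) rfl
    exact isCyclic_of_surjective (K.equivMapOfInjective _ Q.subtype_injective).symm.toMonoidHom
      (K.equivMapOfInjective _ Q.subtype_injective).symm.surjective
  by_cases hQc : IsCyclic Q
  · exact hQc
  have hmax : ∀ x : Q, ∃ K : Subgroup Q, K.Normal ∧ K.index = p ∧ x ∈ K := by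
    intro x
    obtain ⟨j, hj⟩ := ((hP.to_subgroup Q).to_subgroup (Subgroup.zpowers x)).exists_card_eq
    have hjk : j ≤ k := by
      by_contra h
      refine hQc (isCyclic_of_orderOf_eq_card x ?_)
      rw [← Nat.card_zpowers]
      refine le_antisymm (Subgroup.card_le_card_group _) ?_
      rw [hj, hk]
      exact Nat.pow_le_pow_right hp.out.pos (by omega)
    obtain ⟨K, hK, hle⟩ := Sylow.exists_subgroup_card_pow_prime_le p
      (hk ▸ pow_dvd_pow p k.le_succ : p ^ k ∣ Nat.card Q) (Subgroup.zpowers x) hj hjk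
    have hidx : K.index = p := by
      have := Subgroup.card_mul_index K
      rw [hK, hk, pow_succ] at this
      exact Nat.eq_of_mul_eq_mul_left (pow_pos hp.out.pos k) this
    refine ⟨K, Subgroup.normal_of_index_eq_minFac_card ?_, hidx, hle (Subgroup.mem_zpowers x)⟩
    rw [hidx, hk, hp.out.pow_minFac k.succ_ne_zero]
  obtain ⟨K, hKn, hKi, -⟩ := hmax 1
  have hKtop : K ≠ ⊤ := fun e => hp.out.ne_one (by rw [← hKi, e, Subgroup.index_top])
  refine isCyclic_of_pow_mul (hP.to_subgroup Q) ?_ (z := z)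
    (fun x hx => ⟨hQu z x hzp hx hz1, hz.dvd⟩) (hsub K hKtop) hKi
  intro x y
  rcases hcase with hc | hodd
  · exact Commute.mul_pow (Subtype.ext (hc x y)) p
  -- odd `p`: two abelian subgroups of index `p` show that `Q` has class at most 2
  obtain ⟨g, hgK⟩ : ∃ g, g ∉ K := not_forall.mp fun h => hKtop ((Subgroup.eq_top_iff' K).mpr h)
  obtain ⟨K', hK'n, hK'i, hgK'⟩ := hmax g
  have hK'top : K' ≠ ⊤ := fun e => hp.out.ne_one (by rw [← hK'i, e, Subgroup.index_top])
  have habel : ∀ (J : Subgroup Q), J ≠ ⊤ → ∀ a ∈ J, ∀ b ∈ J, a * b = b * a := by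
    intro J hJ a ha b hb
    have := (hsub J hJ).isMulCommutative
    exact congrArg Subtype.val (mul_comm' (⟨a, ha⟩ : J) ⟨b, hb⟩)
  have hsup : K ⊔ K' = ⊤ := by
    rw [← Subgroup.index_eq_one]
    have h1 := Subgroup.relIndex_mul_index (le_sup_left : K ≤ K ⊔ K')
    rw [hKi] at h1
    rcases hp.out.eq_one_or_self_of_dvd _ ⟨_, by rw [mul_comm]; exact h1.symm⟩ with h2 | h2
    · exact h2
    · rw [h2] at h1
      have h3 : K.relIndex (K ⊔ K') = 1 :=
        Nat.eq_of_mul_eq_mul_right hp.out.pos (h1.trans (one_mul p).symm)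
      exact absurd (Subgroup.relIndex_eq_one.mp h3 (le_sup_right (a := K) hgK')) hgK
  have hcent : ∀ c ∈ K ⊓ K', ∀ a : Q, a * c = c * a := by
    intro c hc a
    obtain ⟨a₁, ha₁, a₂, ha₂, rfl⟩ :=
      Subgroup.mem_sup_of_normal_right.mp (hsup ▸ Subgroup.mem_top a : a ∈ K ⊔ K')
    rw [mul_assoc, habel K' hK'top a₂ ha₂ c hc.2, ← mul_assoc, habel K hKtop a₁ ha₁ c hc.1,
      mul_assoc]
  have hcomm : ∀ (J : Subgroup Q), J.Normal → J.index = p → ∀ a b : Q, b * a * b⁻¹ * a⁻¹ ∈ J := by
    intro J hJn hJi a b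
    have : IsCyclic (Q ⧸ J) := isCyclic_of_prime_card hJi
    have := this.isMulCommutative
    rw [← QuotientGroup.eq_one_iff]
    simp only [QuotientGroup.mk_mul, QuotientGroup.mk_inv]
    rw [mul_comm' (b : Q ⧸ J) a]
    group
  have hpow : ∀ a : Q, a ^ p ∈ K ⊓ K' := fun a =>
    ⟨hKi ▸ K.pow_index_mem a, hK'i ▸ K'.pow_index_mem a⟩
  obtain ⟨c, hc⟩ : ∃ c, c = y * x * y⁻¹ * x⁻¹ := ⟨_, rfl⟩
  have hcz : ∀ a : Q, a * c = c * a :=
    hcent c (hc ▸ ⟨hcomm K hKn hKi x y, hcomm K' hK'n hK'i x y⟩)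
  have hyx : y * x = c * (x * y) := by rw [hc]; group
  have hyk : ∀ j : ℕ, y ^ j * x = c ^ j * (x * y ^ j) := by
    intro j
    induction j with
    | zero => simp
    | succ j ih =>
      calc y ^ (j + 1) * x = y ^ j * (y * x) := by rw [pow_succ, mul_assoc]
        _ = (y ^ j * c) * (x * y) := by rw [hyx, mul_assoc]
        _ = c * (y ^ j * x) * y := by rw [hcz, mul_assoc, mul_assoc, mul_assoc]
        _ = c * c ^ j * (x * (y ^ j * y)) := by rw [ih]; simp only [mul_assoc]
        _ = c ^ (j + 1) * (x * y ^ (j + 1)) := by rw [← pow_succ', ← pow_succ]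
  have hexp : ∀ j : ℕ, (x * y) ^ j = c ^ (j.choose 2) * (x ^ j * y ^ j) := by
    intro j
    induction j with
    | zero => simp
    | succ j ih =>
      have hch : (j + 1).choose 2 = j.choose 2 + j := by
        rw [Nat.choose_succ_succ, Nat.choose_one_right, add_comm]
      have hcj : x ^ j * c ^ j = c ^ j * x ^ j :=
        (Commute.pow_pow (show Commute x c from hcz x) j j).eq
      calc (x * y) ^ (j + 1) = c ^ (j.choose 2) * (x ^ j * (y ^ j * x) * y) := by
            rw [pow_succ, ih]; simp only [mul_assoc]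
        _ = c ^ (j.choose 2) * ((x ^ j * c ^ j) * x * (y ^ j * y)) := by
            rw [hyk]; simp only [mul_assoc]
        _ = c ^ (j.choose 2 + j) * ((x ^ j * x) * (y ^ j * y)) := by
            rw [hcj, pow_add]; simp only [mul_assoc]
        _ = _ := by rw [← pow_succ, ← pow_succ, hch]
  have hcp : c ^ p = 1 := by
    have h1 := hyk p
    rw [← hcent _ (hpow y) x] at h1
    exact mul_right_cancel (h1.symm.trans (one_mul _).symm)
  obtain ⟨d, hd⟩ : p ∣ p.choose 2 := hp.out.dvd_choose_self (by norm_num)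
    (lt_of_le_of_ne hp.out.two_le (Ne.symm hodd))
  rw [hexp, hd, pow_mul, hcp, one_pow, one_mul]

/-- A `p`-group acting freely, `p` odd, is cyclic. -/
theorem isCyclic_of_free_of_odd {ρ : H →* AddMonoid.End M} (hρ : IsFree ρ) {p : ℕ}
    [hp : Fact p.Prime] (hodd : p ≠ 2) {P : Subgroup H} (hP : IsPGroup p P) : IsCyclic P :=
  isCyclic_of_uniqueOrderP hP (uniqueOrderP_of_free hρ hP) (Or.inr hodd)

/-- A non-cyclic `2`-group acting freely contains two elements acting anticommutingly. -/
theorem exists_anticommute_of_free {ρ : H →* AddMonoid.End M} (hρ : IsFree ρ)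
    {P : Subgroup H} (hP : IsPGroup 2 P) (hnc : ¬ IsCyclic P) :
    ∃ a b : H, ∀ x : M, ρ a (ρ b x) = -(ρ b (ρ a x)) := by
  have hne : ¬ ∀ x y : P, x * y = y * x :=
    fun h => hnc (isCyclic_of_uniqueOrderP hP (uniqueOrderP_of_free hρ hP) (Or.inl h))
  have hQ : Nontrivial (P ⧸ Subgroup.center P) := by
    refine QuotientGroup.nontrivial_iff.mpr fun h => hne fun x y => ?_
    exact (Subgroup.mem_center_iff.mp (h ▸ Subgroup.mem_top x : x ∈ Subgroup.center P) y).symm
  have := (hP.to_quotient (Subgroup.center P)).center_nontrivial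
  obtain ⟨⟨q, hq⟩, hq1⟩ := exists_ne (1 : Subgroup.center (P ⧸ Subgroup.center P))
  obtain ⟨a, rfl⟩ := QuotientGroup.mk_surjective q
  obtain ⟨b, hb⟩ : ∃ b : P, a * b * a⁻¹ * b⁻¹ ≠ 1 := not_forall.mp fun h => by
    refine hq1 (Subtype.ext ((QuotientGroup.eq_one_iff a).mpr (Subgroup.mem_center_iff.mpr fun b => ?_)))
    have := h b
    rw [mul_inv_eq_one, mul_inv_eq_iff_eq_mul] at this
    exact this.symm
  set c := a * b * a⁻¹ * b⁻¹ with hc
  have hcz : ∀ y : P, y * c = c * y := by
    refine Subgroup.mem_center_iff.mp ?_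
    rw [← QuotientGroup.eq_one_iff]
    simp only [hc, QuotientGroup.mk_mul, QuotientGroup.mk_inv]
    rw [← Subgroup.mem_center_iff.mp hq (b : P ⧸ Subgroup.center P)]
    group
  obtain ⟨k, hk⟩ : ∃ k, orderOf c = 2 ^ k := by
    obtain ⟨k, hk⟩ := hP c
    obtain ⟨i, -, hi⟩ := (Nat.dvd_prime_pow Nat.prime_two).mp (orderOf_dvd_of_pow_eq_one hk)
    exact ⟨i, hi⟩
  obtain ⟨i, rfl⟩ : ∃ i, k = i + 1 := by
    refine Nat.exists_eq_succ_of_ne_zero fun h => hb ?_
    rw [h, pow_zero, orderOf_eq_one_iff] at hk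
    exact hk
  have hab : ∀ j : ℕ, a ^ j * b = c ^ j * (b * a ^ j) := by
    intro j
    induction j with
    | zero => simp
    | succ j ih =>
      calc a ^ (j + 1) * b = a ^ j * (a * b) := by rw [pow_succ, mul_assoc]
        _ = (a ^ j * c) * (b * a) := by rw [show a * b = c * (b * a) by rw [hc]; group]; simp only [mul_assoc]
        _ = c * (a ^ j * b) * a := by rw [hcz]; simp only [mul_assoc]
        _ = c * c ^ j * (b * (a ^ j * a)) := by rw [ih]; simp only [mul_assoc]
        _ = c ^ (j + 1) * (b * a ^ (j + 1)) := by rw [← pow_succ', ← pow_succ]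
  refine ⟨(a : H) ^ 2 ^ i, b, fun x => ?_⟩
  set z : H := ((c ^ 2 ^ i : P) : H)
  have hz1 : z ≠ 1 := fun h => by
    have h1 : c ^ 2 ^ i = 1 := Subtype.ext h
    have h2 := Nat.le_of_dvd (by positivity) (orderOf_dvd_of_pow_eq_one h1)
    rw [hk, pow_succ] at h2
    have := Nat.one_le_two_pow (n := i)
    omega
  have hzz : z * z = 1 := by
    rw [← Subgroup.coe_mul, ← pow_add, ← two_mul, ← pow_succ', ← hk, pow_orderOf_eq_one,
      Subgroup.coe_one]
  have hneg : ∀ v : M, ρ z v = -v := by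
    intro v
    refine eq_neg_of_add_eq_zero_right (hρ z hz1 _ ?_)
    rw [map_add]
    show ρ z v + (ρ z * ρ z) v = _
    rw [← map_mul, hzz, map_one, add_comm]
    rfl
  have hkey : (a : H) ^ 2 ^ i * b = z * (b * (a : H) ^ 2 ^ i) := by
    have := congrArg Subtype.val (hab (2 ^ i))
    simpa [z] using this
  show (ρ ((a : H) ^ 2 ^ i) * ρ b) x = -((ρ b * ρ ((a : H) ^ 2 ^ i)) x)
  rw [← map_mul, hkey, map_mul, ← hneg, map_mul]
  rfl

/-- Two anticommuting injective endomorphisms force a square order on a group of odd order. -/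
theorem isSquare_card_of_anticommute {A : Type*} [AddCommGroup A] [Finite A] (hodd : Odd (Nat.card A))
    (a b : A →+ A) (ha : Function.Injective a) (hb : Function.Injective b)
    (hab : ∀ x, a (b x) = -(b (a x))) : IsSquare (Nat.card A) := by
  induction hn : Nat.card A using Nat.strong_induction_on generalizing A with
  | _ n ih =>
  subst hn
  by_cases h1 : Nat.card A = 1
  · rw [h1]; exact IsSquare.one
  obtain ⟨p, hp, hpd⟩ := Nat.exists_prime_and_dvd h1
  have := Fact.mk hp
  let f : A →+ A := nsmulAddMonoidHom p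
  have hfa : ∀ (g : A →+ A), ∀ x ∈ f.ker, g x ∈ f.ker := fun g x hx => by
    show p • g x = 0
    rw [← map_nsmul, show p • x = 0 from hx, map_zero]
  have hra : ∀ (g : A →+ A), ∀ x ∈ f.range, g x ∈ f.range := by
    rintro g _ ⟨y, rfl⟩
    exact ⟨g y, (map_nsmul g p y).symm⟩
  have hcard : Nat.card A = Nat.card f.ker * Nat.card f.range := by
    rw [← AddSubgroup.index_ker, AddSubgroup.card_mul_index]
  have hker1 : 1 < Nat.card f.ker := by
    obtain ⟨x, hx⟩ := exists_prime_addOrderOf_dvd_card' p hpd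
    refine (AddSubgroup.one_lt_card_iff_ne_bot _).mpr fun h => hp.ne_one ?_
    have hxk : x ∈ f.ker := by
      show p • x = 0
      rw [← hx]; exact addOrderOf_nsmul_eq_zero x
    rw [h, AddSubgroup.mem_bot] at hxk
    rw [← hx, hxk, addOrderOf_zero]
  let a' : f.range →+ f.range := (a.comp f.range.subtype).codRestrict _ fun x => hra a x.1 x.2
  let b' : f.range →+ f.range := (b.comp f.range.subtype).codRestrict _ fun x => hra b x.1 x.2
  have hsr : IsSquare (Nat.card f.range) := by
    refine ih _ ?_ (hodd.of_dvd_nat (AddSubgroup.card_addSubgroup_dvd_card _)) a' b'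
      (fun x y h => Subtype.ext (ha (congrArg Subtype.val h)))
      (fun x y h => Subtype.ext (hb (congrArg Subtype.val h)))
      (fun x => Subtype.ext (hab x.1)) rfl
    rw [hcard]
    exact lt_mul_of_one_lt_left Nat.card_pos hker1
  have hsk : IsSquare (Nat.card f.ker) := by
    have : Module (ZMod p) f.ker := AddCommGroup.zmodModule fun x => Subtype.ext x.2
    let A' : f.ker →ₗ[ZMod p] f.ker :=
      ((a.comp f.ker.subtype).codRestrict _ fun x => hfa a x.1 x.2).toZModLinearMap p
    let B' : f.ker →ₗ[ZMod p] f.ker :=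
      ((b.comp f.ker.subtype).codRestrict _ fun x => hfa b x.1 x.2).toZModLinearMap p
    have hA : LinearMap.det A' ≠ 0 := fun h => by
      have h1 : A'.ker = ⊥ := LinearMap.ker_eq_bot.mpr fun x y e => Subtype.ext (ha (congrArg Subtype.val e))
      exact absurd h1 (LinearMap.bot_lt_ker_of_det_eq_zero h).ne'
    have hB : LinearMap.det B' ≠ 0 := fun h => by
      have h1 : B'.ker = ⊥ := LinearMap.ker_eq_bot.mpr fun x y e => Subtype.ext (hb (congrArg Subtype.val e))
      exact absurd h1 (LinearMap.bot_lt_ker_of_det_eq_zero h).ne'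
    have hAB : A' * B' = (-1 : ZMod p) • (B' * A') := by
      refine LinearMap.ext fun x => ?_
      rw [LinearMap.smul_apply, neg_one_smul]
      exact Subtype.ext (hab x.1)
    have hdet := congrArg LinearMap.det hAB
    rw [map_mul, LinearMap.det_smul, map_mul, mul_comm (LinearMap.det B'),
      eq_comm, mul_eq_right₀ (mul_ne_zero hA hB)] at hdet
    have hp2 : p ≠ 2 := by
      rintro rfl
      exact absurd (hodd.of_dvd_nat hpd) (by decide)
    rw [Module.natCard_eq_pow_finrank (K := ZMod p), Nat.card_zmod]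
    refine Even.isSquare_pow ?_ p
    by_contra hev
    rw [(Nat.not_even_iff_odd.mp hev).neg_one_pow] at hdet
    have : Fact (2 < p) := ⟨lt_of_le_of_ne hp.two_le (Ne.symm hp2)⟩
    exact ZMod.neg_one_ne_one hdet
  rw [hcard]
  exact hsk.mul hsr

end CfsgLib.FrobComp
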