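import Cfsg.Agent.FrobComp.Perfect
import Cfsg.Agent.FrobComp.Complement

/-!
# Non-solvable groups with a free action

`exists_structure_of_not_solvable`: such a group has normal subgroups `N ≅ SL(2,5)` and `M` with
cyclic Sylow subgroups and order prime to 30, commuting, with trivial intersection, such that
`N ⊔ M` has index at most 2.
-/

set_option autoImplicit false
set_option linter.unusedSectionVars false
set_option linter.style.haveILetI false

namespace CfsgLib.FrobComp

open CfsgLib.ZassComp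
open scoped commutatorElement

variable {G : Type*} [Group G] [Finite G]

theorem map_free {V : Type*} [AddCommGroup V] {ρ : G →* AddMonoid.End V} (hρ : IsFree ρ)
    {H : Type*} [Group H] {f : H →* G} (hf : Function.Injective f) : IsFree (ρ.comp f) :=
  fun h h1 v hv => hρ (f h) (fun e => h1 (hf (e.trans (map_one f).symm))) v hv

/-- The perfect residual of a non-solvable group. -/
theorem exists_perfect_residual (hns : ¬ Group.IsSolvable G) :
    ∃ N : Subgroup G, N.Normal ∧ Nontrivial N ∧ commutator N = ⊤ := by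
  classical
  haveI := Fintype.ofFinite (Subgroup G)
  let s : Finset (Subgroup G) :=
    Finset.univ.filter fun N => ∃ _ : N.Normal, Group.IsSolvable (G ⧸ N)
  have hs : s.Nonempty := by
    refine ⟨⊤, Finset.mem_filter.2 ⟨Finset.mem_univ _, inferInstance, ?_⟩⟩
    haveI : Subsingleton (G ⧸ (⊤ : Subgroup G)) := QuotientGroup.subsingleton_quotient_top
    infer_instance
  obtain ⟨N, hN, hmin⟩ := s.exists_min_image (fun N => Nat.card N) hs
  obtain ⟨hn, hsol⟩ := (Finset.mem_filter.1 hN).2
  haveI := hn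
  refine ⟨N, hn, ?_, ?_⟩
  · rw [Subgroup.nontrivial_iff_ne_bot]
    rintro rfl
    refine hns ?_
    haveI := hsol
    exact Group.isSolvable_of_isSolvable_injective
      (QuotientGroup.quotientBot (G := G)).symm.injective
      (f := (QuotientGroup.quotientBot (G := G)).symm.toMonoidHom)
  · set M := (commutator N).map N.subtype with hM
    haveI : M.Normal := ConjAct.normal_of_characteristic_of_normal
    have hMN : M ≤ N := Subgroup.map_subtype_le _
    have hsolM : Group.IsSolvable (G ⧸ M) := by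
      haveI := hsol
      haveI : Group.IsSolvable (N.map (QuotientGroup.mk' M)) := by
        refine Group.isSolvable_of_comm fun u v => Subtype.ext ?_
        obtain ⟨u', hu', e⟩ := u.2
        obtain ⟨v', hv', e'⟩ := v.2
        rw [Subgroup.coe_mul, Subgroup.coe_mul, ← e, ← e', ← map_mul, ← map_mul,
          QuotientGroup.mk'_apply, QuotientGroup.mk'_apply, QuotientGroup.eq]
        refine ⟨⁅(⟨v'⁻¹, inv_mem hv'⟩ : N), ⟨u'⁻¹, inv_mem hu'⟩⁆,
          Subgroup.commutator_mem_commutator (Subgroup.mem_top _) (Subgroup.mem_top _), ?_⟩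
        simp [commutatorElement_def, mul_assoc]
      let f : G ⧸ M →* G ⧸ N :=
        QuotientGroup.map M N (MonoidHom.id G) (by simpa using hMN)
      refine Group.isSolvable_of_ker_le_range (N.map (QuotientGroup.mk' M)).subtype f ?_
      rw [Subgroup.range_subtype]
      intro q hq
      obtain ⟨g, rfl⟩ := QuotientGroup.mk_surjective q
      rw [MonoidHom.mem_ker, QuotientGroup.map_mk, QuotientGroup.eq_one_iff] at hq
      exact ⟨g, hq, rfl⟩
    have hle := hmin M (Finset.mem_filter.2 ⟨Finset.mem_univ _, inferInstance, hsolM⟩)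
    have heq : M = N := Subgroup.eq_of_le_of_card_ge hMN hle
    refine Subgroup.map_injective N.subtype_injective ?_
    rw [← hM, heq, ← MonoidHom.range_eq_map, Subgroup.range_subtype]

theorem solvable_small {H : Type*} [Group H] [Finite H] {c : ℕ} (h5 : 5 ∣ c)
    (h : c ≤ 40) (hc : c ∣ 120) (hH : Nat.card H = c) : Group.IsSolvable H := by
  have : c = 5 ∨ c = 10 ∨ c = 15 ∨ c = 20 ∨ c = 30 ∨ c = 40 := by
    have h1 : c ≤ 120 := Nat.le_of_dvd (by norm_num) hc
    obtain ⟨k, rfl⟩ := h5
    have : k ≤ 8 := by omega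
    interval_cases k <;> omega
  rcases this with rfl | rfl | rfl | rfl | rfl | rfl
  case inr.inr.inr.inr.inr =>
    exact CfsgLib.Characters.isSolvable_of_card_eq_primePow_mul 2 5 3 1 (by norm_num) (by norm_num)
      (by rw [hH]; norm_num)
  all_goals exact Cfsg.Agent.S3378.solvable_of_proper_dvd_sixty (by rw [hH]; norm_num) (by omega)

theorem card_sylow_eq_five {N : Type*} [Group N] [Finite N] [Nontrivial N] (D : PerfectSetup N)
    (hperf : commutator N = ⊤) (h120 : Nat.card N = 120) (hm : D.m = 1) :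
    Nat.card (Sylow 2 N) = 5 := by
  haveI : Fact (Nat.Prime 2) := ⟨Nat.prime_two⟩
  rw [D.S.card_eq_index_normalizer]
  set R := Subgroup.normalizer (D.S : Set N) with hR
  obtain ⟨j, hj, hjn⟩ := D.exists_notMem
  obtain ⟨x, k, hxk, hmv, hxA, -⟩ := D.exists_cycle hj hjn
  have hxR : x ∈ R := by
    refine Subgroup.mem_normalizer_iff.2 fun s => ?_
    have key : ∀ s ∈ D.S, x * s * x⁻¹ ∈ D.S := by
      intro s hs
      by_cases h1 : s = 1
      · rw [h1]; simp
      by_cases h2 : s * s = D.z
      · have h3 := (hmv s).1 (D.six_of_m_one hj hjn hm hs h2)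
        obtain ⟨h4, -⟩ := D.aj_mem hj hjn
        rcases h3 with (e | e) | (e | e) | (e | e) <;> rw [e]
        exacts [D.a_mem, inv_mem D.a_mem, hj, inv_mem hj, h4, inv_mem h4]
      · have hsz : s = D.z := by
          rcases D.dichot s hs with h | h
          · obtain ⟨i, hi⟩ := Subgroup.mem_zpowers_iff.1 h
            have hss : (s * s) * (s * s) = 1 := by
              rw [← hi, show ∀ u : N, u * u * (u * u) = u ^ (4 : ℕ) from fun u => by
                simp [pow_succ, mul_assoc], ← zpow_natCast, ← zpow_mul, mul_comm, zpow_mul,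
                zpow_natCast, show (4 : ℕ) = orderOf D.y by rw [D.orderOf_y, hm]; norm_num,
                pow_orderOf_eq_one, one_zpow]
            refine D.z_unique s ?_ h1
            by_contra h3
            exact h2 (D.z_unique _ hss h3)
          · exact absurd h.1 h2
        rw [hsz, D.z_comm, mul_inv_cancel_right, ← D.a_sq]
        exact mul_mem D.a_mem D.a_mem
    refine ⟨key s, fun hs => ?_⟩
    let f : ↥(D.S : Subgroup N) → ↥(D.S : Subgroup N) := fun u => ⟨x * u * x⁻¹, key u u.2⟩
    have hf : Function.Injective f := fun u v e => Subtype.ext (by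
      simpa [f] using congrArg Subtype.val e)
    obtain ⟨⟨u, hu⟩, e⟩ := (Finite.injective_iff_surjective.1 hf) ⟨_, hs⟩
    have : x * u * x⁻¹ = x * s * x⁻¹ := congrArg Subtype.val e
    rwa [show s = u by simpa using this.symm]
  have h8 : 8 ∣ Nat.card R := by
    have := Subgroup.card_dvd_of_le (Subgroup.le_normalizer (H := (D.S : Subgroup N)))
    rwa [show Nat.card (D.S : Subgroup N) = _ from D.card_S, hm] at this
  have h3 : 3 ∣ Nat.card R := by
    obtain ⟨n, -, hn⟩ := (Nat.dvd_prime_pow Nat.prime_three).1 (orderOf_dvd_of_pow_eq_one hxk)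
    have hn0 : n ≠ 0 := by
      rintro rfl
      have hx1 : orderOf x = 1 := by simpa using hn
      exact hxA (Or.inl (by rw [orderOf_eq_one_iff.1 hx1]; simp))
    refine (hn ▸ dvd_pow_self 3 hn0).trans ?_
    rw [← Subgroup.orderOf_mk x hxR]
    exact orderOf_dvd_natCard _
  have h24 : 24 ∣ Nat.card R := Nat.Coprime.mul_dvd_of_dvd_of_dvd (by norm_num : Nat.Coprime 8 3) h8 h3
  have hmul := Subgroup.card_mul_index R
  rw [h120] at hmul
  obtain ⟨c, hc⟩ := h24
  rw [hc, mul_assoc] at hmul
  have h5 : c * R.index = 5 := by omega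
  rcases (Nat.dvd_prime Nat.prime_five).1 (Dvd.intro_left c h5 : R.index ∣ 5) with h | h
  · exfalso
    haveI : (D.S : Subgroup N).Normal :=
      Subgroup.normalizer_eq_top_iff.1 (Subgroup.index_eq_one.1 h)
    refine not_solvable_of_perfect hperf ?_
    haveI : Group.IsNilpotent (D.S : Subgroup N) := D.S.2.isNilpotent
    refine Cfsg.Agent.S3378.solvable_of_extension (D.S : Subgroup N) inferInstance ?_
    haveI : IsZGroup (N ⧸ (D.S : Subgroup N)) := IsZGroup.of_squarefree (by
      have h15 := Subgroup.card_eq_card_quotient_mul_card_subgroup (D.S : Subgroup N)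
      rw [h120, show Nat.card (D.S : Subgroup N) = _ from D.card_S, hm] at h15
      rw [show Nat.card (N ⧸ (D.S : Subgroup N)) = 15 by omega]
      decide +kernel)
    infer_instance
  · exact h

/-- The centraliser of a normal perfect `SL(2,5)`-like subgroup. -/
theorem centralizer_facts {N : Subgroup G} [N.Normal] [Nontrivial N] (D : PerfectSetup N)
    (hperf : commutator N = ⊤) (h120 : Nat.card N = 120) (hm : D.m = 1) {z : G} (hz : z = D.z)
    (hzuniq : ∀ g : G, g * g = 1 → g ≠ 1 → g = z) (hzc : ∀ g : G, g * z = z * g) :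
    (Subgroup.centralizer (N : Set G)).index ∣ 120 ∧
      (∀ g ∈ Subgroup.centralizer (N : Set G), g ∈ N → g = 1 ∨ g = z) ∧
      ∃ f : G →* Equiv.Perm (Fin 5), f.ker = Subgroup.centralizer (N : Set G) := by
  classical
  haveI : Fact (Nat.Prime 2) := ⟨Nat.prime_two⟩
  subst hz
  letI : MulDistribMulAction G N := MulDistribMulAction.compHom N (MulAut.conjNormal (H := N))
  have hsmul : ∀ (g : G) (n : N), ((g • n : N) : G) = g * n * g⁻¹ := fun g n =>
    MulAut.conjNormal_apply g n
  set φ := MulAction.toPermHom G (Sylow 2 N) with hφ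
  set C := Subgroup.centralizer (N : Set G) with hC
  have hn5 := card_sylow_eq_five D hperf h120 hm
  have hdvd : φ.ker.index ∣ 120 := by
    rw [Subgroup.index_ker]
    refine (Subgroup.card_subgroup_dvd_card φ.range).trans ?_
    rw [Nat.card_perm, hn5]
    decide +kernel
  have hCker : C ≤ φ.ker := by
    intro c hc
    refine Equiv.ext fun P => Sylow.ext (SetLike.ext fun n => ?_)
    have hfix : ∀ u : N, c • u = u := fun u => Subtype.ext (by
      rw [hsmul, (Subgroup.mem_centralizer_iff.1 hc u u.2).symm, mul_inv_cancel_right])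
    show n ∈ ((c • P : Sylow 2 N) : Subgroup N) ↔ _
    rw [Sylow.pointwise_smul_def, Subgroup.pointwise_smul_def]
    constructor
    · rintro ⟨u, hu, rfl⟩
      show c • u ∈ (P : Subgroup N)
      rwa [hfix u]
    · exact fun hn => ⟨n, hn, hfix n⟩
  have hKN : ∀ g ∈ φ.ker, g ∈ N → g = 1 ∨ g = (D.z : G) := by
    set K0 := φ.ker.subgroupOf N with hK0
    have hidx : 5 ∣ K0.index := by
      have : K0 ≤ Subgroup.normalizer (D.S : Set N) := by
        intro u hu
        have h1 : (u : G) • D.S = D.S := Equiv.congr_fun (MonoidHom.mem_ker.1 hu) D.S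
        rw [← Sylow.stabilizer_eq_normalizer, MulAction.mem_stabilizer_iff]
        refine Sylow.ext (SetLike.ext' ?_)
        have h2 := congrArg (fun P : Sylow 2 N => ((P : Subgroup N) : Set N)) h1
        rw [← h2]
        ext v
        simp only [Sylow.coe_subgroup_smul, Sylow.pointwise_smul_def, Subgroup.coe_pointwise_smul,
          Set.mem_smul_set]
        refine exists_congr fun w => and_congr_right fun _ => ?_
        rw [MulAut.smul_def, MulAut.conj_apply]
        constructor <;> intro e <;> refine Eq.trans (Subtype.ext ?_) e <;> simp [hsmul]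
      refine dvd_trans ?_ (Subgroup.index_dvd_of_le this)
      rw [← D.S.card_eq_index_normalizer, hn5]
    have hK2 : Nat.card K0 ≤ 2 := by
      by_contra hgt
      have hmul := Subgroup.card_mul_index K0
      rw [h120] at hmul
      haveI hK0n : K0.Normal := by rw [hK0]; infer_instance
      refine not_solvable_of_perfect hperf
        (Cfsg.Agent.S3378.solvable_of_extension K0 ?_ ?_)
      · have h24 : Nat.card K0 ∣ 24 := by
          obtain ⟨c, hc⟩ := hidx
          rw [hc] at hmul
          exact Dvd.intro c (by linarith)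
        exact Cfsg.Agent.S3378.solvable_of_dvd 3 1 (h24.trans (by norm_num))
      · refine solvable_small hidx ?_ (Dvd.intro_left _ hmul) K0.index_eq_card.symm
        nlinarith
    intro g hg hgN
    by_cases hg1 : g = 1
    · exact Or.inl hg1
    refine Or.inr (hzuniq g ?_ hg1)
    have h1 : orderOf (⟨g, hgN⟩ : N) ∣ Nat.card K0 :=
      Subgroup.orderOf_mk (⟨g, hgN⟩ : N) (show _ ∈ K0 from hg) ▸ orderOf_dvd_natCard _
    rw [Subgroup.orderOf_mk] at h1
    have h2 := Nat.le_of_dvd Nat.card_pos h1
    have h3 : orderOf g ≠ 1 := fun e => hg1 (orderOf_eq_one_iff.1 e)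
    have h4 := orderOf_pos g
    have h5 : g ^ 2 = 1 := by
      rw [show 2 = orderOf g by omega, pow_orderOf_eq_one]
    rwa [pow_two] at h5
  have hkerC : φ.ker ≤ C := by
    intro c hc
    rw [Subgroup.mem_centralizer_iff]
    have hmem : ∀ n : N, c * n * c⁻¹ * (n : G)⁻¹ = 1 ∨ c * n * c⁻¹ * (n : G)⁻¹ = (D.z : G) := fun n => by
      refine hKN _ ?_ (mul_mem ((inferInstance : N.Normal).conj_mem _ n.2 c) (inv_mem n.2))
      rw [show c * n * c⁻¹ * (n : G)⁻¹ = c * ((n : G) * c⁻¹ * (n : G)⁻¹) by group]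
      exact mul_mem hc ((inferInstance : φ.ker.Normal).conj_mem _ (inv_mem hc) n)
    have hcent : ∀ (n : N) (g : G), g * (c * n * c⁻¹ * (n : G)⁻¹) =
        (c * n * c⁻¹ * (n : G)⁻¹) * g := fun n g => by
      rcases hmem n with e | e <;> rw [e]
      · rw [mul_one, one_mul]
      · exact hzc g
    let f : N →* Subgroup.zpowers (D.z : G) :=
      { toFun := fun n => ⟨c * n * c⁻¹ * (n : G)⁻¹, by
          rcases hmem n with e | e <;> rw [e]
          exacts [one_mem _, Subgroup.mem_zpowers _]⟩
        map_one' := Subtype.ext (by simp)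
        map_mul' := fun u v => Subtype.ext (by
          have h := hcent v (u : G)
          show c * ((u : G) * v) * c⁻¹ * ((u : G) * v)⁻¹ =
            c * u * c⁻¹ * (u : G)⁻¹ * (c * v * c⁻¹ * (v : G)⁻¹)
          calc c * ((u : G) * v) * c⁻¹ * ((u : G) * v)⁻¹
              = (c * u * c⁻¹) * (c * v * c⁻¹ * (v : G)⁻¹) * (u : G)⁻¹ := by group
            _ = _ := by rw [mul_assoc (c * u * c⁻¹), ← hcent v, ← mul_assoc]) }
    have hle : commutator N ≤ f.ker := by
      rw [commutator_eq_closure, Subgroup.closure_le]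
      rintro _ ⟨u, v, rfl⟩
      obtain ⟨i, hi⟩ := Subgroup.mem_zpowers_iff.1 (f u).2
      obtain ⟨l, hl⟩ := Subgroup.mem_zpowers_iff.1 (f v).2
      have hcom : Commute (f u) (f v) := Subtype.ext (by
        show (f u : G) * (f v : G) = (f v : G) * (f u : G)
        rw [← hi, ← hl]
        exact ((Commute.refl _).zpow_zpow i l).eq)
      rw [SetLike.mem_coe, MonoidHom.mem_ker, commutatorElement_def, map_mul, map_mul, map_mul,
        map_inv, map_inv, hcom.eq, mul_inv_cancel_right, mul_inv_cancel]
    intro n hn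
    have h1 : f ⟨n, hn⟩ = 1 := hle (hperf ▸ Subgroup.mem_top _)
    have h2 : c * n * c⁻¹ * n⁻¹ = 1 := congrArg Subtype.val h1
    exact (mul_inv_eq_iff_eq_mul.1 (mul_inv_eq_one.1 h2)).symm
  have hkC : φ.ker = C := le_antisymm hkerC hCker
  haveI : Finite (Sylow 2 N) := inferInstance
  let e : Sylow 2 N ≃ Fin 5 := (Finite.equivFin _).trans (finCongr hn5)
  refine ⟨hkC ▸ hdvd, fun g hg hgN => hKN g (hkC.symm ▸ hg) hgN,
    e.permCongrHom.toMonoidHom.comp φ, ?_⟩
  rw [← MonoidHom.comap_ker, (MonoidHom.ker_eq_bot_iff _).2 e.permCongrHom.injective,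
    MonoidHom.comap_bot, hkC]

theorem exists_structure_aux {V : Type*} [AddCommGroup V] [Finite V] [Nontrivial V]
    {ρ : G →* AddMonoid.End V} (hρ : IsFree ρ) {p : ℕ} [Fact p.Prime] (hV : ∀ v : V, p • v = 0)
    (hns : ¬ Group.IsSolvable G) :
    ∃ N M : Subgroup G, N.Normal ∧ M.Normal ∧
      Nonempty (N ≃* Matrix.SpecialLinearGroup (Fin 2) (ZMod 5)) ∧
      (∀ n ∈ N, ∀ x ∈ M, n * x = x * n) ∧ N ⊓ M = ⊥ ∧ IsZGroup M ∧
      (Nat.card M).Coprime 30 ∧ ((N ⊔ M).index = 1 ∨ (N ⊔ M).index = 2) ∧
      ∃ f : G →* Equiv.Perm (Fin 5), IsZGroup f.ker ∧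
        (Nat.card f.range = 60 ∨ Nat.card f.range = 120) := by
  classical
  haveI : Fact (Nat.Prime 2) := ⟨Nat.prime_two⟩
  obtain ⟨W, _, _, _, σ, hσ0⟩ := exists_free_rat_module hV hρ
  have hσ : IsFreeRat (W := W) σ := fun h h1 v hv => hσ0 h h1 v hv
  obtain ⟨N, hNn, hNnt, hperf⟩ := exists_perfect_residual hns
  have hρN := map_free hρ N.subtype_injective
  obtain ⟨eN⟩ := equiv_sl25_of_perfect_free hρN hV hperf
  obtain ⟨D⟩ := exists_perfectSetup hρN (σ := σ.comp N.subtype)
    (fun h h1 v hv => hσ h (fun e => h1 (Subtype.ext e)) v hv) hperf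
  have h120 : Nat.card N = 120 := D.card_eq
  have hm : D.m = 1 := by
    have h1 := Subgroup.card_subgroup_dvd_card (D.S : Subgroup N)
    rw [show Nat.card (D.S : Subgroup N) = _ from D.card_S, h120] at h1
    have := D.m_le_two
    have := D.one_le_m
    rcases (by omega : D.m = 1 ∨ D.m = 2) with h | h
    · exact h
    · rw [h] at h1; norm_num at h1
  -- the involution
  set z : G := (D.z : G) with hz
  have hz2 : z * z = 1 := congrArg Subtype.val D.z_sq
  have hz1 : z ≠ 1 := fun h => D.z_ne (Subtype.ext h)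
  have hzuniq : ∀ g : G, g * g = 1 → g ≠ 1 → g = z := fun g hg hg1 => hσ.injective (by
    rw [hσ.map_eq_neg_one (by rw [pow_two, hg]) hg1,
      hσ.map_eq_neg_one (by rw [pow_two, hz2]) hz1])
  have hzc : ∀ g : G, g * z = z * g := fun g => hσ.injective (by
    rw [map_mul, map_mul, hσ.map_eq_neg_one (by rw [pow_two, hz2]) hz1, mul_neg_one,
      neg_one_mul])
  set C := Subgroup.centralizer (N : Set G) with hC
  haveI hCn : C.Normal := Subgroup.normal_centralizer
  obtain ⟨hdvd, hNC, f5, hf5⟩ := centralizer_facts D hperf h120 hm hz hzuniq hzc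
  have hzN : z ∈ N := D.z.2
  have hzC : z ∈ C := Subgroup.mem_centralizer_iff.2 fun n _ => hzc n
  -- the odd part of `C`
  have hC2 : ∀ c ∈ C, (∃ k, c ^ 2 ^ k = 1) → c = 1 ∨ c = z := by
    intro c hc ⟨k, hk⟩
    induction k generalizing c with
    | zero => exact Or.inl (by simpa using hk)
    | succ k ih =>
      rw [pow_succ', pow_mul] at hk
      rcases ih (c ^ 2) (pow_mem hc 2) hk with e | e
      · by_cases h1 : c = 1
        · exact Or.inl h1
        · exact Or.inr (hzuniq c (by rwa [← pow_two]) h1)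
      · exfalso
        have hcomm : Commute c (D.a : G) := (Subgroup.mem_centralizer_iff.1 hc _ D.a.2).symm
        have ha : (D.a : G) * D.a = z := congrArg Subtype.val D.a_sq
        have h1 : c * (D.a : G)⁻¹ * (c * (D.a : G)⁻¹) = 1 := by
          calc c * (D.a : G)⁻¹ * (c * (D.a : G)⁻¹) = c * ((D.a : G)⁻¹ * c) * (D.a : G)⁻¹ := by group
            _ = (c * c) * ((D.a : G) * D.a)⁻¹ := by rw [← hcomm.inv_right.eq]; group
            _ = 1 := by rw [← pow_two, e, ha, mul_inv_cancel]
        have h2 : c ∈ N := by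
          by_cases h3 : c * (D.a : G)⁻¹ = 1
          · rw [mul_inv_eq_one.1 h3]; exact D.a.2
          · rw [mul_inv_eq_iff_eq_mul.1 (hzuniq _ h1 h3)]
            exact mul_mem hzN D.a.2
        rcases hNC c hc h2 with rfl | rfl
        · exact hz1 (by rw [← e, one_pow])
        · exact hz1 (by rw [← e, pow_two, hz2])
  obtain ⟨P⟩ : Nonempty (Sylow 2 C) := Sylow.nonempty
  have hzCn : Nat.card (Subgroup.zpowers z) = 2 := by
    rw [Nat.card_zpowers]
    exact orderOf_eq_prime (by rw [pow_two, hz2]) hz1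
  have hPz : (P : Subgroup C).map C.subtype ≤ Subgroup.zpowers z := by
    rintro _ ⟨u, hu, rfl⟩
    obtain ⟨k, hk⟩ := P.2 ⟨u, hu⟩
    rcases hC2 u u.2 ⟨k, by simpa using congrArg (fun w : P => ((w : C) : G)) hk⟩ with e | e <;>
      rw [Subgroup.coe_subtype, e]
    exacts [one_mem _, Subgroup.mem_zpowers _]
  haveI hPc : IsCyclic P := by
    haveI : IsCyclic ((P : Subgroup C).map C.subtype) :=
      isCyclic_of_injective (Subgroup.inclusion hPz) (Subgroup.inclusion_injective hPz)
    exact isCyclic_of_injective ((P : Subgroup C).equivMapOfInjective C.subtype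
      C.subtype_injective).toMonoidHom (MulEquiv.injective _)
  have heven : (Nat.card C).minFac = 2 := by
    rw [Nat.minFac_eq_two_iff, ← hzCn]
    exact Subgroup.card_dvd_of_le (Subgroup.zpowers_le.2 hzC)
  have hcompl := IsCyclic.isComplement' heven hPc
  set K := (MonoidHom.transferSylow P (hPc.normalizer_le_centralizer heven)).ker with hK
  have hKodd : ¬ 2 ∣ Nat.card K := MonoidHom.not_dvd_card_ker_transferSylow P _
  set M := K.map C.subtype with hM
  have hMcard : Nat.card M = Nat.card K := Subgroup.card_map_of_injective C.subtype_injective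
  have hMC : M ≤ C := Subgroup.map_subtype_le _
  haveI hKchar : K.Characteristic := by
    refine Subgroup.characteristic_iff_map_le.2 fun σ => ?_
    rintro _ ⟨u, hu, rfl⟩
    show σ u ∈ K
    rw [hK, MonoidHom.mem_ker, ← orderOf_eq_one_iff]
    obtain ⟨k, hk⟩ := P.2 (MonoidHom.transferSylow P (hPc.normalizer_le_centralizer heven) (σ u))
    refine Nat.eq_one_of_dvd_coprimes ?_ (orderOf_dvd_of_pow_eq_one hk)
      ((orderOf_map_dvd _ _).trans (by rw [MulEquiv.orderOf_eq]))
    refine Nat.Coprime.pow_left k ((Nat.Prime.coprime_iff_not_dvd Nat.prime_two).2 fun h => hKodd ?_)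
    exact h.trans (Subgroup.orderOf_mk u hu ▸ orderOf_dvd_natCard _)
  haveI hMn : M.Normal := ConjAct.normal_of_characteristic_of_normal
  have hMr : ∀ r : ℕ, r.Prime → r ∣ Nat.card M → r ≠ 2 ∧ ¬ r ∣ 120 := by
    intro r hr hrM
    have hr2 : r ≠ 2 := fun e => hKodd (hMcard ▸ e ▸ hrM)
    refine ⟨hr2, fun h => ?_⟩
    haveI := Fact.mk hr
    obtain ⟨⟨c, hc⟩, hcr⟩ := exists_prime_orderOf_dvd_card' r hrM
    obtain ⟨⟨u, hu⟩, hur⟩ := exists_prime_orderOf_dvd_card' r (h120.symm ▸ h : r ∣ Nat.card N)
    rw [Subgroup.orderOf_mk] at hcr hur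
    have hcu : Commute c u := (Subgroup.mem_centralizer_iff.1 (hMC hc) u hu).symm
    have hmem := mem_zpowers_of_free hρ (a := u) (b := c) hur
      (hcr ▸ pow_orderOf_eq_one c) hcu.symm
    rcases hNC c (hMC hc) (Subgroup.zpowers_le.2 hu hmem) with e | e
    · rw [e, orderOf_one] at hcr; exact hr.ne_one hcr.symm
    · rw [e, orderOf_eq_prime (p := 2) (by rw [pow_two, hz2]) hz1] at hcr; exact hr2 hcr.symm
  haveI hMz : IsZGroup M := ⟨fun r hr P' => by
    haveI := Fact.mk hr
    by_cases hr2 : r = 2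
    · subst hr2
      have : (P' : Subgroup M) = ⊥ := by
        obtain ⟨k, hk⟩ := P'.2.exists_card_eq
        rcases eq_or_ne k 0 with rfl | hk0
        · exact Subgroup.card_eq_one.1 (by simpa using hk)
        · exact absurd ((hk ▸ dvd_pow_self 2 hk0).trans (Subgroup.card_subgroup_dvd_card _))
            (hMcard ▸ hKodd)
      rw [this]; infer_instance
    · haveI := isCyclic_of_free_of_odd hρ hr2 (P'.2.map M.subtype)
      exact isCyclic_of_injective ((P' : Subgroup M).equivMapOfInjective M.subtype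
        M.subtype_injective).toMonoidHom (MulEquiv.injective _)⟩
  refine ⟨N, M, hNn, hMn, ⟨eN⟩, fun n hn x hx => Subgroup.mem_centralizer_iff.1 (hMC hx) n hn,
    ?_, hMz, ?_, ?_⟩
  · rw [Subgroup.eq_bot_iff_forall]
    rintro g ⟨hgN, hgM⟩
    refine (hNC g (hMC hgM) hgN).resolve_right fun e => hKodd ?_
    rw [← hMcard, ← orderOf_eq_prime (p := 2) (x := z) (by rw [pow_two, hz2]) hz1, ← e,
      ← Subgroup.orderOf_mk g hgM]
    exact orderOf_dvd_natCard _
  · refine Nat.coprime_of_dvd' fun r hr hrM hr30 => ?_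
    exact absurd (hr30.trans (by norm_num : (30 : ℕ) ∣ 120)) (hMr r hr hrM).2
  · have hsup : N ⊔ M = N ⊔ C := by
      refine le_antisymm (sup_le_sup_left hMC N) (sup_le le_sup_left fun c hc => ?_)
      obtain ⟨⟨⟨n, hn⟩, ⟨q, hq⟩⟩, hnq⟩ := hcompl.2 ⟨c, hc⟩
      have hcq : c = (n : G) * q := (congrArg Subtype.val hnq).symm
      rw [hcq]
      exact mul_mem (Subgroup.mem_sup_right ⟨n, hn, rfl⟩)
        (Subgroup.mem_sup_left (Subgroup.zpowers_le.2 hzN (hPz ⟨q, hq, rfl⟩)))
    rw [hsup]
    have hcard : C.relIndex N = 60 := by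
      have h1 := Subgroup.card_mul_index (C.subgroupOf N)
      have h2 : Nat.card (C.subgroupOf N) = 2 := by
        rw [show C.subgroupOf N = Subgroup.zpowers D.z from le_antisymm ?_ ?_, Nat.card_zpowers]
        · exact orderOf_eq_prime (by rw [pow_two, D.z_sq]) D.z_ne
        · intro u hu
          rcases hNC u hu u.2 with e | e
          · rw [show u = 1 from Subtype.ext e]; exact one_mem _
          · rw [show u = D.z from Subtype.ext e]; exact Subgroup.mem_zpowers _
        · rw [Subgroup.zpowers_le]; exact hzC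
      rw [h2, h120] at h1
      show (C.subgroupOf N).index = 60
      omega
    have hmul := Subgroup.relIndex_mul_index (le_sup_right : C ≤ N ⊔ C)
    rw [Subgroup.relIndex_sup_right (H := N) (K := C), hcard] at hmul
    rw [← hmul] at hdvd
    have := Nat.le_of_dvd (by norm_num) hdvd
    have h0 : (N ⊔ C).index ≠ 0 := Subgroup.FiniteIndex.index_ne_zero
    refine ⟨by omega, f5, ?_, ?_⟩
    · rw [hf5]
      refine ⟨fun r hr P' => ?_⟩
      haveI := Fact.mk hr
      by_cases hr2 : r = 2
      · subst hr2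
        exact isCyclic_of_injective (P'.equiv P).toMonoidHom (P'.equiv P).injective
      · haveI := isCyclic_of_free_of_odd hρ hr2 (P'.2.map C.subtype)
        exact isCyclic_of_injective ((P' : Subgroup C).equivMapOfInjective C.subtype
          C.subtype_injective).toMonoidHom (MulEquiv.injective _)
    · rw [← Subgroup.index_ker, hf5, ← hmul]
      omega

theorem exists_structure_of_not_solvable {V : Type*} [AddCommGroup V] [Finite V] [Nontrivial V]
    {ρ : G →* AddMonoid.End V} (hρ : IsFree ρ) {p : ℕ} [Fact p.Prime] (hV : ∀ v : V, p • v = 0)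
    (hns : ¬ Group.IsSolvable G) :
    ∃ N M : Subgroup G, N.Normal ∧ M.Normal ∧
      Nonempty (N ≃* Matrix.SpecialLinearGroup (Fin 2) (ZMod 5)) ∧
      (∀ n ∈ N, ∀ x ∈ M, n * x = x * n) ∧ N ⊓ M = ⊥ ∧ IsZGroup M ∧
      (Nat.card M).Coprime 30 ∧ ((N ⊔ M).index = 1 ∨ (N ⊔ M).index = 2) := by
  obtain ⟨N, M, h1, h2, h3, h4, h5, h6, h7, h8, -⟩ := exists_structure_aux hρ hV hns
  exact ⟨N, M, h1, h2, h3, h4, h5, h6, h7, h8⟩

end CfsgLib.FrobComp
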