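import Mathlib
import Cfsg.Agent.Solvable.FrobeniusBasic

/-!
# Free linear actions and Frobenius complements

An action `ρ : H →* AddMonoid.End M` is free when no `h ≠ 1` fixes a non-zero element.

* `exists_frobenius_of_free`: a free action on a finite nontrivial module makes `H` the complement
  of a Frobenius group with kernel of order `#M`.
* `exists_frobenius_of_free_torsionFree`: a free action on a torsion-free module does so too
  (reduce a lattice modulo a prime).
-/

set_option autoImplicit false
set_option linter.style.haveILetI false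

namespace CfsgLib.FrobComp

open Cfsg

variable {H : Type*} [Group H] {M : Type*} [AddCommGroup M]

/-- No non-identity element fixes a non-zero element. -/
def IsFree (ρ : H →* AddMonoid.End M) : Prop :=
  ∀ h : H, h ≠ 1 → ∀ x : M, ρ h x = x → x = 0

theorem sum_pow_apply_eq_zero_of_free {ρ : H →* AddMonoid.End M} (hρ : IsFree ρ) [Finite H]
    {h : H} (h1 : h ≠ 1) (x : M) : ∑ i ∈ Finset.range (orderOf h), ρ (h ^ i) x = 0 := by
  refine hρ h h1 _ ?_
  rw [map_sum]
  have : ∀ i, ρ h (ρ (h ^ i) x) = ρ (h ^ (i + 1)) x := fun i => by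
    rw [pow_succ', map_mul]; rfl
  simp only [this]
  have h2 := Finset.sum_range_succ' (fun i => ρ (h ^ i) x) (orderOf h)
  rw [Finset.sum_range_succ, pow_orderOf_eq_one, pow_zero, add_left_inj] at h2
  exact h2.symm

theorem orderOf_nsmul_eq_zero {ρ : H →* AddMonoid.End M} {h : H} {x : M}
    (hs : ∑ i ∈ Finset.range (orderOf h), ρ (h ^ i) x = 0) (hx : ρ h x = x) :
    orderOf h • x = 0 := by
  have : ∀ i, ρ (h ^ i) x = x := fun i => by
    induction i with
    | zero => rw [pow_zero, map_one]; rfl
    | succ i ih => rw [pow_succ, map_mul]; show ρ (h ^ i) (ρ h x) = x; rw [hx, ih]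
  rw [Finset.sum_congr rfl fun i _ => this i, Finset.sum_const, Finset.card_range] at hs
  exact hs

theorem orderOf_coprime_of_free [Finite H] {ρ : H →* AddMonoid.End M} [Finite M] [Nontrivial M]
    (hρ : IsFree ρ) {h : H} (h1 : h ≠ 1) {x : M} (hx : orderOf h • x = 0) (hx0 : x ≠ 0)
    (hp : (orderOf h).Prime) : False := by
  have := Fact.mk hp
  let K : AddSubgroup M := (nsmulAddMonoidHom (orderOf h)).ker
  have hKinv : ∀ (g : H) (y : M), y ∈ K → ρ g y ∈ K := fun g y hy => by
    show orderOf h • ρ g y = 0
    rw [← map_nsmul, show orderOf h • y = 0 from hy, map_zero]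
  letI : MulAction (Subgroup.zpowers h) K :=
    { smul := fun g y => ⟨ρ g y.1, hKinv g _ y.2⟩
      one_smul := fun y => Subtype.ext (by
        show ρ ((1 : Subgroup.zpowers h) : H) y.1 = y.1
        rw [Subgroup.coe_one, map_one]; rfl)
      mul_smul := fun g g' y => Subtype.ext (by
        show ρ ((g * g' : Subgroup.zpowers h) : H) y.1 = ρ g (ρ g' y.1)
        rw [Subgroup.coe_mul, map_mul]; rfl) }
  have hP : IsPGroup (orderOf h) (Subgroup.zpowers h) :=
    IsPGroup.of_card (n := 1) (by rw [Nat.card_zpowers, pow_one])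
  have hKcard : orderOf h ∣ Nat.card K := by
    have h2 : addOrderOf (⟨x, hx⟩ : K) = orderOf h := addOrderOf_eq_prime (Subtype.ext hx)
      fun e => hx0 (congrArg Subtype.val e)
    exact h2 ▸ addOrderOf_dvd_natCard _
  obtain ⟨y, hy, hy0⟩ := hP.exists_fixed_point_of_prime_dvd_card_of_fixed_point K hKcard
    (a := 0) (fun g => Subtype.ext (map_zero (ρ (g : H))))
  refine hy0 (Subtype.ext ?_)
  exact (hρ h h1 y.1 (congrArg Subtype.val (hy ⟨h, Subgroup.mem_zpowers h⟩))).symm

/-- In a finite module with a free action, the order of the group is prime to the module. -/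
theorem nsmul_orderOf_injective [Finite H] [Finite M] [Nontrivial M] {ρ : H →* AddMonoid.End M}
    (hρ : IsFree ρ) {p : ℕ} [hp : Fact p.Prime] (hpH : p ∣ Nat.card H) {x : M} (hx : p • x = 0) :
    x = 0 := by
  by_contra hx0
  obtain ⟨h, hh⟩ := exists_prime_orderOf_dvd_card' p hpH
  refine orderOf_coprime_of_free hρ (h := h) (fun e => hp.out.ne_one ?_) (hh ▸ hx) hx0 (hh ▸ hp.out)
  rw [← hh, e, orderOf_one]

theorem card_range_of_injective {A B : Type*} [Group A] [Group B] {f : A →* B}
    (hf : Function.Injective f) : Nat.card f.range = Nat.card A :=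
  (Nat.card_congr (MonoidHom.ofInjective hf).toEquiv).symm

theorem exists_frobenius_of_free_aux {G₀ V : Type} [Group G₀] [Finite G₀] [Nontrivial G₀]
    [AddCommGroup V] [Finite V] [Nontrivial V] {ρ : G₀ →* AddMonoid.End V} (hρ : IsFree ρ) :
    ∃ (L : Type) (_ : Group L) (_ : Finite L) (C : Subgroup L),
      IsFrobeniusComplement C ∧ Nonempty (G₀ ≃* C) ∧ Nat.card (frobeniusKernel C) = Nat.card V := by
  let toMul : G₀ →* MulAut (Multiplicative V) :=
    { toFun := fun g =>
        { toFun := fun x => Multiplicative.ofAdd (ρ g x.toAdd)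
          invFun := fun x => Multiplicative.ofAdd (ρ g⁻¹ x.toAdd)
          left_inv := fun x => by
            show Multiplicative.ofAdd ((ρ g⁻¹ * ρ g) x.toAdd) = x
            rw [← map_mul, inv_mul_cancel, map_one]; rfl
          right_inv := fun x => by
            show Multiplicative.ofAdd ((ρ g * ρ g⁻¹) x.toAdd) = x
            rw [← map_mul, mul_inv_cancel, map_one]; rfl
          map_mul' := fun x y => by
            show Multiplicative.ofAdd (ρ g (x * y).toAdd) = _
            rw [toAdd_mul, map_add]; rfl }
      map_one' := MulEquiv.ext fun x => by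
        show Multiplicative.ofAdd (ρ 1 x.toAdd) = x
        rw [map_one]; rfl
      map_mul' := fun g g' => MulEquiv.ext fun x => by
        show Multiplicative.ofAdd (ρ (g * g') x.toAdd) = _
        rw [map_mul]; rfl }
  let L := Multiplicative V ⋊[toMul] G₀
  have : Finite L := Finite.of_equiv _ SemidirectProduct.equivProd.symm
  let N : Subgroup L := (SemidirectProduct.inl : Multiplicative V →* L).range
  let C : Subgroup L := (SemidirectProduct.inr : G₀ →* L).range
  have hN : N.Normal := by
    show (SemidirectProduct.inl : Multiplicative V →* L).range.Normal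
    rw [SemidirectProduct.range_inl_eq_ker_rightHom]
    exact MonoidHom.normal_ker _
  have hc : N.IsComplement' C := by
    refine Subgroup.isComplement'_of_card_mul_and_disjoint ?_ ?_
    · rw [card_range_of_injective SemidirectProduct.inl_injective,
        card_range_of_injective SemidirectProduct.inr_injective, SemidirectProduct.card]
    · rw [disjoint_iff, Subgroup.eq_bot_iff_forall]
      rintro _ ⟨⟨v, rfl⟩, ⟨g, hg⟩⟩
      have h1 := congrArg SemidirectProduct.left hg
      simp only [SemidirectProduct.left_inr, SemidirectProduct.left_inl] at h1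
      rw [← h1, map_one]
  have hN1 : N ≠ ⊥ := by
    rw [← Subgroup.one_lt_card_iff_ne_bot, card_range_of_injective SemidirectProduct.inl_injective]
    exact Finite.one_lt_card
  have hC1 : C ≠ ⊥ := by
    rw [← Subgroup.one_lt_card_iff_ne_bot, card_range_of_injective SemidirectProduct.inr_injective]
    exact Finite.one_lt_card
  have hfpf : ∀ c ∈ C, c ≠ 1 → N ⊓ Subgroup.centralizer {c} = ⊥ := by
    rintro _ ⟨g, rfl⟩ hg1
    rw [Subgroup.eq_bot_iff_forall]
    rintro _ ⟨⟨v, rfl⟩, hv⟩
    change SemidirectProduct.inl v ∈ Subgroup.centralizer _ at hv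
    rw [Subgroup.mem_centralizer_singleton_iff] at hv
    have h1 : toMul g v = v := SemidirectProduct.inl_injective <| by
      rw [SemidirectProduct.inl_aut, map_inv, mul_inv_eq_iff_eq_mul]
      first | exact hv | exact hv.symm
    have h2 := hρ g (fun e => hg1 (by rw [e, map_one])) v.toAdd
      (congrArg Multiplicative.toAdd h1)
    rw [← ofAdd_toAdd v, h2, ofAdd_zero, map_one]
  have hFC := (CfsgLib.Solvable.isFrobeniusComplement_iff_fpf hc hN1 hC1).mpr hfpf
  refine ⟨L, inferInstance, inferInstance, C, hFC,
    ⟨MonoidHom.ofInjective SemidirectProduct.inr_injective⟩, ?_⟩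
  rw [Nat.card_coe_set_eq, CfsgLib.Solvable.ncard_kernel_eq hFC,
    hc.index_eq_card, card_range_of_injective SemidirectProduct.inl_injective]
  exact Nat.card_congr Multiplicative.toAdd

/-- A free action on a finite nontrivial module makes the group a Frobenius complement. -/
theorem exists_frobenius_of_free [Finite H] [Nontrivial H] [Finite M] [Nontrivial M]
    {ρ : H →* AddMonoid.End M} (hρ : IsFree ρ) :
    ∃ (L : Type) (_ : Group L) (_ : Finite L) (C : Subgroup L),
      IsFrobeniusComplement C ∧ Nonempty (H ≃* C) ∧ Nat.card (frobeniusKernel C) = Nat.card M := by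
  have : Small.{0} H := Countable.toSmall H
  have : Small.{0} M := Countable.toSmall M
  let eH' : Shrink.{0} H ≃* H := Shrink.mulEquiv
  let eM' : Shrink.{0} M ≃+ M := Shrink.addEquiv
  have : Finite (Shrink.{0} H) := Finite.of_equiv H eH'.symm.toEquiv
  have : Finite (Shrink.{0} M) := Finite.of_equiv M eM'.symm.toEquiv
  have : Nontrivial (Shrink.{0} H) := eH'.toEquiv.nontrivial
  have : Nontrivial (Shrink.{0} M) := eM'.toEquiv.nontrivial
  let ρ' : Shrink.{0} H →* AddMonoid.End (Shrink.{0} M) :=
    { toFun := fun g => eM'.symm.toAddMonoidHom.comp ((ρ (eH' g)).comp eM'.toAddMonoidHom)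
      map_one' := by
        refine AddMonoidHom.ext fun x => ?_
        show eM'.symm (ρ (eH' 1) (eM' x)) = x
        rw [map_one, map_one]; exact eM'.symm_apply_apply x
      map_mul' := fun g g' => by
        refine AddMonoidHom.ext fun x => ?_
        show eM'.symm (ρ (eH' (g * g')) (eM' x)) =
          eM'.symm (ρ (eH' g) (eM' (eM'.symm (ρ (eH' g') (eM' x)))))
        rw [map_mul, map_mul, eM'.apply_symm_apply]; rfl }
  have hρ' : IsFree ρ' := fun g hg x hx => by
    have hx' : ρ (eH' g) (eM' x) = eM' x := by
      have := congrArg eM' (show eM'.symm (ρ (eH' g) (eM' x)) = x from hx)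
      rwa [eM'.apply_symm_apply] at this
    have := hρ (eH' g) (fun e => hg (eH'.injective (by rw [e, map_one]))) _ hx'
    exact eM'.injective (this.trans (map_zero eM').symm)
  obtain ⟨L, hL, hLf, C, hC, ⟨e⟩, hcard⟩ := exists_frobenius_of_free_aux hρ'
  exact ⟨L, hL, hLf, C, hC, ⟨eH'.symm.trans e⟩, by rw [hcard, Nat.card_congr eM'.toEquiv]⟩

/-- A free action on a torsion-free module makes the group a Frobenius complement. -/
theorem exists_frobenius_of_free_torsionFree [Finite H] [Nontrivial H] [IsAddTorsionFree M]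
    [Nontrivial M] {ρ : H →* AddMonoid.End M} (hρ : IsFree ρ) :
    ∃ (L : Type) (_ : Group L) (_ : Finite L) (C : Subgroup L),
      IsFrobeniusComplement C ∧ Nonempty (H ≃* C) := by
  classical
  obtain ⟨v, hv⟩ := exists_ne (0 : M)
  let Λ : Submodule ℤ M := Submodule.span ℤ (Set.range fun h => ρ h v)
  have : Module.Finite ℤ Λ := Module.Finite.iff_fg.mpr (Submodule.fg_span (Set.finite_range _))
  let b := Module.Free.chooseBasis ℤ Λ
  have hΛ : ∀ (g : H) (x : M), x ∈ Λ → ρ g x ∈ Λ := by
    intro g x hx
    induction hx using Submodule.span_induction with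
    | mem y hy =>
      obtain ⟨h, rfl⟩ := hy
      refine Submodule.subset_span ⟨g * h, ?_⟩
      show ρ (g * h) v = ρ g (ρ h v)
      rw [map_mul]; rfl
    | zero => rw [map_zero]; exact zero_mem _
    | add y z _ _ hy hz => rw [map_add]; exact add_mem hy hz
    | smul n y _ hy => rw [map_zsmul]; exact Submodule.smul_mem _ n hy
  obtain ⟨p, hpgt, hp⟩ := Nat.exists_infinite_primes (Nat.card H + 1)
  have := Fact.mk hp
  let S : AddSubgroup Λ := (nsmulAddMonoidHom p : Λ →+ Λ).range
  have hne : Nonempty (Module.Free.ChooseBasisIndex ℤ Λ) := by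
    by_contra h
    rw [not_nonempty_iff] at h
    have hvΛ : v ∈ Λ := Submodule.subset_span ⟨1, by show ρ 1 v = v; rw [map_one]; rfl⟩
    have := b.ext_elem (x := ⟨v, hvΛ⟩) (y := 0) (fun i => isEmptyElim i)
    exact hv (congrArg Subtype.val this)
  let Q := Λ ⧸ S
  have hQnt : Nontrivial Q := by
    obtain ⟨i⟩ := hne
    refine ⟨⟨(b i : Q), 0, fun e => ?_⟩⟩
    obtain ⟨y, hy⟩ := (QuotientAddGroup.eq_zero_iff _).mp e
    have h1 := congrArg (fun z => b.repr z i) hy
    simp only [nsmulAddMonoidHom_apply, map_nsmul, Finsupp.smul_apply, b.repr_self,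
      Finsupp.single_eq_same, nsmul_eq_mul] at h1
    rcases Int.eq_one_or_neg_one_of_mul_eq_one h1 with h2 | h2 <;>
      · have := hp.two_le; omega
  have hQtor : ∀ q : Q, p • q = 0 := fun q => by
    induction q using QuotientAddGroup.induction_on with
    | _ y =>
      rw [← QuotientAddGroup.mk_nsmul, QuotientAddGroup.eq_zero_iff]
      exact ⟨y, rfl⟩
  have hQfin : Finite Q := by
    have : AddGroup.FG Λ := Module.Finite.iff_addGroup_fg.mp inferInstance
    refine AddCommGroup.finite_of_fg_isAddTorsion Q fun q => ?_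
    exact isOfFinAddOrder_iff_nsmul_eq_zero.mpr ⟨p, hp.pos, hQtor q⟩
  let act : H → (Λ →+ Λ) := fun g =>
    { toFun := fun x => ⟨ρ g x.1, hΛ g x.1 x.2⟩
      map_zero' := Subtype.ext (map_zero (ρ g))
      map_add' := fun x y => Subtype.ext (map_add (ρ g) x.1 y.1) }
  have hact : ∀ g, S ≤ S.comap (act g) := fun g => by
    rintro _ ⟨y, rfl⟩
    exact ⟨act g y, (map_nsmul (act g) p y).symm⟩
  let ρQ : H →* AddMonoid.End Q :=
    { toFun := fun g => QuotientAddGroup.map S S (act g) (hact g)
      map_one' := by
        refine AddMonoidHom.ext fun q => ?_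
        induction q using QuotientAddGroup.induction_on with
        | _ y =>
          show ((act 1 y : Λ) : Q) = _
          congr 1
          exact Subtype.ext (by show ρ 1 y.1 = y.1; rw [map_one]; rfl)
      map_mul' := fun g g' => by
        refine AddMonoidHom.ext fun q => ?_
        induction q using QuotientAddGroup.induction_on with
        | _ y =>
          show ((act (g * g') y : Λ) : Q) = ((act g (act g' y) : Λ) : Q)
          congr 1
          exact Subtype.ext (by show ρ (g * g') y.1 = ρ g (ρ g' y.1); rw [map_mul]; rfl) }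
  have hfreeQ : IsFree ρQ := fun g hg q hq => by
    induction q using QuotientAddGroup.induction_on with
    | _ y =>
      have hs : ∑ i ∈ Finset.range (orderOf g), ρQ (g ^ i) (y : Q) = 0 := by
        show ∑ i ∈ Finset.range (orderOf g), (QuotientAddGroup.mk' S) (act (g ^ i) y) = 0
        rw [← map_sum]
        convert map_zero (QuotientAddGroup.mk' S)
        refine Subtype.ext ?_
        rw [AddSubmonoidClass.coe_finsetSum]
        exact sum_pow_apply_eq_zero_of_free hρ hg y.1
      have h1 := orderOf_nsmul_eq_zero hs hq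
      have hle : orderOf g ≤ Nat.card H := Nat.le_of_dvd Nat.card_pos (orderOf_dvd_natCard g)
      have hcop : (orderOf g).Coprime p := (hp.coprime_iff_not_dvd.mpr fun h => by
        have := Nat.le_of_dvd (orderOf_pos g) h; omega).symm
      have h2 := Nat.dvd_gcd (addOrderOf_dvd_of_nsmul_eq_zero h1)
        (addOrderOf_dvd_of_nsmul_eq_zero (hQtor (y : Q)))
      rw [hcop.gcd_eq_one, Nat.dvd_one, AddMonoid.addOrderOf_eq_one_iff] at h2
      exact h2
  obtain ⟨L, hL, hLf, C, hC, he, -⟩ := exists_frobenius_of_free hfreeQ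
  exact ⟨L, hL, hLf, C, hC, he⟩

end CfsgLib.FrobComp
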