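import Cfsg.Agent.FrobComp.FreeAction

/-!
# Finite subgroups of division rings are Frobenius complements
-/

set_option autoImplicit false

namespace CfsgLib.FrobComp

open Cfsg

theorem exists_frobenius_of_injective_divisionRing {H : Type*} [Group H] [Finite H] [Nontrivial H]
    {D : Type*} [DivisionRing D] (f : H →* D) (hf : Function.Injective f) :
    ∃ (L : Type) (_ : Group L) (_ : Finite L) (C : Subgroup L),
      IsFrobeniusComplement C ∧ Nonempty (H ≃* C) := by
  let ρ : H →* AddMonoid.End D :=
    { toFun := fun h => AddMonoidHom.mulLeft (f h)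
      map_one' := AddMonoidHom.ext fun x => by show f 1 * x = x; rw [map_one, one_mul]
      map_mul' := fun g h => AddMonoidHom.ext fun x => by
        show f (g * h) * x = f g * (f h * x); rw [map_mul, mul_assoc] }
  have hρ : IsFree ρ := fun h h1 x hx => by
    by_contra hx0
    refine h1 (hf ?_)
    rw [map_one]
    exact mul_right_cancel₀ hx0 ((show f h * x = x from hx).trans (one_mul x).symm)
  obtain ⟨p, hchar⟩ := CharP.exists D
  rcases CharP.char_is_prime_or_zero D p with hp | hp
  · -- characteristic `p`: the additive span of the image is finite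
    let M : AddSubgroup D := AddSubgroup.closure (Set.range f)
    have hM : ∀ (h : H) (x : D), x ∈ M → f h * x ∈ M := fun h x hx => by
      induction hx using AddSubgroup.closure_induction with
      | mem y hy =>
        obtain ⟨g, rfl⟩ := hy
        exact AddSubgroup.subset_closure ⟨h * g, map_mul f h g⟩
      | zero => rw [mul_zero]; exact zero_mem _
      | add y z _ _ hy hz => rw [mul_add]; exact add_mem hy hz
      | neg y _ hy => rw [mul_neg]; exact neg_mem hy
    have : AddGroup.FG M := by
      rw [AddGroup.fg_iff_addSubgroup_fg]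
      exact (AddSubgroup.fg_iff _).mpr ⟨Set.range f, rfl, Set.finite_range f⟩
    have : Finite M := AddCommGroup.finite_of_fg_isAddTorsion M fun x =>
      isOfFinAddOrder_iff_nsmul_eq_zero.mpr
        ⟨p, hp.pos, Subtype.ext (by simp)⟩
    have : Nontrivial M := by
      refine ⟨⟨⟨1, AddSubgroup.subset_closure ⟨1, map_one f⟩⟩, 0, fun e => ?_⟩⟩
      exact one_ne_zero (congrArg Subtype.val e)
    let ρM : H →* AddMonoid.End M :=
      { toFun := fun h => ((ρ h).comp M.subtype).codRestrict M fun x => hM h x.1 x.2
        map_one' := AddMonoidHom.ext fun x => Subtype.ext (by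
          show ρ 1 x.1 = x.1; rw [map_one]; rfl)
        map_mul' := fun g h => AddMonoidHom.ext fun x => Subtype.ext (by
          show ρ (g * h) x.1 = ρ g (ρ h x.1); rw [map_mul]; rfl) }
    have hρM : IsFree ρM := fun h h1 x hx => Subtype.ext (hρ h h1 x.1 (congrArg Subtype.val hx))
    obtain ⟨L, hL, hLf, C, hC, he, -⟩ := exists_frobenius_of_free hρM
    exact ⟨L, hL, hLf, C, hC, he⟩
  · subst hp
    have : CharZero D := CharP.charP_to_charZero D
    exact exists_frobenius_of_free_torsionFree hρ

/-- The homomorphism from a generalized quaternion group given by two elements. -/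
noncomputable def quaternionHom {G : Type*} [Monoid G] (n : ℕ) [NeZero n] (u v : G)
    (hu : u ^ (2 * n) = 1) (hv : v * v = u ^ n) (hc : v * u = u ^ (2 * n - 1) * v) :
    QuaternionGroup n →* G where
  toFun
    | .a i => u ^ i.val
    | .xa i => v * u ^ i.val
  map_one' := by
    show u ^ (0 : ZMod (2 * n)).val = 1
    rw [ZMod.val_zero, pow_zero]
  map_mul' := by
    have hadd : ∀ i j : ZMod (2 * n), u ^ (i + j).val = u ^ i.val * u ^ j.val := fun i j => by
      rw [ZMod.val_add, ← pow_add, pow_eq_pow_mod _ hu, pow_eq_pow_mod (i.val + j.val) hu,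
        Nat.mod_mod]
    have hcomm : ∀ i : ZMod (2 * n), u ^ i.val * v = v * u ^ (-i).val := by
      have h1 : v * u ^ (2 * n - 1) = u * v := by
        have : ∀ k : ℕ, v * u ^ k = u ^ ((2 * n - 1) * k) * v := by
          intro k
          induction k with
          | zero => simp
          | succ k ih =>
            rw [pow_succ, ← mul_assoc, ih, mul_assoc, hc, ← mul_assoc, ← pow_add]
            ring_nf
        rw [this, pow_eq_pow_mod _ hu]
        have hn := NeZero.pos n
        have : (2 * n - 1) * (2 * n - 1) % (2 * n) = 1 % (2 * n) := by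
          apply (ZMod.natCast_eq_natCast_iff' _ _ _).mp
          push_cast [Nat.cast_sub (show 1 ≤ 2 * n by omega)]
          have h0 : ((2 * n : ℕ) : ZMod (2 * n)) = 0 := ZMod.natCast_self _
          push_cast at h0
          rw [h0]
          ring
        rw [this, Nat.mod_eq_of_lt (by omega), pow_one]
      intro i
      have h2 : ∀ k : ℕ, u ^ k * v = v * u ^ ((2 * n - 1) * k) := by
        intro k
        induction k with
        | zero => simp
        | succ k ih =>
          rw [pow_succ, mul_assoc, ← h1, ← mul_assoc, ih, mul_assoc, ← pow_add]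
          ring_nf
      rw [h2, pow_eq_pow_mod _ hu]
      congr 2
      rw [← ZMod.val_natCast]
      congr 1
      have hn := NeZero.pos n
      push_cast [Nat.cast_sub (show 1 ≤ 2 * n by omega)]
      have h0 : ((2 * n : ℕ) : ZMod (2 * n)) = 0 := ZMod.natCast_self _
      push_cast at h0
      rw [h0, ZMod.natCast_zmod_val]
      ring
    rintro (i | i) (j | j)
    · exact hadd i j
    · show v * u ^ (j - i).val = u ^ i.val * (v * u ^ j.val)
      rw [← mul_assoc, hcomm, mul_assoc, ← hadd, show -i + j = j - i by ring]
    · show v * u ^ (i + j).val = v * u ^ i.val * u ^ j.val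
      rw [hadd, mul_assoc]
    · show u ^ ((n : ZMod (2 * n)) + j - i).val = v * u ^ i.val * (v * u ^ j.val)
      rw [← mul_assoc, mul_assoc v, hcomm, ← mul_assoc, hv, mul_assoc, ← hadd,
        show (n : ZMod (2 * n)) + j - i = (n : ZMod (2 * n)) + (-i + j) by ring, hadd]
      congr 1
      rw [ZMod.val_natCast, ← pow_eq_pow_mod _ hu]

end CfsgLib.FrobComp
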