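import Cfsg.Agent.FrobComp.FreeAction

/-!
# Lifting free actions from characteristic `p` to characteristic zero

For `h ≠ 1` let `cycSum h = 1 + h + ⋯ + h^(n-1)` in `R[H]`; `H` has a non-zero free module over a
field of coefficients (of characteristic prime to `#H`) iff the two-sided ideal spanned by these
sums is proper.

* `one_notMem_span_rat`: a free action on a finite module of prime exponent forces this over `ℚ`
  (an idempotent killed by the sums lifts modulo every power of the prime).
* `exists_free_rat_module`: hence there is a free action on a non-zero rational vector space.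
-/

set_option autoImplicit false
set_option linter.unusedSectionVars false
set_option linter.style.haveILetI false

namespace CfsgLib.FrobComp

open MonoidAlgebra

universe u

variable {H : Type u} [Group H] [Finite H]

/-- The sum of the powers of `h` in the group algebra. -/
noncomputable def cycSum (R : Type*) [CommRing R] (h : H) : MonoidAlgebra R H :=
  ∑ i ∈ Finset.range (orderOf h), single (h ^ i) 1

/-- The generators `g cycSum(h) g'` of the ideal. -/
def sumGens (R : Type*) [CommRing R] (H : Type u) [Group H] : Set (MonoidAlgebra R H) :=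
  {x | ∃ h : H, h ≠ 1 ∧ ∃ g₁ g₂ : H, x = single g₁ 1 * cycSum R h * single g₂ 1}

theorem map_cycSum {R S : Type*} [CommRing R] [CommRing S] (f : R →+* S) (h : H) :
    mapRingHom H f (cycSum R h) = cycSum S h := by
  simp [cycSum, map_sum]

theorem single_mul_cycSum (R : Type*) [CommRing R] (h : H) :
    single h 1 * cycSum R h = cycSum R h := by
  have : ∀ i, (single h 1 : MonoidAlgebra R H) * single (h ^ i) 1 = single (h ^ (i + 1)) 1 :=
    fun i => by rw [single_mul_single, one_mul, pow_succ']
  rw [cycSum, Finset.mul_sum, Finset.sum_congr rfl fun i _ => this i]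
  have h2 := Finset.sum_range_succ' (fun i => (single (h ^ i) 1 : MonoidAlgebra R H)) (orderOf h)
  rw [Finset.sum_range_succ, pow_orderOf_eq_one, pow_zero, add_left_inj] at h2
  exact h2.symm

theorem cycSum_mul_self (R : Type*) [CommRing R] (h : H) :
    cycSum R h * cycSum R h = (orderOf h : R) • cycSum R h := by
  have : ∀ i : ℕ, (single (h ^ i) 1 : MonoidAlgebra R H) * cycSum R h = cycSum R h := by
    intro i
    induction i with
    | zero => rw [pow_zero, ← one_def, one_mul]
    | succ i ih =>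
      rw [show (single (h ^ (i + 1)) 1 : MonoidAlgebra R H) = single (h ^ i) 1 * single h 1 by
        rw [single_mul_single, one_mul, pow_succ], mul_assoc, single_mul_cycSum, ih]
  nth_rewrite 1 [cycSum]
  rw [Finset.sum_mul, Finset.sum_congr rfl fun i _ => this i, Finset.sum_const, Finset.card_range,
    Nat.cast_smul_eq_nsmul]

theorem mapRingHom_eq_zero_imp {n p : ℕ} [hp : Fact p.Prime]
    (π : ZMod (p ^ (n + 1)) →+* ZMod p) (x : MonoidAlgebra (ZMod (p ^ (n + 1))) H)
    (hx : mapRingHom H π x = 0) : ∃ y, x = (p : ZMod (p ^ (n + 1))) • y := by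
  have hdiv : ∀ r : ZMod (p ^ (n + 1)), π r = 0 → ∃ s, r = (p : ZMod (p ^ (n + 1))) * s := by
    intro r hr
    have : NeZero (p ^ (n + 1)) := ⟨pow_ne_zero _ hp.out.ne_zero⟩
    rw [← ZMod.natCast_zmod_val r, map_natCast, ZMod.natCast_eq_zero_iff] at hr
    obtain ⟨s, hs⟩ := hr
    exact ⟨(s : ZMod (p ^ (n + 1))), by rw [← ZMod.natCast_zmod_val r, hs, Nat.cast_mul]⟩
  refine ⟨x.coeff.sum fun g _ => single g
    (if h : π (x.coeff g) = 0 then (hdiv _ h).choose else 0), ?_⟩
  have hx' : ∀ g, π (x.coeff g) = 0 := fun g => by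
    rw [← coeff_mapRingHom, hx]; rfl
  conv_lhs => rw [← sum_coeff_single x]
  rw [Finsupp.sum, Finsupp.sum, Finset.smul_sum]
  refine Finset.sum_congr rfl fun g _ => ?_
  rw [dif_pos (hx' g), smul_single', ← (hdiv _ (hx' g)).choose_spec]

/-- A free action on a nontrivial finite module of prime exponent gives a non-zero idempotent of
`(ZMod p)[H]` killed by all the sums. -/
theorem exists_idempotent {V : Type*} [AddCommGroup V] [Finite V] [Nontrivial V] {p : ℕ}
    [hp : Fact p.Prime] (hV : ∀ v : V, p • v = 0) {ρ : H →* AddMonoid.End V} (hρ : IsFree ρ) :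
    ∃ e : MonoidAlgebra (ZMod p) H, IsIdempotentElem e ∧ e ≠ 0 ∧
      ∀ h : H, h ≠ 1 → ∀ x, cycSum (ZMod p) h * x * e = 0 := by
  classical
  let _ := Fintype.ofFinite H
  haveI : Module (ZMod p) V := AddCommGroup.zmodModule hV
  obtain ⟨v, hv⟩ := exists_ne (0 : V)
  obtain ⟨φ, hφ⟩ : ∃ φ : V →ₗ[ZMod p] ZMod p, φ v ≠ 0 :=
    not_forall.mp fun h => hv ((Module.forall_dual_apply_eq_zero_iff _ v).mp h)
  let F : V →+ MonoidAlgebra (ZMod p) H := ∑ x : H,
    (MonoidAlgebra.singleAddHom x).comp (φ.toAddMonoidHom.comp (ρ x⁻¹))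
  have hF : ∀ w, F w = ∑ x : H, single x (φ (ρ x⁻¹ w)) := fun w => by
    simp only [F, AddMonoidHom.finsetSum_apply]; rfl
  have hequiv : ∀ (g : H) (w : V), single g 1 * F w = F (ρ g w) := fun g w => by
    rw [hF, hF, Finset.mul_sum, ← Equiv.sum_comp (Equiv.mulLeft g) fun y => single y (φ (ρ y⁻¹ (ρ g w)))]
    refine Finset.sum_congr rfl fun x _ => ?_
    rw [single_mul_single, one_mul, Equiv.coe_mulLeft]
    congr 2
    rw [mul_inv_rev, map_mul]
    show ρ x⁻¹ w = ρ x⁻¹ (ρ g⁻¹ (ρ g w))
    congr 1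
    show w = (ρ g⁻¹ * ρ g) w
    rw [← map_mul, inv_mul_cancel, map_one]; rfl
  set a := F v
  have ha : a ≠ 0 := fun h => hφ <| by
    have h1 := congrArg (fun z => z.coeff 1) h
    simpa [a, hF, coeff_sum, coeff_single, Finsupp.single_apply] using h1
  have hkill : ∀ h : H, h ≠ 1 → ∀ x, cycSum (ZMod p) h * x * a = 0 := by
    intro h h1 x
    induction x using MonoidAlgebra.induction_linear with
    | zero => rw [mul_zero, zero_mul]
    | add y z hy hz => rw [mul_add, add_mul, hy, hz, add_zero]
    | single g r =>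
      have : single g r = r • (single g 1 : MonoidAlgebra (ZMod p) H) := by
        rw [smul_single', mul_one]
      rw [this, mul_smul_comm, smul_mul_assoc, mul_assoc, hequiv, cycSum, Finset.sum_mul]
      simp only [hequiv]
      rw [← map_sum, sum_pow_apply_eq_zero_of_free hρ h1, map_zero, smul_zero]
  have : NeZero (Nat.card H : ZMod p) := ⟨fun h => by
    rw [ZMod.natCast_eq_zero_iff] at h
    exact hv (nsmul_orderOf_injective hρ h (hV v))⟩
  have : IsSemisimpleRing (MonoidAlgebra (ZMod p) H) := inferInstance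
  let L : Submodule (MonoidAlgebra (ZMod p) H) (MonoidAlgebra (ZMod p) H) :=
    Submodule.span _ {a}
  obtain ⟨L', hL'⟩ := exists_isCompl L
  obtain ⟨e, he, e', he', hee⟩ :=
    Submodule.mem_sup.mp (hL'.sup_eq_top ▸ Submodule.mem_top : (1 : MonoidAlgebra (ZMod p) H) ∈ L ⊔ L')
  have hmul : ∀ y ∈ L, y * e = y := fun y hy => by
    have h1 : y * e' = y - y * e := by rw [eq_sub_iff_add_eq', ← mul_add, hee, mul_one]
    have h2 : y * e' ∈ L := h1 ▸ sub_mem hy (L.smul_mem y he)
    have h3 : y * e' ∈ L' := L'.smul_mem y he'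
    rw [Submodule.disjoint_def.mp hL'.disjoint _ h2 h3, eq_comm, sub_eq_zero] at h1
    exact h1.symm
  have hea : ∀ y ∈ L, ∃ c, y = c * a := fun y hy => by
    obtain ⟨c, hc⟩ := Submodule.mem_span_singleton.mp hy
    exact ⟨c, hc.symm⟩
  refine ⟨e, hmul e he, fun h => ha ?_, fun h h1 x => ?_⟩
  · rw [← hmul a (Submodule.mem_span_singleton_self a), h, mul_zero]
  · obtain ⟨c, rfl⟩ := hea e he
    rw [← mul_assoc, mul_assoc (cycSum _ h) x c, hkill h h1]

/-- A free action on a nontrivial finite module of prime exponent makes the ideal over `ℚ` proper. -/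
theorem one_notMem_span_rat {V : Type*} [AddCommGroup V] [Finite V] [Nontrivial V] {p : ℕ}
    [hp : Fact p.Prime] (hV : ∀ v : V, p • v = 0) {ρ : H →* AddMonoid.End V} (hρ : IsFree ρ) :
    (1 : MonoidAlgebra ℚ H) ∉ Submodule.span ℚ (sumGens ℚ H) := by
  intro h1
  -- clear denominators
  set ι := mapRingHom H (Int.castRingHom ℚ) with hι
  have hclear : ∀ x ∈ Submodule.span ℚ (sumGens ℚ H), ∃ N : ℤ, N ≠ 0 ∧
      ∃ y ∈ Submodule.span ℤ (sumGens ℤ H), N • x = ι y := by
    intro x hx
    induction hx using Submodule.span_induction with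
    | mem y hy =>
      obtain ⟨h, hh, g₁, g₂, rfl⟩ := hy
      refine ⟨1, one_ne_zero, _, Submodule.subset_span ⟨h, hh, g₁, g₂, rfl⟩, ?_⟩
      simp [hι, map_cycSum]
    | zero => exact ⟨1, one_ne_zero, 0, zero_mem _, by simp⟩
    | add x y _ _ hx hy =>
      obtain ⟨M, hM, x', hx', hxe⟩ := hx
      obtain ⟨N, hN, y', hy', hye⟩ := hy
      refine ⟨M * N, mul_ne_zero hM hN, N • x' + M • y',
        add_mem (Submodule.smul_mem _ _ hx') (Submodule.smul_mem _ _ hy'), ?_⟩
      rw [map_add, map_zsmul, map_zsmul, ← hxe, ← hye, smul_smul, smul_smul, smul_add, mul_comm M N]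
    | smul r x _ hx =>
      obtain ⟨M, hM, x', hx', hxe⟩ := hx
      refine ⟨M * r.den, mul_ne_zero hM (by exact_mod_cast r.den_ne_zero), r.num • x',
        Submodule.smul_mem _ _ hx', ?_⟩
      rw [map_zsmul, ← hxe, ← Int.cast_smul_eq_zsmul ℚ, ← Int.cast_smul_eq_zsmul ℚ r.num,
        ← Int.cast_smul_eq_zsmul ℚ M, smul_smul, smul_smul]
      congr 1
      push_cast
      rw [mul_assoc, mul_comm ((r.den : ℚ)) r, Rat.mul_den_eq_num, mul_comm]
  obtain ⟨N, hN, y, hy, hye⟩ := hclear 1 h1
  set n := N.natAbs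
  have : NeZero (p ^ (n + 1)) := ⟨pow_ne_zero _ hp.out.ne_zero⟩
  let π : ZMod (p ^ (n + 1)) →+* ZMod p := ZMod.castHom (dvd_pow_self p n.succ_ne_zero) (ZMod p)
  set Pm := mapRingHom H π with hPm
  obtain ⟨e, he, he0, hek⟩ := exists_idempotent hV hρ
  have hnil : ∀ x ∈ RingHom.ker Pm, IsNilpotent x := by
    intro x hx
    obtain ⟨z, rfl⟩ := mapRingHom_eq_zero_imp π x hx
    refine ⟨n + 1, ?_⟩
    rw [smul_pow, ← Nat.cast_pow, ZMod.natCast_self, zero_smul]
  have hsurj : e ∈ Pm.range := by
    clear he he0 hek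
    induction e using MonoidAlgebra.induction_linear with
    | zero => exact zero_mem _
    | add y z hy hz => exact (add_mem hy hz)
    | single g r => exact ⟨single g (r.val : ZMod (p ^ (n + 1))), by simp [hPm]⟩
  obtain ⟨E, hE, hEe⟩ := exists_isIdempotentElem_eq_of_ker_isNilpotent Pm hnil e hsurj he
  have hEk : ∀ h : H, h ≠ 1 → ∀ x, cycSum (ZMod (p ^ (n + 1))) h * x * E = 0 := by
    intro h hh
    set s := cycSum (ZMod (p ^ (n + 1))) h
    have hunit : IsUnit (orderOf h : ZMod (p ^ (n + 1))) := by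
      rw [ZMod.isUnit_iff_coprime]
      refine Nat.Coprime.pow_right _ ((hp.out.coprime_iff_not_dvd.mpr fun hd => ?_).symm)
      obtain ⟨v, hv⟩ := exists_ne (0 : V)
      exact hv (nsmul_orderOf_injective hρ (hd.trans (orderOf_dvd_natCard h)) (hV v))
    obtain ⟨c, hc⟩ := hunit.exists_left_inv
    suffices H' : ∀ j x, ∃ w, s * x * E = (p : ZMod (p ^ (n + 1))) ^ j • w by
      intro x
      obtain ⟨w, hw⟩ := H' (n + 1) x
      rw [hw, ← Nat.cast_pow, ZMod.natCast_self, zero_smul]
    intro j
    induction j with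
    | zero => exact fun x => ⟨s * x * E, by rw [pow_zero, one_smul]⟩
    | succ j ih =>
      intro x
      obtain ⟨w₀, hw₀⟩ := mapRingHom_eq_zero_imp π (s * x * E) (by
        rw [map_mul, map_mul, map_cycSum, ← hPm, hEe]
        exact hek h hh _)
      obtain ⟨w, hw⟩ := ih w₀
      refine ⟨c • w, ?_⟩
      calc s * x * E = (c * (orderOf h : ZMod (p ^ (n + 1)))) • (s * x * E) := by
            rw [hc, one_smul]
        _ = c • (s * (s * x * E) * E) := by
            rw [mul_smul, mul_assoc s (s * x * E) E, mul_assoc (s * x) E E, hE.eq, ← mul_assoc,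
              ← mul_assoc, cycSum_mul_self, smul_mul_assoc, smul_mul_assoc]
        _ = c • ((p : ZMod (p ^ (n + 1))) • (s * w₀ * E)) := by
            rw [hw₀, mul_smul_comm, smul_mul_assoc]
        _ = _ := by
            rw [hw, smul_smul, smul_smul, smul_smul]
            ring_nf
  set κ := mapRingHom H (Int.castRingHom (ZMod (p ^ (n + 1)))) with hκ
  have hspan : ∀ z ∈ Submodule.span ℤ (sumGens ℤ H), κ z * E = 0 := by
    intro z hz
    induction hz using Submodule.span_induction with
    | mem y hy =>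
      obtain ⟨h, hh, g₁, g₂, rfl⟩ := hy
      rw [map_mul, map_mul, hκ, map_cycSum, mul_assoc, mul_assoc, ← mul_assoc (cycSum _ h),
        hEk h hh, mul_zero]
    | zero => rw [map_zero, zero_mul]
    | add x y _ _ hx hy => rw [map_add, add_mul, hx, hy, add_zero]
    | smul r x _ hx => rw [map_zsmul, smul_mul_assoc, hx, smul_zero]
  have hyN : y = N • 1 := by
    refine MonoidAlgebra.ext (Finsupp.ext fun g => ?_)
    apply Int.cast_injective (α := ℚ)
    have h2 := congrArg (fun z => z.coeff g) (hye.symm.trans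
      (by rw [map_zsmul, map_one] : N • (1 : MonoidAlgebra ℚ H) = ι (N • 1)))
    simp only [hι, coeff_mapRingHom, Int.coe_castRingHom] at h2
    exact h2
  have h3 := hspan y hy
  rw [hyN, map_zsmul, map_one, smul_mul_assoc, one_mul] at h3
  have h4 := congrArg Pm h3
  rw [map_zsmul, hEe, map_zero] at h4
  -- compare coefficients: `E` has a coefficient which is a unit
  obtain ⟨g, hg⟩ : ∃ g, e.coeff g ≠ 0 := not_forall.mp fun h => he0 (MonoidAlgebra.ext (Finsupp.ext h))
  have hgE : IsUnit (E.coeff g) := by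
    rw [← ZMod.natCast_zmod_val (E.coeff g), ZMod.isUnit_iff_coprime]
    refine Nat.Coprime.pow_right _ ((hp.out.coprime_iff_not_dvd.mpr fun hd => hg ?_).symm)
    rw [← hEe, hPm, coeff_mapRingHom, ← ZMod.natCast_zmod_val (E.coeff g), map_natCast,
      ZMod.natCast_eq_zero_iff]
    exact hd
  rw [← Int.cast_smul_eq_zsmul (ZMod (p ^ (n + 1)))] at h3
  have h5 : (N : ZMod (p ^ (n + 1))) * E.coeff g = 0 := by
    have := congrArg (fun z => z.coeff g) h3
    simpa only [coeff_smul_apply, smul_eq_mul, coeff_zero, Finsupp.coe_zero, Pi.zero_apply] using this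
  rw [hgE.mul_left_eq_zero, ZMod.intCast_zmod_eq_zero_iff_dvd] at h5
  have h6 : p ^ (n + 1) ∣ n := Int.natCast_dvd.mp h5
  have h7 := Nat.le_of_dvd (Int.natAbs_pos.mpr hN) h6
  have h8 := (Nat.lt_pow_self (n := n + 1) hp.out.one_lt)
  omega

/-- Hence a free action on a non-zero rational vector space. -/
theorem exists_free_rat_module {V : Type*} [AddCommGroup V] [Finite V] [Nontrivial V] {p : ℕ}
    [hp : Fact p.Prime] (hV : ∀ v : V, p • v = 0) {ρ : H →* AddMonoid.End V} (hρ : IsFree ρ) :
    ∃ (W : Type u) (_ : AddCommGroup W) (_ : Module ℚ W) (_ : Nontrivial W)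
      (σ : H →* (W →ₗ[ℚ] W)), ∀ h : H, h ≠ 1 → ∀ x : W, σ h x = x → x = 0 := by
  set I := Submodule.span ℚ (sumGens ℚ H) with hI
  have hI1 := one_notMem_span_rat hV hρ
  have hinv : ∀ g : H, I ≤ I.comap (LinearMap.mulLeft ℚ (single g (1 : ℚ))) := fun g => by
    rw [hI, Submodule.span_le]
    rintro _ ⟨h, hh, g₁, g₂, rfl⟩
    refine Submodule.subset_span ⟨h, hh, g * g₁, g₂, ?_⟩
    show single g (1 : ℚ) * _ = _
    rw [← mul_assoc, ← mul_assoc, single_mul_single, one_mul]
  let σ : H →* ((MonoidAlgebra ℚ H ⧸ I) →ₗ[ℚ] (MonoidAlgebra ℚ H ⧸ I)) :=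
    { toFun := fun g => I.mapQ I _ (hinv g)
      map_one' := Submodule.linearMap_qext _ (LinearMap.ext fun x => by
        show Submodule.Quotient.mk (single (1 : H) (1 : ℚ) * x) = Submodule.Quotient.mk x
        rw [← one_def, one_mul])
      map_mul' := fun g g' => Submodule.linearMap_qext _ (LinearMap.ext fun x => by
        show Submodule.Quotient.mk (single (g * g') (1 : ℚ) * x) =
          Submodule.Quotient.mk (single g 1 * (single g' 1 * x))
        rw [← mul_assoc, single_mul_single, one_mul]) }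
  refine ⟨MonoidAlgebra ℚ H ⧸ I, inferInstance, inferInstance, ?_, σ, fun h hh w hw => ?_⟩
  · exact Submodule.Quotient.nontrivial_iff.mpr fun h => hI1 (hI ▸ h ▸ Submodule.mem_top)
  induction w using Submodule.Quotient.induction_on with
  | H x =>
    have hfix : ∀ i : ℕ, σ (h ^ i) (Submodule.Quotient.mk x) = Submodule.Quotient.mk x := by
      intro i
      induction i with
      | zero => rw [pow_zero, map_one]; rfl
      | succ i ih => rw [pow_succ, map_mul, Module.End.mul_apply, hw, ih]
    have hsum : Submodule.Quotient.mk (p := I) (cycSum ℚ h * x) =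
        (orderOf h : ℕ) • Submodule.Quotient.mk (p := I) x := by
      rw [← Submodule.mkQ_apply, cycSum, Finset.sum_mul, map_sum]
      calc ∑ i ∈ Finset.range (orderOf h), I.mkQ (single (h ^ i) 1 * x)
          = ∑ i ∈ Finset.range (orderOf h), Submodule.Quotient.mk (p := I) x :=
            Finset.sum_congr rfl fun i _ => hfix i
        _ = _ := by rw [Finset.sum_const, Finset.card_range]
    have hmem : ∀ z, cycSum ℚ h * z ∈ I := fun z => by
      induction z using MonoidAlgebra.induction_linear with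
      | zero => rw [mul_zero]; exact zero_mem _
      | add y z hy hz => rw [mul_add]; exact add_mem hy hz
      | single g r =>
        rw [show single g r = r • single g (1 : ℚ) by rw [smul_single', mul_one], mul_smul_comm]
        refine I.smul_mem r (Submodule.subset_span ⟨h, hh, 1, g, ?_⟩)
        rw [← one_def, one_mul]
    rw [(Submodule.Quotient.mk_eq_zero I).mpr (hmem x), eq_comm, ← Nat.cast_smul_eq_nsmul ℚ] at hsum
    exact (smul_eq_zero.mp hsum).resolve_left (by exact_mod_cast (orderOf_pos h).ne')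

end CfsgLib.FrobComp
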