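import Cfsg.Agent.FrobComp.Complement
import Cfsg.Agent.FrobComp.SylowStructure
import Cfsg.Agent.Solvable.FrobeniusBasic

/-!
# A Frobenius complement with a non-cyclic Sylow subgroup has a kernel of odd square order
-/

set_option autoImplicit false

namespace CfsgLib.FrobComp

open Cfsg

variable {L : Type*} [Group L] [Finite L]

theorem odd_square_kernel {C : Subgroup L} (hC : IsFrobeniusComplement C) {p : ℕ} [hp : Fact p.Prime]
    {P : Sylow p C} (hP : ¬ IsCyclic P) :
    Odd (Nat.card (frobeniusKernel C)) ∧ IsSquare (Nat.card (frobeniusKernel C)) := by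
  obtain ⟨N, hN, hc, hker⟩ := exists_kernel hC
  obtain ⟨q, hq, hqd⟩ := Nat.exists_prime_and_dvd (n := C.index)
    (fun h => hC.2.1 (Subgroup.index_eq_one.mp h))
  have := Fact.mk hq
  obtain ⟨V, _, _, _, ρ, hVq, hρ⟩ := exists_free_module hC hqd
  have hp2 : p = 2 := by
    by_contra h
    exact hP (isCyclic_of_free_of_odd hρ h P.2)
  subst hp2
  have h2 : 2 ∣ Nat.card C := by
    by_contra h
    refine hP ?_
    have : Subsingleton P := by
      refine (Nat.card_eq_one_iff_unique.mp ?_).1
      rw [P.card_eq_multiplicity, Nat.factorization_eq_zero_of_not_dvd h, pow_zero]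
    exact isCyclic_of_subsingleton
  have hNC : Nat.card N = C.index := hc.index_eq_card.symm
  have hcard : Nat.card (frobeniusKernel C) = Nat.card N := by rw [← hker]; rfl
  have hNne : N ≠ ⊥ := fun h => hq.ne_one (Nat.dvd_one.mp (by
    rwa [← hNC, h, Subgroup.card_bot] at hqd))
  obtain ⟨s, hs⟩ := exists_prime_orderOf_dvd_card' 2 h2
  have hs1 : (s : L) ≠ 1 := fun e => by
    rw [show s = 1 from Subtype.ext e, orderOf_one] at hs; omega
  have hs2 : (s : L) * s = 1 := by
    have := pow_orderOf_eq_one s
    rw [hs, pow_two] at this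
    exact congrArg Subtype.val this
  have hfpf := (CfsgLib.Solvable.isFrobeniusComplement_iff_fpf hc hNne hC.1).mp hC
  obtain ⟨-, hcomm⟩ := CfsgLib.Solvable.inverts_of_fpf_involution hfpf s.2 hs1 hs2
  have hodd : Odd (Nat.card N) := by
    rw [hNC, Nat.odd_iff]
    have := (coprime_card_index hC).coprime_dvd_left h2
    rw [Nat.coprime_two_left, Nat.odd_iff] at this
    exact this
  rw [hcard]
  refine ⟨hodd, ?_⟩
  let _ : CommGroup N := { (inferInstance : Group N) with mul_comm := fun a b => hcomm.is_comm.comm a b }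
  let σ : C →* AddMonoid.End (Additive N) :=
    { toFun := fun c => MonoidHom.toAdditive (MulAut.conjNormal (c : L) : N ≃* N).toMonoidHom
      map_one' := AddMonoidHom.ext fun x => by
        show MulAut.conjNormal ((1 : C) : L) x.toMul = x.toMul
        rw [Subgroup.coe_one, map_one]; rfl
      map_mul' := fun c c' => AddMonoidHom.ext fun x => by
        show MulAut.conjNormal ((c * c' : C) : L) x.toMul = _
        rw [Subgroup.coe_mul, map_mul]; rfl }
  have hσ : IsFree σ := by
    intro c hc1 x hx
    have h1 : (c : L) * (x.toMul : L) * (c : L)⁻¹ = x.toMul :=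
      congrArg Subtype.val hx
    have h2 := CfsgLib.Solvable.eq_one_of_commute_of_fpf hfpf c.2 (fun e => hc1 (Subtype.ext e))
      x.toMul.2 (mul_inv_eq_iff_eq_mul.mp h1)
    exact Subtype.ext h2
  have : Nontrivial (Additive N) := (Subgroup.nontrivial_iff_ne_bot N).mpr hNne
  obtain ⟨a, b, hab⟩ := exists_anticommute_of_free hσ P.2 hP
  have hinj : ∀ c : C, Function.Injective (σ c) := fun c x y h => by
    have := congrArg (σ c⁻¹) h
    rw [← Function.comp_apply (f := σ c⁻¹), ← Function.comp_apply (f := σ c⁻¹) (g := σ c)] at this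
    have e : (σ c⁻¹ : Additive N → Additive N) ∘ σ c = id := by
      funext z
      show (σ c⁻¹ * σ c) z = z
      rw [← map_mul, inv_mul_cancel, map_one]; rfl
    rwa [e] at this
  exact isSquare_card_of_anticommute (A := Additive N) hodd (σ a) (σ b) (hinj a) (hinj b) hab

end CfsgLib.FrobComp
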