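import Cfsg.Agent.FrobComp.PerfectLocal

/-!
# The centraliser of an element of order 4 in a perfect group with free actions

* `exists_cycle`: in every quaternion subgroup `⟨a, j⟩` of order 8 some element of 3-power order
  permutes the three cyclic subgroups of order 4 cyclically;
* `O_eq_bot`: the centraliser of `a` has no odd-order part;
* `m_le_two`: a Sylow 2-subgroup has order 8 or 16.
-/

set_option autoImplicit false
set_option linter.unusedSectionVars false
set_option linter.style.haveILetI false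

namespace CfsgLib.FrobComp

namespace PerfectSetup

variable {G : Type*} [Group G] [Finite G] (D : PerfectSetup G) {j : G}

/-- The six elements of order 4 of `⟨a, j⟩`. -/
def Six (j v : G) : Prop := SamePair v D.a ∨ SamePair v j ∨ SamePair v (D.a * j)

/-- `n` permutes the six elements. -/
def Moves (j n : G) : Prop := ∀ v, D.Six j v ↔ D.Six j (n * v * n⁻¹)

/-- The subgroup of elements permuting the six elements. -/
def sixNormalizer (j : G) : Subgroup G where
  carrier := {n | D.Moves j n}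
  one_mem' := fun v => by simp
  mul_mem' {n n'} hn hn' := fun v => by
    rw [hn' v, hn (n' * v * n'⁻¹),
      show n * (n' * v * n'⁻¹) * n⁻¹ = n * n' * v * (n * n')⁻¹ by group]
  inv_mem' {n} hn := fun v => by
    conv_rhs => rw [hn (n⁻¹ * v * n⁻¹⁻¹)]
    rw [show n * (n⁻¹ * v * n⁻¹⁻¹) * n⁻¹ = v by group]

variable (hj : j ∈ D.S) (hjn : j ∉ Subgroup.zpowers D.y)
include hj hjn

theorem aj_mem : D.a * j ∈ D.S ∧ D.a * j ∉ Subgroup.zpowers D.y := by
  refine ⟨mul_mem D.a_mem hj, fun h => hjn ?_⟩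
  have := mul_mem (inv_mem D.a_mem_zpowers) h
  rwa [inv_mul_cancel_left] at this

theorem six_sq {v : G} (hv : D.Six j v) : v * v = D.z := by
  have key : ∀ {u w : G}, SamePair u w → w * w = D.z → u * u = D.z := by
    intro u w h hw
    rcases h with rfl | rfl
    · exact hw
    · rw [← mul_inv_rev, hw, D.z_inv]
  obtain ⟨h1, h2⟩ := D.aj_mem hj hjn
  rcases hv with h | h | h
  · exact key h D.a_sq
  · exact key h (D.sq_of_notMem hj hjn)
  · exact key h (D.sq_of_notMem h1 h2)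

theorem not_samePair_a_j : ¬ SamePair j D.a := by
  rintro (h | h) <;> refine hjn ?_ <;> rw [h]
  · exact D.a_mem_zpowers
  · exact inv_mem D.a_mem_zpowers

theorem not_samePair_a_aj : ¬ SamePair (D.a * j) D.a := by
  rintro (h | h) <;> refine (D.aj_mem hj hjn).2 ?_ <;> rw [h]
  · exact D.a_mem_zpowers
  · exact inv_mem D.a_mem_zpowers

theorem not_samePair_j_aj : ¬ SamePair (D.a * j) j := by
  rintro (h | h)
  · rw [mul_eq_right] at h
    exact D.z_ne (by rw [← D.a_sq, h, one_mul])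
  · replace h := eq_mul_inv_of_mul_eq h
    rw [← mul_inv_rev, D.sq_of_notMem hj hjn, D.z_inv] at h
    exact D.ne_inv D.a_sq (by rw [h, D.z_inv])

/-- Checking the forward direction suffices. -/
theorem moves_of_forward {n : G} (h : ∀ v, D.Six j v → D.Six j (n * v * n⁻¹)) :
    D.Moves j n := by
  classical
  intro v
  refine ⟨h v, fun hv => ?_⟩
  let f : {v : G // D.Six j v} → {v : G // D.Six j v} := fun w => ⟨n * w.1 * n⁻¹, h _ w.2⟩
  have hf : Function.Injective f := fun u w e => Subtype.ext (by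
    simpa [f] using congrArg Subtype.val e)
  obtain ⟨⟨w, hw⟩, e⟩ := (Finite.injective_iff_surjective.1 hf) ⟨_, hv⟩
  have : n * w * n⁻¹ = n * v * n⁻¹ := congrArg Subtype.val e
  rwa [show v = w by simpa using this.symm]

/-- It suffices to know where the three generators go. -/
theorem moves_of_three {n : G} (h1 : D.Six j (n * D.a * n⁻¹)) (h2 : D.Six j (n * j * n⁻¹))
    (h3 : D.Six j (n * (D.a * j) * n⁻¹)) : D.Moves j n := by
  refine D.moves_of_forward hj hjn fun v hv => ?_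
  have key : ∀ {u w : G}, SamePair u w → D.Six j (n * w * n⁻¹) → D.Six j (n * u * n⁻¹) := by
    intro u w h hw
    rcases hw with hw | hw | hw
    · exact Or.inl ((h.conj n).trans hw)
    · exact Or.inr (Or.inl ((h.conj n).trans hw))
    · exact Or.inr (Or.inr ((h.conj n).trans hw))
  rcases hv with h | h | h
  · exact key h h1
  · exact key h h2
  · exact key h h3

/-- If the Sylow 2-subgroups have order 8, the six elements are those squaring to `z`. -/
theorem six_of_m_one (hm : D.m = 1) {v : G} (hv : v ∈ D.S) (hv2 : v * v = D.z) : D.Six j v := by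
  by_cases hvy : v ∈ Subgroup.zpowers D.y
  · exact Or.inl (D.samePair_a hvy hv2)
  have hw := D.mul_mem_zpowers hv hvy (inv_mem hj) (fun h => hjn (by simpa using inv_mem h))
  have hya : D.a = D.y := by rw [a, hm, Nat.sub_self, pow_zero, pow_one]
  rw [← hya] at hw
  obtain ⟨i, hi⟩ := Subgroup.mem_zpowers_iff.1 hw
  have ho : orderOf D.a = 4 := by rw [hya, D.orderOf_y, hm]; norm_num
  rw [← zpow_mod_orderOf, ho, Nat.cast_ofNat] at hi
  have hv' : v = D.a ^ (i % (4 : ℤ)) * j := by rw [hi, inv_mul_cancel_right]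
  have hjj : D.z * j = j⁻¹ := (D.inv_eq (D.sq_of_notMem hj hjn)).symm
  have h4 : i % (4 : ℤ) = 0 ∨ i % (4 : ℤ) = 1 ∨ i % (4 : ℤ) = 2 ∨ i % (4 : ℤ) = 3 := by omega
  rcases h4 with e | e | e | e <;> rw [e] at hv' <;> rw [hv']
  · exact Or.inr (Or.inl (Or.inl (by rw [zpow_zero, one_mul])))
  · exact Or.inr (Or.inr (Or.inl (by rw [zpow_one])))
  · exact Or.inr (Or.inl (Or.inr (by rw [zpow_two, D.a_sq, hjj])))
  · refine Or.inr (Or.inr (Or.inr ?_))
    rw [show (3 : ℤ) = 2 + 1 from rfl, zpow_add, zpow_two, D.a_sq, zpow_one, mul_assoc,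
      ← D.inv_eq (D.sq_of_notMem (D.aj_mem hj hjn).1 (D.aj_mem hj hjn).2)]

theorem exists_moves :
    (∃ h ∈ D.sixNormalizer j, SamePair (h * D.a * h⁻¹) j) ∧
      (∃ h ∈ D.sixNormalizer j, SamePair (h * D.a * h⁻¹) (D.a * j)) := by
  have hja : j * D.a = D.a⁻¹ * j := mul_inv_eq_iff_eq_mul.1 (D.inverts_a hj hjn)
  have hjz : D.z * j = j⁻¹ := (D.inv_eq (D.sq_of_notMem hj hjn)).symm
  rcases eq_or_lt_of_le D.one_le_m with hm | hm
  · -- the Sylow 2-subgroup is the quaternion group itself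
    have hm : D.m = 1 := hm.symm
    have key : ∀ j' : G, j' ∈ D.S → j' ∉ Subgroup.zpowers D.y →
        ∃ h ∈ D.sixNormalizer j, h * D.a * h⁻¹ = j' := by
      intro j' hj' hj'n
      obtain ⟨h, hh, hs, hsn⟩ := D.exists_move hj' hj'n
      set T := ((D.S : Subgroup G).map (MulAut.conj h).toMonoidHom)
      have hinS : ∀ w ∈ D.S, h * w * h⁻¹ ∈ D.S := by
        intro w hw
        set s := h⁻¹ * D.a * h with hsdef
        have hT : Subgroup.zpowers D.a ⊔ Subgroup.zpowers s = (D.S : Subgroup G) := by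
          have hle : Subgroup.zpowers D.a ⊔ Subgroup.zpowers s ≤ (D.S : Subgroup G) :=
            sup_le (Subgroup.zpowers_le.2 D.a_mem) (Subgroup.zpowers_le.2 hs)
          refine Subgroup.eq_of_le_of_card_ge hle ?_
          have hya : D.a = D.y := by rw [a, hm, Nat.sub_self, pow_zero, pow_one]
          rw [show Nat.card (D.S : Subgroup G) = _ from D.card_S, hm]
          have hlt : Subgroup.zpowers D.y < Subgroup.zpowers D.a ⊔ Subgroup.zpowers s := by
            rw [hya]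
            refine lt_of_le_of_ne le_sup_left fun e => hsn ?_
            rw [e]
            exact Subgroup.mem_sup_right (Subgroup.mem_zpowers _)
          have h4 : Nat.card (Subgroup.zpowers D.y) = 4 := by
            rw [Nat.card_zpowers, D.orderOf_y, hm]; norm_num
          have h8 := Subgroup.card_dvd_of_le hle
          have h48 := Subgroup.card_dvd_of_le hlt.le
          have hne : Nat.card (Subgroup.zpowers D.a ⊔ Subgroup.zpowers s : Subgroup G) ≠ 4 :=
            fun e => hlt.ne (Subgroup.eq_of_le_of_card_ge hlt.le (by rw [e, h4]))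
          rw [h4] at h48
          rw [show Nat.card (D.S : Subgroup G) = _ from D.card_S, hm] at h8
          obtain ⟨c, hc⟩ := h48
          rw [hc] at h8 hne ⊢
          have h8' := Nat.le_of_dvd (by norm_num) h8
          have hc0 : c ≠ 0 := fun e => by
            rw [e, mul_zero] at hc
            exact absurd hc Nat.card_pos.ne'
          norm_num at h8' ⊢
          omega
        have hle2 : Subgroup.zpowers D.a ⊔ Subgroup.zpowers s ≤
            (D.S : Subgroup G).comap (MulAut.conj h).toMonoidHom := by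
          refine sup_le (Subgroup.zpowers_le.2 ?_) (Subgroup.zpowers_le.2 ?_)
          · show h * D.a * h⁻¹ ∈ D.S
            rw [hh]; exact hj'
          · show h * s * h⁻¹ ∈ D.S
            rw [hsdef, show h * (h⁻¹ * D.a * h) * h⁻¹ = D.a by group]
            exact D.a_mem
        exact (hT ▸ hle2) hw
      refine ⟨h, D.moves_of_forward hj hjn fun v hv => ?_, hh⟩
      have hvS : v ∈ D.S := by
        obtain ⟨h1, -⟩ := D.aj_mem hj hjn
        rcases hv with (rfl | rfl) | (rfl | rfl) | (rfl | rfl)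
        exacts [D.a_mem, inv_mem D.a_mem, hj, inv_mem hj, h1, inv_mem h1]
      refine D.six_of_m_one hj hjn hm (hinS v hvS) ?_
      rw [show h * v * h⁻¹ * (h * v * h⁻¹) = h * (v * v) * h⁻¹ by group, D.six_sq hj hjn hv,
        D.z_comm h, mul_inv_cancel_right]
    obtain ⟨h1, h1N, e1⟩ := key j hj hjn
    obtain ⟨h2, h2N, e2⟩ := key (D.a * j) (D.aj_mem hj hjn).1 (D.aj_mem hj hjn).2
    exact ⟨⟨h1, h1N, Or.inl e1⟩, ⟨h2, h2N, Or.inl e2⟩⟩
  · -- larger Sylow 2-subgroups
    set r := D.y ^ 2 ^ (D.m - 2) with hr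
    have hrr : r * r = D.a := by
      rw [hr, a, ← pow_add, ← two_mul, ← pow_succ', show D.m - 2 + 1 = D.m - 1 by omega]
    have hra : r * D.a * r⁻¹ = D.a := by rw [← hrr]; group
    have hrw : ∀ w ∈ D.S, w ∉ Subgroup.zpowers D.y → r * w * r⁻¹ = D.a * w := by
      intro w hw hwn
      have h1 : w * r * w⁻¹ = r⁻¹ := D.inverts hw hwn (pow_mem (Subgroup.mem_zpowers _) _)
      have h2 : w * r⁻¹ * w⁻¹ = r := by
        calc w * r⁻¹ * w⁻¹ = (w * r * w⁻¹)⁻¹ := by group
          _ = r := by rw [h1, inv_inv]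
      calc r * w * r⁻¹ = r * (w * r⁻¹ * w⁻¹) * w := by group
        _ = D.a * w := by rw [h2, hrr]
    have hraj : r * (D.a * j) * r⁻¹ = j⁻¹ := by
      calc r * (D.a * j) * r⁻¹ = (r * D.a * r⁻¹) * (r * j * r⁻¹) := by group
        _ = D.a * D.a * j := by rw [hra, hrw j hj hjn, mul_assoc]
        _ = j⁻¹ := by rw [D.a_sq, hjz]
    have hrN : r ∈ D.sixNormalizer j :=
      D.moves_of_three hj hjn (Or.inl (Or.inl hra)) (Or.inr (Or.inr (Or.inl (hrw j hj hjn))))
        (Or.inr (Or.inl (Or.inr hraj)))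
    obtain ⟨h, hh, hs, hsn⟩ := D.exists_move hj hjn
    set r2 := h * r * h⁻¹ with hr2
    have h2a : r2 * D.a * r2⁻¹ = (D.a * j)⁻¹ := by
      calc r2 * D.a * r2⁻¹ = h * (r * (h⁻¹ * D.a * h) * r⁻¹) * h⁻¹ := by rw [hr2]; group
        _ = h * (D.a * (h⁻¹ * D.a * h)) * h⁻¹ := by rw [hrw _ hs hsn]
        _ = (h * D.a * h⁻¹) * D.a := by group
        _ = D.a⁻¹ * j := by rw [hh, hja]
        _ = (D.a * j)⁻¹ := by
          rw [D.inv_eq D.a_sq,
            D.inv_eq (D.sq_of_notMem (D.aj_mem hj hjn).1 (D.aj_mem hj hjn).2), mul_assoc]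
    have h2j : r2 * j * r2⁻¹ = j := by
      calc r2 * j * r2⁻¹ = r2 * (h * D.a * h⁻¹) * r2⁻¹ := by rw [hh]
        _ = h * (r * D.a * r⁻¹) * h⁻¹ := by rw [hr2]; group
        _ = j := by rw [hra, hh]
    have h2aj' : r2 * (D.a * j) * r2⁻¹ = D.a := by
      calc r2 * (D.a * j) * r2⁻¹ = (r2 * D.a * r2⁻¹) * (r2 * j * r2⁻¹) := by group
        _ = j⁻¹ * D.a⁻¹ * j := by rw [h2a, h2j]; group
        _ = D.a := by
          calc j⁻¹ * D.a⁻¹ * j = j⁻¹ * (D.a⁻¹ * j) := by group
            _ = D.a := by rw [← hja]; group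
    have hr2N : r2 ∈ D.sixNormalizer j :=
      D.moves_of_three hj hjn (Or.inr (Or.inr (Or.inr h2a))) (Or.inr (Or.inl (Or.inl h2j)))
        (Or.inl (Or.inl h2aj'))
    refine ⟨⟨r * r2, mul_mem hrN hr2N, Or.inl ?_⟩, ⟨r2, hr2N, Or.inr h2a⟩⟩
    calc r * r2 * D.a * (r * r2)⁻¹ = r * (r2 * D.a * r2⁻¹) * r⁻¹ := by group
      _ = (r * (D.a * j) * r⁻¹)⁻¹ := by rw [h2a]; group
      _ = j := by rw [hraj, inv_inv]

/-- An element of 3-power order permuting the three cyclic subgroups of order 4 cyclically. -/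
theorem exists_cycle :
    ∃ (x : G) (k : ℕ), x ^ 3 ^ k = 1 ∧ D.Moves j x ∧ ¬ SamePair (x * D.a * x⁻¹) D.a ∧
      SamePair (x * D.a * x⁻¹) j := by
  classical
  haveI : Fact (Nat.Prime 3) := ⟨Nat.prime_three⟩
  set N := D.sixNormalizer j with hN
  let K : Subgroup N :=
    { carrier := {n | SamePair ((n : G) * D.a * (n : G)⁻¹) D.a}
      one_mem' := Or.inl (by simp)
      mul_mem' := fun {n n'} hn hn' => by
        have := (SamePair.conj hn' (n : G)).trans hn
        show SamePair (((n : G) * (n' : G)) * D.a * ((n : G) * (n' : G))⁻¹) D.a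
        rwa [show (n : G) * ((n' : G) * D.a * (n' : G)⁻¹) * (n : G)⁻¹ =
          (n : G) * (n' : G) * D.a * ((n : G) * (n' : G))⁻¹ by group] at this
      inv_mem' := fun {n} hn => by
        have := (SamePair.conj hn.symm (n : G)⁻¹)
        show SamePair ((n : G)⁻¹ * D.a * (n : G)⁻¹⁻¹) D.a
        rwa [show (n : G)⁻¹ * ((n : G) * D.a * (n : G)⁻¹) * (n : G)⁻¹⁻¹ = D.a by group] at this }
  obtain ⟨⟨h1, h1N, e1⟩, ⟨h2, h2N, e2⟩⟩ := D.exists_moves hj hjn
  have hmk : ∀ (p q : N) (u : G), SamePair ((p : G) * D.a * (p : G)⁻¹) u →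
      SamePair ((q : G) * D.a * (q : G)⁻¹) u → ((p : N ⧸ K) = (q : N ⧸ K)) := by
    intro p q u hp hq
    rw [QuotientGroup.eq]
    have := (hq.trans hp.symm).conj ((p : G)⁻¹)
    show SamePair (((p : G)⁻¹ * (q : G)) * D.a * ((p : G)⁻¹ * (q : G))⁻¹) D.a
    rwa [show (p : G)⁻¹ * ((q : G) * D.a * (q : G)⁻¹) * (p : G)⁻¹⁻¹ =
        (p : G)⁻¹ * (q : G) * D.a * ((p : G)⁻¹ * (q : G))⁻¹ by group,
      show (p : G)⁻¹ * ((p : G) * D.a * (p : G)⁻¹) * (p : G)⁻¹⁻¹ = D.a by group] at this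
  have hne : ∀ (p q : N) (u v : G), SamePair ((p : G) * D.a * (p : G)⁻¹) u →
      SamePair ((q : G) * D.a * (q : G)⁻¹) v → ((p : N ⧸ K) = (q : N ⧸ K)) → SamePair u v := by
    intro p q u v hp hq hpq
    rw [QuotientGroup.eq] at hpq
    have := SamePair.conj (show SamePair (((p : G)⁻¹ * (q : G)) * D.a * ((p : G)⁻¹ * (q : G))⁻¹)
      D.a from hpq) (p : G)
    rw [show (p : G) * ((p : G)⁻¹ * (q : G) * D.a * ((p : G)⁻¹ * (q : G))⁻¹) * (p : G)⁻¹ =
      (q : G) * D.a * (q : G)⁻¹ by group] at this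
    exact (hp.symm.trans this.symm).trans hq
  have hone : SamePair (((1 : N) : G) * D.a * ((1 : N) : G)⁻¹) D.a := Or.inl (by simp)
  have hidx : K.index = 3 := by
    rw [Subgroup.index_eq_card]
    haveI := Fintype.ofFinite (N ⧸ K)
    rw [Nat.card_eq_fintype_card, ← Finset.card_univ]
    rw [show (Finset.univ : Finset (N ⧸ K)) = {((1 : N) : N ⧸ K), ((⟨h1, h1N⟩ : N) : N ⧸ K),
      ((⟨h2, h2N⟩ : N) : N ⧸ K)} from ?_]
    · refine Finset.card_eq_three.2 ⟨_, _, _, ?_, ?_, ?_, rfl⟩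
      · exact fun e => D.not_samePair_a_j hj hjn (hne _ _ _ _ hone e1 e).symm
      · exact fun e => D.not_samePair_a_aj hj hjn (hne _ _ _ _ hone e2 e).symm
      · exact fun e => D.not_samePair_j_aj hj hjn (hne _ _ _ _ e1 e2 e).symm
    · refine (Finset.eq_univ_iff_forall.2 fun q => ?_).symm
      obtain ⟨n, rfl⟩ := QuotientGroup.mk_surjective q
      simp only [Finset.mem_insert, Finset.mem_singleton]
      rcases (n.2 D.a).1 (Or.inl (Or.inl rfl)) with h | h | h
      · exact Or.inl (hmk _ _ _ h hone)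
      · exact Or.inr (Or.inl (hmk _ _ _ h e1))
      · exact Or.inr (Or.inr (hmk _ _ _ h e2))
  obtain ⟨P⟩ : Nonempty (Sylow 3 N) := Sylow.nonempty
  obtain ⟨x, hxP, hxK⟩ : ∃ x ∈ (P : Subgroup N), x ∉ K := by
    by_contra h
    push Not at h
    have := Subgroup.index_dvd_of_le (show (P : Subgroup N) ≤ K from h)
    rw [hidx] at this
    exact P.not_dvd_index this
  obtain ⟨k, hk⟩ := P.2 ⟨x, hxP⟩
  have hk' : x ^ 3 ^ k = 1 := congrArg Subtype.val hk
  have hkG : (x : G) ^ 3 ^ k = 1 := by simpa using congrArg Subtype.val hk'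
  have hx2 : x * x ∉ K := by
    intro h
    refine hxK ?_
    obtain ⟨c, hc⟩ := (Nat.Prime.odd_of_ne_two Nat.prime_three (by norm_num)).pow (n := k)
    have : x = (x * x) ^ (c + 1) := by
      rw [← pow_two, ← pow_mul, show 2 * (c + 1) = (2 * c + 1) + 1 by ring, pow_succ, ← hc, hk',
        one_mul]
    rw [this]
    exact pow_mem h _
  rcases (x.2 D.a).1 (Or.inl (Or.inl rfl)) with h | h | h
  · exact absurd h hxK
  · exact ⟨x, k, hkG, x.2, hxK, h⟩
  · refine ⟨(x * x : N), k, ?_, (x * x).2, hx2, ?_⟩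
    · rw [Subgroup.coe_mul, (Commute.refl (x : G)).mul_pow, hkG, one_mul]
    · rcases ((x * x).2 D.a).1 (Or.inl (Or.inl rfl)) with h' | h' | h'
      · exact absurd h' hx2
      · exact h'
      · -- then `x` fixes `aj`
        exfalso
        refine hxK ?_
        have e := hmk (x * x) x _ h' h
        rw [QuotientGroup.eq, mul_inv_rev, inv_mul_cancel_right] at e
        exact inv_mem_iff.1 e

/-- Either the quadratic lemma applies to `⟨a, j⟩`, or an element of order 3 centralises it. -/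
theorem good_or :
    (∀ g, g * D.a = D.a * g → j * g * j⁻¹ = g⁻¹ → g ^ 8 = 1) ∨
      ∃ w : G, orderOf w = 3 ∧ Commute w D.a ∧ Commute w j := by
  obtain ⟨x, k, hxk, hmv, hxA, hxj⟩ := D.exists_cycle hj hjn
  have hodd : Odd (orderOf x) :=
    ((Nat.Prime.odd_of_ne_two Nat.prime_three (by norm_num)).pow).of_dvd_nat
      (orderOf_dvd_of_pow_eq_one hxk)
  obtain ⟨c, hc⟩ := hodd
  have hback : ∀ {g u : G}, SamePair (g * g * u * (g * g)⁻¹) u → orderOf g = 2 * c + 1 →
      SamePair (g * u * g⁻¹) u := by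
    intro g u h he
    have h2 := SamePair.commute_of_odd h (by
      rw [← pow_two, Nat.odd_iff, ← Nat.two_dvd_ne_zero]
      intro hd
      have := hd.trans (orderOf_pow_dvd 2)
      rw [he] at this
      omega)
    refine Or.inl ?_
    have hg : g = (g * g) ^ (c + 1) := by
      rw [← pow_two, ← pow_mul, show 2 * (c + 1) = (2 * c + 1) + 1 by ring, pow_succ, ← he,
        pow_orderOf_eq_one, one_mul]
    rw [hg, (h2.pow_left (c + 1)).eq, mul_inv_cancel_right]
  have hxJ : SamePair (x * j * x⁻¹) (D.a * j) := by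
    rcases (hmv j).1 (Or.inr (Or.inl (Or.inl rfl))) with h | h | h
    · exfalso
      refine hxA (hback ?_ hc)
      have := (hxj.conj x).trans h
      rwa [show x * (x * D.a * x⁻¹) * x⁻¹ = x * x * D.a * (x * x)⁻¹ by group] at this
    · exfalso
      have h' := hxj.trans (h.symm)
      exact D.not_samePair_a_j hj hjn (by
        have := (h'.conj x⁻¹).symm
        simpa [mul_assoc] using this)
    · exact h
  by_cases hx3 : x ^ 3 = 1
  · left
    intro g hga hgj
    have hx1 : x ≠ 1 := fun e => hxA (Or.inl (by simp [e]))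
    rcases hxj with e | e
    · exact D.quad D.a j x g D.a_sq (D.sq_of_notMem hj hjn) (D.inverts_a hj hjn) hx3 hx1 e hxJ
        hga hgj
    · have hj' : j⁻¹ ∈ D.S := inv_mem hj
      have hjn' : j⁻¹ ∉ Subgroup.zpowers D.y := fun h => hjn (by simpa using inv_mem h)
      refine D.quad D.a j⁻¹ x g D.a_sq (D.sq_of_notMem hj' hjn') (D.inverts_a hj' hjn') hx3 hx1 e
        ?_ hga ?_
      · have hxj' : x * j⁻¹ * x⁻¹ = (x * j * x⁻¹)⁻¹ := by group
        have e1 : D.a * j⁻¹ = (D.a * j)⁻¹⁻¹ * D.z := by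
          rw [D.inv_eq (D.sq_of_notMem hj hjn), inv_inv, ← mul_assoc, D.z_comm D.a, mul_assoc,
            D.z_comm]
        have e2 : D.a * j⁻¹ = (D.a * j)⁻¹ := by
          rw [e1, inv_inv, D.z_comm,
            D.inv_eq (D.sq_of_notMem (D.aj_mem hj hjn).1 (D.aj_mem hj hjn).2)]
        rw [hxj', e2, inv_inv]
        rcases hxJ with h | h
        · exact Or.inl (by rw [h])
        · exact Or.inr (by rw [h, inv_inv])
      · rw [inv_inv]
        calc j⁻¹ * g * j = j⁻¹ * (j * g * j⁻¹)⁻¹ * j := by rw [hgj, inv_inv]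
          _ = g⁻¹ := by group
  · right
    have h3a : Commute (x ^ 3) D.a := by
      refine SamePair.commute_of_odd ?_ ?_
      · rcases (hmv (D.a * j)).1 (Or.inr (Or.inr (Or.inl rfl))) with h | h | h
        · have e1 := ((hxj.conj x).trans hxJ).conj x
          have e2 := e1.trans h
          rwa [show x * (x * (x * D.a * x⁻¹) * x⁻¹) * x⁻¹ = x * x * x * D.a * (x * x * x)⁻¹ by group,
            show x * x * x = x ^ 3 by rw [pow_succ, pow_two]] at e2
        · exfalso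
          refine hxA (hback ?_ hc)
          have e2 := h.trans (hxj.symm)
          have e3 := (e2.conj x⁻¹)
          rw [show x⁻¹ * (x * (D.a * j) * x⁻¹) * x⁻¹⁻¹ = D.a * j by group,
            show x⁻¹ * (x * D.a * x⁻¹) * x⁻¹⁻¹ = D.a by group] at e3
          exact absurd e3 (D.not_samePair_a_aj hj hjn)
        · exfalso
          have e2 := h.trans hxJ.symm
          have e3 := (e2.conj x⁻¹)
          rw [show x⁻¹ * (x * (D.a * j) * x⁻¹) * x⁻¹⁻¹ = D.a * j by group,
            show x⁻¹ * (x * j * x⁻¹) * x⁻¹⁻¹ = j by group] at e3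
          exact D.not_samePair_j_aj hj hjn e3
      · exact Odd.of_dvd_nat ⟨c, hc⟩ (orderOf_pow_dvd 3)
    have h3j : Commute (x ^ 3) j := by
      rw [commute_iff_eq, ← mul_inv_eq_iff_eq_mul]
      rcases hxj with e | e
      · calc x ^ 3 * j * (x ^ 3)⁻¹ = x ^ 3 * (x * D.a * x⁻¹) * (x ^ 3)⁻¹ := by rw [e]
          _ = x * (x ^ 3 * D.a * (x ^ 3)⁻¹) * x⁻¹ := by group
          _ = j := by rw [h3a.eq, mul_inv_cancel_right, e]
      · calc x ^ 3 * j * (x ^ 3)⁻¹ = x ^ 3 * (x * D.a * x⁻¹)⁻¹ * (x ^ 3)⁻¹ := by rw [e, inv_inv]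
          _ = (x * (x ^ 3 * D.a * (x ^ 3)⁻¹) * x⁻¹)⁻¹ := by group
          _ = j := by rw [h3a.eq, mul_inv_cancel_right, e, inv_inv]
    haveI : Fact (Nat.Prime 3) := ⟨Nat.prime_three⟩
    obtain ⟨n, -, hn⟩ := (Nat.dvd_prime_pow Nat.prime_three).1
      (orderOf_dvd_of_pow_eq_one (show (x ^ 3) ^ 3 ^ k = 1 by
        rw [← pow_mul, mul_comm, pow_mul, hxk, one_pow]))
    cases n with
    | zero => exact absurd (orderOf_eq_one_iff.1 (by simpa using hn)) hx3
    | succ n =>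
      refine ⟨(x ^ 3) ^ 3 ^ n, ?_, h3a.pow_left _, h3j.pow_left _⟩
      rw [orderOf_pow_of_dvd (by positivity) (hn ▸ pow_dvd_pow 3 (Nat.le_succ n)), hn, pow_succ,
        Nat.mul_div_cancel_left _ (by positivity)]

omit hj hjn

theorem mul_conj_inverted {j o : G} (hj2 : j * j = D.z) :
    j * (o⁻¹ * (j * o * j⁻¹)) * j⁻¹ = (o⁻¹ * (j * o * j⁻¹))⁻¹ := by
  calc j * (o⁻¹ * (j * o * j⁻¹)) * j⁻¹ = (j * o⁻¹ * j⁻¹) * ((j * j) * o * (j * j)⁻¹) := by group
    _ = (j * o⁻¹ * j⁻¹) * o := by rw [hj2, ← D.z_comm o, mul_inv_cancel_right]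
    _ = _ := by group

theorem orderOf_conj (g x : G) : orderOf (g * x * g⁻¹) = orderOf x := by
  rw [← MulAut.conj_apply, MulEquiv.orderOf_eq]

/-- If `S` centralises `x` and `g` inverts it, `x` is trivial. -/
theorem sylow_centralizes_normalizer {x : G} (hS : ∀ s ∈ D.S, Commute s x) {g : G}
    (hg : g * x * g⁻¹ = x⁻¹) : x * x = 1 := by
  classical
  haveI : Fact (Nat.Prime 2) := ⟨Nat.prime_two⟩
  obtain ⟨u, w, hw, huw⟩ := Nat.exists_eq_two_pow_mul_odd (orderOf_pos g).ne'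
  have hinv : ∀ {v : G}, v * x * v⁻¹ = x⁻¹ → ∀ n : ℕ, Odd n → v ^ n * x * (v ^ n)⁻¹ = x⁻¹ := by
    intro v hv n hn
    have := conj_pow_eq_zpow (r := -1) (by rw [hv, zpow_neg_one]) n
    rw [this, hn.neg_one_pow, zpow_neg_one]
  set t := g ^ w with ht
  have ht1 : t * x * t⁻¹ = x⁻¹ := hinv hg w hw
  set N := Subgroup.normalizer ((Subgroup.zpowers x : Subgroup G) : Set G) with hN
  have htN : t ∈ N := by
    refine Subgroup.mem_normalizer_iff.2 fun v => ⟨fun hv => ?_, fun hv => ?_⟩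
    · obtain ⟨i, rfl⟩ := Subgroup.mem_zpowers_iff.1 hv
      rw [← conj_zpow, ht1]
      exact zpow_mem (inv_mem (Subgroup.mem_zpowers _)) i
    · obtain ⟨i, hi⟩ := Subgroup.mem_zpowers_iff.1 hv
      have : v = x ^ (-i) := by
        rw [zpow_neg, ← inv_zpow, ← mul_left_cancel_iff (a := t), ← mul_right_cancel_iff (a := t⁻¹),
          ← hi, ← conj_zpow, show t * x⁻¹ * t⁻¹ = (t * x * t⁻¹)⁻¹ by group, ht1, inv_inv]
      exact this ▸ zpow_mem (Subgroup.mem_zpowers _) _
  have hSN : (D.S : Subgroup G) ≤ N := fun s hs => by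
    refine Subgroup.mem_normalizer_iff.2 fun v => ?_
    have hc : ∀ v ∈ Subgroup.zpowers x, s * v * s⁻¹ = v := fun v hv => by
      obtain ⟨i, rfl⟩ := Subgroup.mem_zpowers_iff.1 hv
      rw [((hS s hs).zpow_right i).eq, mul_inv_cancel_right]
    refine ⟨fun hv => (hc v hv).symm ▸ hv, fun hv => ?_⟩
    have h1 := hc _ hv
    rw [show s * (s * v * s⁻¹) * s⁻¹ = s * s * v * (s * s)⁻¹ by group] at h1
    have h2 : s * v * s⁻¹ = v := by
      have h3 := congrArg (fun q => s⁻¹ * q * s) h1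
      simp only [mul_inv_rev] at h3
      calc s * v * s⁻¹ = s⁻¹ * (s * s * v * (s⁻¹ * s⁻¹)) * s := by group
        _ = s⁻¹ * (s * v * s⁻¹) * s := h3
        _ = v := by group
    rwa [h2] at hv
  have ht2 : IsPGroup 2 (Subgroup.zpowers (⟨t, htN⟩ : N)) := by
    refine IsPGroup.iff_orderOf.2 fun v => ?_
    obtain ⟨i, hi⟩ := Subgroup.mem_zpowers_iff.1 v.2
    have h1 : orderOf v ∣ 2 ^ u := by
      refine orderOf_dvd_of_pow_eq_one (Subtype.ext (Subtype.ext ?_))
      simp only [SubmonoidClass.coe_pow, OneMemClass.coe_one]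
      rw [← hi, SubgroupClass.coe_zpow, ← zpow_natCast, ← zpow_mul, mul_comm, zpow_mul,
        zpow_natCast]
      show ((g ^ w) ^ 2 ^ u) ^ i = 1
      rw [← pow_mul, mul_comm w, ← huw, pow_orderOf_eq_one, one_zpow]
    obtain ⟨n, -, hn⟩ := (Nat.dvd_prime_pow Nat.prime_two).1 h1
    exact ⟨n, hn⟩
  obtain ⟨T, hT⟩ := ht2.exists_le_sylow
  obtain ⟨⟨c, hcN⟩, hc⟩ := MulAction.exists_smul_eq N T (D.S.subtype hSN)
  have hmem : c * t * c⁻¹ ∈ D.S := by
    have h1 : MulAut.conj (⟨c, hcN⟩ : N) • (⟨t, htN⟩ : N) ∈ ((⟨c, hcN⟩ : N) • T : Sylow 2 N) :=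
      Subgroup.smul_mem_pointwise_smul _ _ _ (hT (Subgroup.mem_zpowers _))
    rw [hc] at h1
    exact h1
  have hcx : c * x * c⁻¹ ∈ Subgroup.zpowers x :=
    (Subgroup.mem_normalizer_iff.1 hcN x).1 (Subgroup.mem_zpowers x)
  obtain ⟨i, hi⟩ := Subgroup.mem_zpowers_iff.1 hcx
  have h1 : Commute (c * t * c⁻¹) (c * x * c⁻¹) := by
    rw [← hi]; exact (hS _ hmem).zpow_right i
  have h2 : Commute t x := by
    have := h1.map (MulAut.conj c⁻¹).toMonoidHom
    simpa [mul_assoc] using this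
  rw [h2.eq, mul_inv_cancel_right] at ht1
  nth_rewrite 2 [ht1]
  rw [mul_inv_cancel]

theorem commute_S_of_forall {x : G}
    (h : ∀ s ∈ D.S, s ∉ Subgroup.zpowers D.y → Commute s x) : ∀ s ∈ D.S, Commute s x := by
  intro s hs
  by_cases hn : s ∈ Subgroup.zpowers D.y
  · obtain ⟨t, ht, htn⟩ := D.exists_notMem
    have hst : s * t ∉ Subgroup.zpowers D.y := fun h' => htn (by
      have := mul_mem (inv_mem hn) h'
      rwa [inv_mul_cancel_left] at this)
    have := (h _ (mul_mem hs ht) hst).mul_left (h t ht htn).inv_left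
    rwa [mul_inv_cancel_right] at this
  · exact h s hs hn

theorem not_three_dvd_card_O : ¬ 3 ∣ Nat.card D.O := by
  classical
  intro h3
  haveI : Fact (Nat.Prime 3) := ⟨Nat.prime_three⟩
  haveI : Fact (Nat.Prime 2) := ⟨Nat.prime_two⟩
  let φ : (D.S : Subgroup G) →* MulAut D.O :=
    { toFun := fun s =>
        { toFun := fun o => ⟨(s : G) * o * (s : G)⁻¹, D.conj_mem_O o.2 s.2⟩
          invFun := fun o => ⟨(s : G)⁻¹ * o * (s : G)⁻¹⁻¹, D.conj_mem_O o.2 (inv_mem s.2)⟩
          left_inv := fun o => Subtype.ext (by simp [mul_assoc])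
          right_inv := fun o => Subtype.ext (by simp [mul_assoc])
          map_mul' := fun o o' => Subtype.ext (by simp [mul_assoc]) }
      map_one' := MulEquiv.ext fun o => Subtype.ext (by simp)
      map_mul' := fun s t => MulEquiv.ext fun o => Subtype.ext (by simp [mul_assoc]) }
  letI : MulDistribMulAction (D.S : Subgroup G) D.O := MulDistribMulAction.compHom D.O φ
  have hnd : ¬ 2 ∣ Nat.card (Sylow 3 D.O) := by
    obtain ⟨P⟩ : Nonempty (Sylow 3 D.O) := Sylow.nonempty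
    intro h
    have := (h.trans P.card_dvd_index).trans (Subgroup.index_dvd_card _)
    exact absurd D.odd_card_O (by rw [Nat.not_odd_iff_even, even_iff_two_dvd]; exact this)
  obtain ⟨P, hP⟩ := IsPGroup.nonempty_fixed_point_of_prime_not_dvd_card D.S.2 (Sylow 3 D.O) hnd
  set P' := (P : Subgroup D.O).map D.O.subtype with hP'
  haveI : IsCyclic P' := D.cyclic_odd 3 Nat.prime_three (by norm_num) P' (P.2.map _)
  have hPne : (P : Subgroup D.O) ≠ ⊥ := P.ne_bot_of_dvd_card h3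
  obtain ⟨x, hxP, hx⟩ : ∃ x ∈ P', orderOf x = 3 := by
    have h1 : 3 ∣ Nat.card P' := by
      rw [hP', Subgroup.card_map_of_injective D.O.subtype_injective]
      obtain ⟨n, hn⟩ := P.2.exists_card_eq
      rcases eq_or_ne n 0 with rfl | hn0
      · exact absurd (Subgroup.card_eq_one.1 (by simpa using hn)) hPne
      · rw [hn]; exact dvd_pow_self 3 hn0
    obtain ⟨x, hx⟩ := exists_prime_orderOf_dvd_card' 3 h1
    exact ⟨x, x.2, by rwa [Subgroup.orderOf_coe]⟩
  have hxO : x ∈ D.O := Subgroup.map_subtype_le _ hxP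
  have hx3 : x ^ 3 = 1 := hx ▸ pow_orderOf_eq_one x
  have hxx : x * x ≠ 1 := fun e => by
    have := Nat.le_of_dvd two_pos (hx ▸ orderOf_dvd_of_pow_eq_one (show x ^ 2 = 1 by rwa [pow_two]))
    omega
  have hSP : ∀ s ∈ D.S, s * x * s⁻¹ ∈ P' := by
    intro s hs
    obtain ⟨o, ho, rfl⟩ := hxP
    refine ⟨(⟨s, hs⟩ : (D.S : Subgroup G)) • o, ?_, rfl⟩
    have h1 := Subgroup.smul_mem_pointwise_smul o (⟨s, hs⟩ : (D.S : Subgroup G))
      (P : Subgroup D.O) ho
    rwa [← Sylow.pointwise_smul_def, hP ⟨s, hs⟩] at h1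
  -- every element of `S` outside `⟨y⟩` centralises `x`
  have hjx : ∀ j ∈ D.S, j ∉ Subgroup.zpowers D.y → Commute j x := by
    intro j hj hjn
    have hmem : j * x * j⁻¹ ∈ Subgroup.zpowers x :=
      mem_zpowers_of_isCyclic hxP (hSP j hj) hx (by rw [conj_pow, hx3, mul_one, mul_inv_cancel])
    obtain ⟨i, hi⟩ := Subgroup.mem_zpowers_iff.1 hmem
    rw [← zpow_mod_orderOf, hx] at hi
    have h4 : i % (3 : ℤ) = 0 ∨ i % (3 : ℤ) = 1 ∨ i % (3 : ℤ) = 2 := by omega
    rcases h4 with e | e | e <;> rw [Nat.cast_ofNat, e] at hi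
    · rw [zpow_zero, eq_comm, conj_eq_one_iff] at hi
      exact absurd hi (fun e => hxx (by rw [e, mul_one]))
    · rw [zpow_one, eq_comm, mul_inv_eq_iff_eq_mul] at hi
      exact hi
    -- `j` inverts `x`
    exfalso
    have hjx : j * x * j⁻¹ = x⁻¹ := by
      rw [← hi, zpow_two, eq_inv_iff_mul_eq_one, ← pow_two, ← pow_succ, hx3]
    obtain ⟨hxa, hxodd⟩ := D.mem_O.1 hxO
    rcases D.good_or hj hjn with hgood | ⟨w, hw, hwa, hwj⟩
    · have h8 := hgood x hxa.eq hjx
      have := Nat.le_of_dvd (by norm_num) (orderOf_dvd_of_pow_eq_one h8)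
      have h83 := orderOf_dvd_of_pow_eq_one h8
      rw [hx] at h83
      norm_num at h83
    · have hwO : w ∈ D.O := D.mem_O.2 ⟨hwa, by rw [hw]; decide⟩
      obtain ⟨P₂, hP₂⟩ : ∃ P₂ : Sylow 3 D.O, Subgroup.zpowers (⟨w, hwO⟩ : D.O) ≤ P₂ := by
        refine IsPGroup.exists_le_sylow (IsPGroup.of_card (n := 1) ?_)
        rw [Nat.card_zpowers, pow_one, Subgroup.orderOf_mk, hw]
      obtain ⟨c, hc⟩ := MulAction.exists_smul_eq D.O P₂ P
      have hmem : (c : G) * w * (c : G)⁻¹ ∈ P' := by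
        refine ⟨MulAut.conj c • (⟨w, hwO⟩ : D.O), ?_, rfl⟩
        rw [← hc]
        exact Subgroup.smul_mem_pointwise_smul _ _ _ (hP₂ (Subgroup.mem_zpowers _))
      have hw3 : w ^ 3 = 1 := hw ▸ pow_orderOf_eq_one w
      have hcw : x ∈ Subgroup.zpowers ((c : G) * w * (c : G)⁻¹) :=
        mem_zpowers_of_isCyclic hmem hxP (by rw [orderOf_conj, hw]) hx3
      obtain ⟨l, hl⟩ := Subgroup.mem_zpowers_iff.1 hcw
      rw [conj_zpow] at hl
      set v := w ^ l with hv
      have hvj : Commute v j := hwj.zpow_left l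
      set d := (c : G) * (j * (c : G) * j⁻¹)⁻¹ with hd
      have hdO : d ∈ D.O := mul_mem c.2 (inv_mem (D.conj_mem_O c.2 hj))
      have hdx : d * x⁻¹ * d⁻¹ = x := by
        rw [← hjx, ← hl, hd]
        calc _ = (c : G) * (j⁻¹⁻¹ * 1 * j⁻¹) * v * ((c : G))⁻¹ * (1 : G) := by
              have : j * v * j⁻¹ = v := by rw [← hvj.eq, mul_inv_cancel_right]
              calc (c : G) * (j * (c : G) * j⁻¹)⁻¹ * (j * ((c : G) * v * (c : G)⁻¹) * j⁻¹) *
                    ((c : G) * (j * (c : G) * j⁻¹)⁻¹)⁻¹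
                  = (c : G) * (j * v * j⁻¹) * (c : G)⁻¹ := by group
                _ = _ := by rw [this]; group
          _ = _ := by group
      have hdx' : d * x * d⁻¹ = x⁻¹ := by
        calc d * x * d⁻¹ = (d * x⁻¹ * d⁻¹)⁻¹ := by group
          _ = x⁻¹ := by rw [hdx]
      have hcom := SamePair.commute_of_odd (Or.inr hdx' : SamePair (d * x * d⁻¹) x) (D.mem_O.1 hdO).2
      rw [hcom.eq, mul_inv_cancel_right] at hdx'
      exact hxx (by nth_rewrite 2 [hdx']; rw [mul_inv_cancel])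
  have hxS : ∀ s ∈ D.S, Commute s x := D.commute_S_of_forall hjx
  obtain ⟨T, hT⟩ := (IsPGroup.of_card (n := 1) (p := 3)
    (by rw [Nat.card_zpowers, hx, pow_one] : Nat.card (Subgroup.zpowers x) = 3 ^ 1)).exists_le_sylow
  haveI : IsCyclic T := D.cyclic_odd 3 Nat.prime_three (by norm_num) _ T.2
  refine false_of_perfect_of_omega D.perfect T (hT (Subgroup.mem_zpowers x)) hx fun g hg => ?_
  obtain ⟨i, hi⟩ := Subgroup.mem_zpowers_iff.1 hg
  rw [← zpow_mod_orderOf, hx] at hi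
  have h4 : i % (3 : ℤ) = 0 ∨ i % (3 : ℤ) = 1 ∨ i % (3 : ℤ) = 2 := by omega
  rcases h4 with e | e | e <;> rw [Nat.cast_ofNat, e] at hi
  · rw [zpow_zero, eq_comm, conj_eq_one_iff] at hi
    exact absurd hi (fun e => hxx (by rw [e, mul_one]))
  · rw [zpow_one, eq_comm, mul_inv_eq_iff_eq_mul] at hi
    exact hi
  · refine absurd (D.sylow_centralizes_normalizer hxS (g := g) ?_) hxx
    rw [← hi, zpow_two, eq_inv_iff_mul_eq_one, ← pow_two, ← pow_succ, hx3]

theorem good {j : G} (hj : j ∈ D.S) (hjn : j ∉ Subgroup.zpowers D.y) :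
    ∀ g, g * D.a = D.a * g → j * g * j⁻¹ = g⁻¹ → g ^ 8 = 1 := by
  refine (D.good_or hj hjn).resolve_right fun ⟨w, hw, hwa, _⟩ => ?_
  have hwO : w ∈ D.O := D.mem_O.2 ⟨hwa, by rw [hw]; decide⟩
  refine D.not_three_dvd_card_O ?_
  rw [← hw, ← Subgroup.orderOf_mk w hwO]
  exact orderOf_dvd_natCard _

theorem commute_S_O {o s : G} (ho : o ∈ D.O) (hs : s ∈ D.S) : Commute s o := by
  refine D.commute_S_of_forall (x := o) (fun j hj hjn => ?_) s hs
  set g := o⁻¹ * (j * o * j⁻¹) with hg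
  have hgO : g ∈ D.O := mul_mem (inv_mem ho) (D.conj_mem_O ho hj)
  obtain ⟨hga, hgodd⟩ := D.mem_O.1 hgO
  have h8 := D.good hj hjn g hga.eq (D.mul_conj_inverted (D.sq_of_notMem hj hjn))
  have h1 : orderOf g = 1 := Nat.eq_one_of_dvd_coprimes
    (show (2 ^ 3).Coprime (orderOf g) from (Nat.coprime_two_left.2 hgodd).pow_left 3)
    (orderOf_dvd_of_pow_eq_one h8) dvd_rfl
  rw [orderOf_eq_one_iff, hg, inv_mul_eq_one, eq_comm, mul_inv_eq_iff_eq_mul] at h1
  exact h1

theorem m_le_two : D.m ≤ 2 := by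
  obtain ⟨j, hj, hjn⟩ := D.exists_notMem
  have h8 := D.good hj hjn D.y
    (D.commute_of_mem (Subgroup.mem_zpowers _) D.a_mem_zpowers).eq
    (D.inverts hj hjn (Subgroup.mem_zpowers _))
  have h1 := orderOf_dvd_of_pow_eq_one h8
  rw [D.orderOf_y, show (8 : ℕ) = 2 ^ 3 from rfl, Nat.pow_dvd_pow_iff_le_right (by norm_num)] at h1
  omega

theorem pow_six_samePair {n : G} (hn : ∀ s ∈ D.S, n * s * n⁻¹ ∈ D.S) :
    SamePair (n ^ 6 * D.a * (n ^ 6)⁻¹) D.a := by
  classical
  rcases eq_or_lt_of_le D.one_le_m with hm | hm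
  · have hm : D.m = 1 := hm.symm
    obtain ⟨j, hj, hjn⟩ := D.exists_notMem
    have hpow : ∀ i : ℕ, ∀ s ∈ D.S, n ^ i * s * (n ^ i)⁻¹ ∈ D.S := by
      intro i
      induction i with
      | zero => intro s hs; simpa using hs
      | succ i ih =>
        intro s hs
        rw [show n ^ (i + 1) * s * (n ^ (i + 1))⁻¹ = n ^ i * (n * s * n⁻¹) * (n ^ i)⁻¹ by
          rw [pow_succ]; group]
        exact ih _ (hn s hs)
    let rep : Fin 3 → G := ![D.a, j, D.a * j]
    have hcls : ∀ i : Fin 4, ∃ l : Fin 3,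
        SamePair (n ^ (i : ℕ) * D.a * (n ^ (i : ℕ))⁻¹) (rep l) := by
      intro i
      have h2 : n ^ (i : ℕ) * D.a * (n ^ (i : ℕ))⁻¹ * (n ^ (i : ℕ) * D.a * (n ^ (i : ℕ))⁻¹) =
          D.z := by
        rw [show ∀ q : G, q * D.a * q⁻¹ * (q * D.a * q⁻¹) = q * (D.a * D.a) * q⁻¹ from
          fun q => by group, D.a_sq, D.z_comm, mul_inv_cancel_right]
      rcases D.six_of_m_one hj hjn hm (hpow _ _ D.a_mem) h2 with h | h | h
      exacts [⟨0, h⟩, ⟨1, h⟩, ⟨2, h⟩]
    choose l hl using hcls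
    obtain ⟨i, k, hik, he⟩ : ∃ i k : Fin 4, i < k ∧ l i = l k := by
      obtain ⟨i, k, hne, he⟩ := Fintype.exists_ne_map_eq_of_card_lt l (by simp)
      rcases lt_or_gt_of_ne hne with h | h
      exacts [⟨i, k, h, he⟩, ⟨k, i, h, he.symm⟩]
    have h1 := (hl k).trans (he ▸ (hl i).symm : SamePair (rep (l k)) _)
    have h2 := h1.conj (n ^ (i : ℕ))⁻¹
    have hlt : (i : ℕ) < k := hik
    have hsub : (n ^ (i : ℕ))⁻¹ * n ^ (k : ℕ) = n ^ ((k : ℕ) - i) := by
      rw [inv_mul_eq_iff_eq_mul, ← pow_add, Nat.add_sub_cancel' hlt.le]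
    rw [show (n ^ (i : ℕ))⁻¹ * (n ^ (k : ℕ) * D.a * (n ^ (k : ℕ))⁻¹) * (n ^ (i : ℕ))⁻¹⁻¹ =
        (n ^ (i : ℕ))⁻¹ * n ^ (k : ℕ) * D.a * ((n ^ (i : ℕ))⁻¹ * n ^ (k : ℕ))⁻¹ by group,
      hsub, show (n ^ (i : ℕ))⁻¹ * (n ^ (i : ℕ) * D.a * (n ^ (i : ℕ))⁻¹) * (n ^ (i : ℕ))⁻¹⁻¹ =
        D.a by group] at h2
    set d := (k : ℕ) - i with hd
    have hd6 : d ∣ 6 := by
      have := k.2
      rcases (by omega : d = 1 ∨ d = 2 ∨ d = 3) with e | e | e <;> rw [e] <;> norm_num
    obtain ⟨e, he6⟩ := hd6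
    have key : ∀ e : ℕ, SamePair ((n ^ d) ^ e * D.a * ((n ^ d) ^ e)⁻¹) D.a := by
      intro e
      induction e with
      | zero => exact Or.inl (by simp)
      | succ e ih =>
        have := (h2.conj ((n ^ d) ^ e)).trans ih
        rwa [show (n ^ d) ^ e * (n ^ d * D.a * (n ^ d)⁻¹) * ((n ^ d) ^ e)⁻¹ =
          (n ^ d) ^ (e + 1) * D.a * ((n ^ d) ^ (e + 1))⁻¹ by rw [pow_succ]; group] at this
    have := key e
    rwa [← pow_mul, ← he6] at this
  · -- `⟨y⟩` is the only cyclic subgroup of its order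
    have hy : n * D.y * n⁻¹ ∈ Subgroup.zpowers D.y := by
      by_contra h
      have h1 := D.sq_of_notMem (hn _ D.y_mem) h
      have h2 : (n * D.y * n⁻¹) ^ 4 = 1 := by
        rw [show (4 : ℕ) = 2 + 2 from rfl, pow_add, pow_two, h1, D.z_sq]
      have h3 := orderOf_dvd_of_pow_eq_one h2
      rw [orderOf_conj, D.orderOf_y, show (4 : ℕ) = 2 ^ 2 from rfl,
        Nat.pow_dvd_pow_iff_le_right (by norm_num)] at h3
      omega
    have hne : SamePair (n * D.a * n⁻¹) D.a := by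
      refine D.samePair_a ?_ ?_
      · rw [a, ← conj_pow]; exact pow_mem hy _
      · rw [show n * D.a * n⁻¹ * (n * D.a * n⁻¹) = n * (D.a * D.a) * n⁻¹ by group, D.a_sq,
          D.z_comm, mul_inv_cancel_right]
    have key : ∀ e : ℕ, SamePair (n ^ e * D.a * (n ^ e)⁻¹) D.a := by
      intro e
      induction e with
      | zero => exact Or.inl (by simp)
      | succ e ih =>
        have := (hne.conj (n ^ e)).trans ih
        rwa [show n ^ e * (n * D.a * n⁻¹) * (n ^ e)⁻¹ =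
          n ^ (e + 1) * D.a * (n ^ (e + 1))⁻¹ by rw [pow_succ]; group] at this
    exact key 6

theorem O_eq_bot : D.O = ⊥ := by
  classical
  haveI : Fact (Nat.Prime 2) := ⟨Nat.prime_two⟩
  by_contra hne
  have hcard : Nat.card D.O ≠ 1 := fun h => hne (Subgroup.card_eq_one.1 h)
  set p := (Nat.card D.O).minFac with hp
  have hpp : p.Prime := Nat.minFac_prime hcard
  haveI := Fact.mk hpp
  obtain ⟨⟨x, hxO⟩, hx⟩ := exists_prime_orderOf_dvd_card' p (Nat.minFac_dvd (Nat.card D.O))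
  rw [Subgroup.orderOf_mk] at hx
  have hp2 : p ≠ 2 := fun e => by
    have := (D.mem_O.1 hxO).2
    rw [hx, e] at this
    exact absurd this (by decide)
  have hS : ∀ s ∈ D.S, Commute s x := fun s hs => D.commute_S_O hxO hs
  obtain ⟨T, hT⟩ := (IsPGroup.of_card (n := 1) (p := p)
    (by rw [Nat.card_zpowers, hx, pow_one] : Nat.card (Subgroup.zpowers x) = p ^ 1)).exists_le_sylow
  haveI : IsCyclic T := D.cyclic_odd p hpp hp2 _ T.2
  refine false_of_perfect_of_omega D.perfect T (hT (Subgroup.mem_zpowers x)) hx fun g hg => ?_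
  obtain ⟨r, hr⟩ := Subgroup.mem_zpowers_iff.1 hg
  set C := Subgroup.centralizer ({x} : Set G) with hC
  have hmemC : ∀ q, q ∈ C ↔ Commute q x := fun q => Subgroup.mem_centralizer_singleton_iff
  have hSC : (D.S : Subgroup G) ≤ C := fun s hs => (hmemC s).2 (hS s hs)
  have hgS : ((g • D.S : Sylow 2 G) : Subgroup G) ≤ C := by
    intro q hq
    rw [Sylow.coe_subgroup_smul, Subgroup.mem_pointwise_smul_iff_inv_smul_mem] at hq
    have hq' : g⁻¹ * q * g ∈ (D.S : Subgroup G) := by simpa [MulAut.smul_def] using hq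
    have h1 : Commute (g * (g⁻¹ * q * g) * g⁻¹) (g * x * g⁻¹) :=
      (hS _ hq').map (MulAut.conj g).toMonoidHom
    rw [show g * (g⁻¹ * q * g) * g⁻¹ = q by group] at h1
    obtain ⟨l, hl⟩ := Subgroup.mem_zpowers_iff.1
      (mem_zpowers_of_isCyclic (P := Subgroup.zpowers x) hg (Subgroup.mem_zpowers x)
        (by rw [orderOf_conj, hx]) (hx ▸ pow_orderOf_eq_one x))
    exact (hmemC q).2 (hl ▸ h1.zpow_right l)
  obtain ⟨⟨c, hcC⟩, hc⟩ := MulAction.exists_smul_eq C ((g • D.S).subtype hgS) (D.S.subtype hSC)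
  set n := c * g with hn
  have hnS : ∀ s ∈ D.S, n * s * n⁻¹ ∈ D.S := fun s hs => by
    have hgs : g * s * g⁻¹ ∈ ((g • D.S : Sylow 2 G) : Subgroup G) := by
      rw [Sylow.coe_subgroup_smul]
      exact Subgroup.smul_mem_pointwise_smul s (MulAut.conj g) _ hs
    have h1 : MulAut.conj (⟨c, hcC⟩ : C) • (⟨_, hgS hgs⟩ : C) ∈
        ((⟨c, hcC⟩ : C) • (g • D.S).subtype hgS : Sylow 2 C) :=
      Subgroup.smul_mem_pointwise_smul _ _ _ hgs
    rw [hc] at h1
    have h2 : c * (g * s * g⁻¹) * c⁻¹ ∈ D.S := h1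
    rwa [show c * (g * s * g⁻¹) * c⁻¹ = n * s * n⁻¹ by rw [hn]; group] at h2
  have hnx : n * x * n⁻¹ = x ^ r := by
    rw [hn, show c * g * x * (c * g)⁻¹ = c * (g * x * g⁻¹) * c⁻¹ by group, ← hr]
    rw [((show Commute c x from (hmemC c).1 hcC).zpow_right r).eq, mul_inv_cancel_right]
  suffices hcn : n ∈ C by
    have : g ∈ C := by
      have := mul_mem (inv_mem hcC) hcn
      rwa [hn, inv_mul_cancel_left] at this
    exact ((hmemC g).1 this).eq
  -- the action of `n` on `⟨x⟩`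
  have hnN : ∀ i : ℕ, n ^ i * x * (n ^ i)⁻¹ ∈ Subgroup.zpowers x := fun i =>
    (conj_pow_eq_zpow hnx i).symm ▸ zpow_mem (Subgroup.mem_zpowers x) _
  have hnSi : ∀ (i : ℕ), ∀ s ∈ D.S, n ^ i * s * (n ^ i)⁻¹ ∈ D.S := by
    intro i
    induction i with
    | zero => intro s hs; simpa using hs
    | succ i ih =>
      intro s hs
      rw [show n ^ (i + 1) * s * (n ^ (i + 1))⁻¹ = n ^ i * (n * s * n⁻¹) * (n ^ i)⁻¹ by
        rw [pow_succ]; group]
      exact ih _ (hnS s hs)
  have h6 : n ^ 6 ∈ C := by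
    obtain ⟨o, ho, s, hs, e⟩ := D.decomp (D.pow_six_samePair hnS)
    rw [e]
    refine mul_mem ?_ (hSC hs)
    have hox : o * x * o⁻¹ ∈ Subgroup.zpowers x := by
      have := hnN 6
      rwa [e, show o * s * x * (o * s)⁻¹ = o * (s * x * s⁻¹) * o⁻¹ by group, (hS s hs).eq,
        mul_inv_cancel_right] at this
    obtain ⟨l, hl⟩ := Subgroup.mem_zpowers_iff.1 hox
    have hfix : o ^ (p - 1) ∈ C := by
      rw [hmemC, commute_iff_eq, ← mul_inv_eq_iff_eq_mul, conj_pow_eq_zpow hl.symm]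
      conv_rhs => rw [← zpow_one x]
      rw [← mul_inv_eq_one, ← zpow_sub, ← orderOf_dvd_iff_zpow_eq_one, hx,
        ← ZMod.intCast_zmod_eq_zero_iff_dvd]
      push_cast
      rw [sub_eq_zero]
      refine ZMod.pow_card_sub_one_eq_one ?_
      intro h0
      have hpl : (p : ℤ) ∣ l := (ZMod.intCast_zmod_eq_zero_iff_dvd _ _).1 h0
      rw [← hx, orderOf_dvd_iff_zpow_eq_one, hl, conj_eq_one_iff] at hpl
      rw [hpl, orderOf_one] at hx
      exact hpp.ne_one hx.symm
    have hord : o ^ orderOf o ∈ C := by rw [pow_orderOf_eq_one]; exact one_mem _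
    have hg1 := pow_gcd_mem hfix hord
    have hg1' : (p - 1).gcd (orderOf o) = 1 := by
      by_contra hne1
      obtain ⟨q, hq, hqd⟩ := Nat.exists_prime_and_dvd hne1
      have h1 := (Nat.gcd_dvd_right (p - 1) (orderOf o))
      have h2 : q ∣ Nat.card D.O :=
        (hqd.trans h1).trans (Subgroup.orderOf_mk o ho ▸ orderOf_dvd_natCard _)
      have h3 := Nat.minFac_le_of_dvd hq.two_le h2
      have h4 := Nat.le_of_dvd (by have := hpp.two_le; omega)
        (hqd.trans (Nat.gcd_dvd_left (p - 1) (orderOf o)))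
      have := hpp.two_le
      omega
    rwa [hg1', pow_one] at hg1
  set N := orderOf n with hN
  have hN0 : N ≠ 0 := (orderOf_pos n).ne'
  have ha2 : n ^ ordCompl[2] N ∈ C := by
    refine hSC ?_
    set t := n ^ ordCompl[2] N with ht
    have hordt : t ^ ordProj[2] N = 1 := by
      rw [ht, ← pow_mul, mul_comm, Nat.ordProj_mul_ordCompl_eq_self, hN, pow_orderOf_eq_one]
    have htn : Subgroup.zpowers t ≤ Subgroup.normalizer ((D.S : Subgroup G) : Set G) := by
      rw [Subgroup.zpowers_le, Subgroup.mem_normalizer_iff]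
      intro s
      refine ⟨fun hs => hnSi _ s hs, fun hs => ?_⟩
      obtain ⟨k, hk⟩ : ∃ k : ℕ, t⁻¹ = t ^ k := by
        refine ⟨orderOf t - 1, inv_eq_of_mul_eq_one_right ?_⟩
        rw [← pow_succ', Nat.sub_add_cancel (orderOf_pos t), pow_orderOf_eq_one]
      have h1 := hnSi (ordCompl[2] N * k) _ hs
      rw [pow_mul, ← ht, ← hk] at h1
      rwa [show t⁻¹ * (t * s * t⁻¹) * t⁻¹⁻¹ = s by group] at h1
    have h2 : IsPGroup 2 (Subgroup.zpowers t) := by
      obtain ⟨k, -, hk⟩ := (Nat.dvd_prime_pow Nat.prime_two).1 (orderOf_dvd_of_pow_eq_one hordt)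
      exact IsPGroup.of_card (n := k) (by rw [Nat.card_zpowers, hk])
    have hsup := IsPGroup.to_sup_of_normal_right' h2 D.S.2 htn
    have := D.S.3 hsup le_sup_right
    exact this ▸ Subgroup.mem_sup_left (Subgroup.mem_zpowers t)
  have ha3 : n ^ ordCompl[3] N ∈ C := by
    haveI : Fact (Nat.Prime 3) := ⟨Nat.prime_three⟩
    set t := n ^ ordCompl[3] N with ht
    have hordt : t ^ ordProj[3] N = 1 := by
      rw [ht, ← pow_mul, mul_comm, Nat.ordProj_mul_ordCompl_eq_self, hN, pow_orderOf_eq_one]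
    have htS : ∀ s ∈ D.S, t * s * t⁻¹ ∈ D.S := fun s hs => hnSi _ s hs
    have hodd : Odd (orderOf t) :=
      (((Nat.Prime.odd_of_ne_two Nat.prime_three (by norm_num)).pow)).of_dvd_nat
        (orderOf_dvd_of_pow_eq_one hordt)
    have h6O : t ^ 6 ∈ D.O :=
      D.odd_mem_O (D.pow_six_samePair htS) (hodd.of_dvd_nat (orderOf_pow_dvd 6))
    have h61 : t ^ 6 = 1 := by
      rw [← orderOf_eq_one_iff]
      obtain ⟨k, -, hk⟩ := (Nat.dvd_prime_pow Nat.prime_three).1
        ((orderOf_pow_dvd (x := t) 6).trans (orderOf_dvd_of_pow_eq_one hordt))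
      rcases eq_or_ne k 0 with rfl | hk0
      · simpa using hk
      · refine absurd ?_ D.not_three_dvd_card_O
        refine (dvd_pow_self 3 hk0).trans ?_
        rw [← hk, ← Subgroup.orderOf_mk (t ^ 6) h6O]
        exact orderOf_dvd_natCard _
    have h3 : orderOf t ∣ 3 := by
      have h1 := orderOf_dvd_of_pow_eq_one h61
      rw [show (6 : ℕ) = 2 * 3 from rfl] at h1
      exact (Nat.Coprime.dvd_mul_left (Nat.coprime_two_right.2 hodd)).1 h1
    rcases (Nat.dvd_prime Nat.prime_three).1 h3 with h | h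
    · rw [orderOf_eq_one_iff.1 h]; exact one_mem _
    · exact (hmemC t).2 (D.commute_prime 3 p Nat.prime_three hpp t x h hx (hnN _))
  have hgcd := pow_gcd_mem (pow_gcd_mem ha2 ha3) h6
  have h1 : ((ordCompl[2] N).gcd (ordCompl[3] N)).gcd 6 = 1 := by
    by_contra hne1
    obtain ⟨q, hq, hqd⟩ := Nat.exists_prime_and_dvd hne1
    have hqa := (hqd.trans (Nat.gcd_dvd_left _ _)).trans (Nat.gcd_dvd_left _ _)
    have hqb := (hqd.trans (Nat.gcd_dvd_left _ _)).trans (Nat.gcd_dvd_right _ _)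
    have hq6 : q ∣ 2 * 3 := hqd.trans (Nat.gcd_dvd_right _ _)
    rcases (Nat.Prime.dvd_mul hq).1 hq6 with h | h
    · rw [(Nat.prime_dvd_prime_iff_eq hq Nat.prime_two).1 h] at hqa
      exact Nat.not_dvd_ordCompl Nat.prime_two hN0 hqa
    · rw [(Nat.prime_dvd_prime_iff_eq hq Nat.prime_three).1 h] at hqb
      exact Nat.not_dvd_ordCompl Nat.prime_three hN0 hqb
  rwa [h1, pow_one] at hgcd

/-- The normaliser of `⟨a⟩` is the Sylow 2-subgroup. -/
theorem mem_S_of_samePair {g : G} (h : SamePair (g * D.a * g⁻¹) D.a) : g ∈ D.S := by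
  obtain ⟨o, ho, s, hs, rfl⟩ := D.decomp h
  rw [D.O_eq_bot, Subgroup.mem_bot] at ho
  rwa [ho, one_mul]

end PerfectSetup

end CfsgLib.FrobComp
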