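import Cfsg.Agent.FrobComp.Quadratic
import Cfsg.Agent.FrobComp.PerfectOdd
import Cfsg.Agent.FrobComp.GroupAlgebra
import Cfsg.Agent.S3358.Basic
import Cfsg.Agent.BSW.Theorem
import Cfsg.Agent.S3378

/-!
# Zassenhaus: a perfect group with a free action is `SL(2,5)`

* `exists_perfectSetup`: the data of `PerfectSetup`;
* `PerfectSetup.card_eq`: the order is 120, via the Brauer–Suzuki–Wall conclusion for the quotient
  by the involution;
* `equiv_sl25_of_perfect_free`: the theorem.
-/

set_option autoImplicit false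
set_option linter.unusedSectionVars false
set_option linter.style.haveILetI false

namespace CfsgLib.FrobComp

open CfsgLib.ZassComp CfsgLib.TwoGroupsQ

variable {G : Type*} [Group G] [Finite G]

theorem not_solvable_of_perfect [Nontrivial G] (hperf : commutator G = ⊤) :
    ¬ Group.IsSolvable G := fun h => by
  have := (Group.IsSolvable.commutator_lt_top_of_nontrivial G)
  rw [hperf] at this
  exact lt_irrefl _ this

theorem exists_perfectSetup [Nontrivial G] {V : Type*} [AddCommGroup V] [Finite V] [Nontrivial V]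
    {ρ : G →* AddMonoid.End V} (hρ : IsFree ρ) {W : Type*} [AddCommGroup W] [Module ℚ W]
    [Nontrivial W] {σ : G →* Module.End ℚ W} (hσ : IsFreeRat σ) (hperf : commutator G = ⊤) :
    Nonempty (PerfectSetup G) := by
  haveI : Fact (Nat.Prime 2) := ⟨Nat.prime_two⟩
  obtain ⟨S⟩ : Nonempty (Sylow 2 G) := Sylow.nonempty
  have hodd : ∀ (p : ℕ), p.Prime → p ≠ 2 → ∀ P : Subgroup G, IsPGroup p P → IsCyclic P :=
    fun p hp hp2 P hP => by
      haveI := Fact.mk hp
      exact isCyclic_of_free_of_odd hρ hp2 hP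
  rcases isCyclic_or_quaternion S.2 (hasUniqueOrderP_of_free hρ S.2) with hS | ⟨-, m, hm, ⟨e⟩⟩
  · exfalso
    haveI : IsZGroup G := ⟨fun p hp P => by
      haveI := Fact.mk hp
      by_cases hp2 : p = 2
      · subst hp2
        haveI := hS
        exact isCyclic_of_injective (P.equiv S).toMonoidHom (P.equiv S).injective
      · exact hodd p hp hp2 _ P.2⟩
    exact not_solvable_of_perfect hperf inferInstance
  haveI : NeZero (2 ^ m) := ⟨by positivity⟩
  set y := ((e.symm (QuaternionGroup.a 1) : S) : G) with hy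
  set z := ((e.symm (QuaternionGroup.a (2 ^ m : ℕ)) : S) : G) with hz
  have hzsq : z * z = 1 := by
    rw [hz, ← Subgroup.coe_mul, ← map_mul, QuaternionGroup.a_mul_a, ← Nat.cast_add, ← two_mul,
      ZMod.natCast_self, QuaternionGroup.a_zero, map_one, Subgroup.coe_one]
  have hz1 : z ≠ 1 := by
    intro h
    rw [hz] at h
    have h1 : e.symm (QuaternionGroup.a (2 ^ m : ℕ)) = 1 := Subtype.ext h
    rw [map_eq_one_iff _ e.symm.injective, ← QuaternionGroup.a_zero, QuaternionGroup.a.injEq,
      ZMod.natCast_eq_zero_iff] at h1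
    have := Nat.le_of_dvd (by positivity) h1
    have : 0 < 2 ^ m := by positivity
    omega
  have huniq : ∀ g : G, g * g = 1 → g ≠ 1 → g = z := fun g hg hg1 => hσ.injective (by
    rw [hσ.map_eq_neg_one (by rw [pow_two, hg]) hg1,
      hσ.map_eq_neg_one (by rw [pow_two, hzsq]) hz1])
  refine ⟨
    { S := S
      m := m
      one_le_m := hm
      y := y
      z := z
      orderOf_y := ?_
      y_mem := (e.symm (QuaternionGroup.a 1)).2
      card_S := ?_
      dichot := ?_
      z_ne := hz1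
      z_sq := hzsq
      z_unique := huniq
      perfect := hperf
      cyclic_odd := hodd
      commute_prime := fun p q hp hq x w hx hw h => by
        haveI := Fact.mk hp
        haveI := Fact.mk hq
        exact commute_of_free hρ hx hw h
      quad := fun a j x g ha hj hja hx3 hx1 hxa hxj hga hgj =>
        hσ.pow_eight_eq_one (hσ.map_eq_neg_one (by rw [pow_two, hzsq]) hz1) ha hj hja hx3 hx1 hxa
          hxj hga hgj }⟩
  · rw [hy, Subgroup.orderOf_coe, MulEquiv.orderOf_eq, QuaternionGroup.orderOf_a_one, pow_succ']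
  · rw [Nat.card_congr e.toEquiv, Nat.card_eq_fintype_card, QuaternionGroup.card, pow_add]
    ring
  · intro s hs
    rcases hq : e ⟨s, hs⟩ with i | i
    · left
      refine Subgroup.mem_zpowers_iff.2 ⟨(i.val : ℤ), ?_⟩
      rw [zpow_natCast, hy, ← SubmonoidClass.coe_pow, ← map_pow, QuaternionGroup.a_one_pow,
        ZMod.natCast_zmod_val, ← hq, e.symm_apply_apply]
    · right
      have hse : s = ((e.symm (QuaternionGroup.xa i) : S) : G) := by
        rw [← hq, e.symm_apply_apply]
      constructor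
      · rw [hse, hz, ← Subgroup.coe_mul, ← map_mul, QuaternionGroup.xa_mul_xa]
        simp
      · rw [hse, hy, ← Subgroup.coe_inv, ← Subgroup.coe_inv, ← Subgroup.coe_mul,
          ← Subgroup.coe_mul, ← map_inv, ← map_inv, ← map_mul, ← map_mul]
        congr 2
        rw [mul_inv_eq_iff_eq_mul, QuaternionGroup.xa_mul_a,
          show (QuaternionGroup.a 1 : QuaternionGroup (2 ^ m))⁻¹ = QuaternionGroup.a (-1) from rfl,
          QuaternionGroup.a_mul_xa, sub_neg_eq_add]

namespace PerfectSetup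



theorem card_eq (D : PerfectSetup G) : Nat.card G = 120 := by
  classical
  haveI : Fact (Nat.Prime 2) := ⟨Nat.prime_two⟩
  haveI : Nontrivial G := ⟨⟨D.z, 1, D.z_ne⟩⟩
  set Z := Subgroup.zpowers D.z with hZ
  haveI hZn : Z.Normal := ⟨fun v hv g => by
    obtain ⟨i, rfl⟩ := Subgroup.mem_zpowers_iff.1 hv
    rw [((show Commute g D.z from D.z_comm g).zpow_right i).eq, mul_inv_cancel_right]
    exact zpow_mem (Subgroup.mem_zpowers _) i⟩
  have hozD : orderOf D.z = 2 := orderOf_eq_prime (by rw [pow_two, D.z_sq]) D.z_ne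
  have hZmem : ∀ v ∈ Z, v = 1 ∨ v = D.z := fun v hv => by
    obtain ⟨i, rfl⟩ := Subgroup.mem_zpowers_iff.1 hv
    rw [← zpow_mod_orderOf, hozD]
    rcases Int.emod_two_eq_zero_or_one i with h | h <;> simp [h]
  have hzZ : D.z ∈ Z := Subgroup.mem_zpowers _
  have hmk : ∀ g h : G, (g : G ⧸ Z) = (h : G ⧸ Z) → g = h ∨ g = D.z * h := by
    intro g h e
    rw [eq_comm, QuotientGroup.eq] at e
    rcases hZmem _ e with e' | e'
    · exact Or.inl (inv_mul_eq_one.1 e').symm
    · exact Or.inr (by rw [← D.z_comm h, ← e', mul_inv_cancel_left])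
  have hone : ∀ g : G, (g : G ⧸ Z) = 1 → g = 1 ∨ g = D.z := fun g e =>
    hZmem g ((QuotientGroup.eq_one_iff g).1 e)
  have hsq : ∀ g : G, orderOf ((g : G) : G ⧸ Z) = 2 → g * g = D.z := by
    intro g hg
    have h1 : ((g * g : G) : G ⧸ Z) = 1 := by
      rw [QuotientGroup.mk_mul, ← pow_two, ← hg, pow_orderOf_eq_one]
    rcases hone _ h1 with h | h
    · by_cases hg1 : g = 1
      · rw [hg1, QuotientGroup.mk_one, orderOf_one] at hg; omega
      · rw [D.z_unique g h hg1, (QuotientGroup.eq_one_iff D.z).2 hzZ, orderOf_one] at hg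
        omega
    · exact h
  set t : G ⧸ Z := ((D.a : G) : G ⧸ Z) with htdef
  have ht1 : ∀ {b : G}, b * b = D.z → orderOf (b : G ⧸ Z) = 2 := by
    intro b hb
    refine orderOf_eq_prime ?_ ?_
    · rw [← QuotientGroup.mk_pow, QuotientGroup.eq_one_iff, pow_two, hb]
      exact hzZ
    · intro h
      rcases hone b h with rfl | rfl
      · exact D.z_ne (by rw [← hb, one_mul])
      · exact D.z_ne (hb.symm.trans D.z_sq)
  have hsame : ∀ {g : G}, SamePair g D.a → (g : G ⧸ Z) = t := by
    rintro g (rfl | rfl)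
    · rfl
    · rw [D.inv_eq D.a_sq, QuotientGroup.mk_mul, (QuotientGroup.eq_one_iff D.z).2 hzZ, one_mul]
  have hCt : Subgroup.centralizer ({t} : Set (G ⧸ Z)) =
      (D.S : Subgroup G).map (QuotientGroup.mk' Z) := by
    ext q
    rw [Subgroup.mem_centralizer_singleton_iff]
    constructor
    · intro hq
      obtain ⟨g, rfl⟩ := QuotientGroup.mk_surjective q
      refine ⟨g, D.mem_S_of_samePair ?_, rfl⟩
      have h1 : ((g * D.a * g⁻¹ : G) : G ⧸ Z) = (D.a : G ⧸ Z) := by
        rw [QuotientGroup.mk_mul, QuotientGroup.mk_mul, QuotientGroup.mk_inv, hq,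
          mul_inv_cancel_right]
      rcases hmk _ _ h1 with h | h
      · exact Or.inl h
      · exact Or.inr (h.trans (D.inv_eq D.a_sq).symm)
    · rintro ⟨s, hs, rfl⟩
      have h2 : SamePair (s * D.a * s⁻¹) D.a := by
        by_cases hn : s ∈ Subgroup.zpowers D.y
        · exact Or.inl (by rw [(D.commute_of_mem hn D.a_mem_zpowers).eq, mul_inv_cancel_right])
        · exact Or.inr (D.inverts_a hs hn)
      have h3 := hsame h2
      rw [QuotientGroup.mk_mul, QuotientGroup.mk_mul, QuotientGroup.mk_inv,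
        mul_inv_eq_iff_eq_mul] at h3
      exact h3
  obtain ⟨j, hj, hjn⟩ := D.exists_notMem
  set K := (Subgroup.zpowers D.y).map (QuotientGroup.mk' Z) with hKdef
  have hKinv : ∀ u ∈ K, orderOf u = 2 → u = t := by
    rintro _ ⟨w, hw, rfl⟩ hu
    exact hsame (D.samePair_a hw (hsq w hu))
  have hpowK : ∀ u ∈ K, u ≠ 1 → ∀ n : ℕ, orderOf u = 2 * n → u ^ n = t := by
    intro u hu _ n hn
    refine hKinv _ (pow_mem hu n) ?_
    have hn0 : n ≠ 0 := by
      rintro rfl
      exact (orderOf_pos u).ne' (by simpa using hn)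
    rw [orderOf_pow_of_dvd hn0 (hn ▸ dvd_mul_left n 2), hn,
      Nat.mul_div_cancel _ (Nat.pos_of_ne_zero hn0)]
  have hK2 : IsPGroup 2 K := (D.S.2.to_le D.zpowers_le).map _
  have hBSW : CfsgLib.BSW.Conclusion (G ⧸ Z) := by
    refine CfsgLib.BSW.conclusion_of_centralizer t (ht1 D.a_sq) K ?_ ?_ ⟨_, D.a_mem_zpowers, rfl⟩
      (j : G ⧸ Z) (ht1 (D.sq_of_notMem hj hjn)) ?_ ?_ ?_ ?_ ?_ ?_ ?_
    · refine isMulCommutative_iff.2 fun u v => Subtype.ext ?_
      obtain ⟨u', hu', e⟩ := u.2
      obtain ⟨v', hv', e'⟩ := v.2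
      rw [Subgroup.coe_mul, Subgroup.coe_mul, ← e, ← e', ← map_mul, ← map_mul,
        (D.commute_of_mem hu' hv').eq]
    · rw [hCt]; exact Subgroup.map_mono D.zpowers_le
    · rw [hCt]; exact ⟨j, hj, rfl⟩
    · rintro ⟨w, hw, hwe⟩
      rcases hmk j w hwe.symm with h | h
      · exact hjn (h ▸ hw)
      · refine hjn (h ▸ mul_mem ?_ hw)
        rw [← D.y_pow_eq]; exact pow_mem (Subgroup.mem_zpowers _) _
    · rw [hCt]
      refine le_antisymm (sup_le (Subgroup.map_mono D.zpowers_le)
        (Subgroup.zpowers_le.2 ⟨j, hj, rfl⟩)) ?_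
      rintro _ ⟨s, hs, rfl⟩
      by_cases hn : s ∈ Subgroup.zpowers D.y
      · exact Subgroup.mem_sup_left ⟨s, hn, rfl⟩
      · rw [← inv_mul_cancel_right s j, map_mul]
        refine mul_mem (Subgroup.mem_sup_left ⟨_, D.mul_mem_zpowers hs hn (inv_mem hj)
          (fun h => hjn (by simpa using inv_mem h)), rfl⟩)
          (Subgroup.mem_sup_right (Subgroup.mem_zpowers _))
    · refine le_antisymm ?_ ?_
      · rintro q ⟨⟨w, hw, rfl⟩, hc⟩
        replace hc := Subgroup.mem_centralizer_singleton_iff.1 hc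
        have h1 : ((j * w * j⁻¹ : G) : G ⧸ Z) = (w : G ⧸ Z) := by
          rw [QuotientGroup.mk_mul, QuotientGroup.mk_mul, QuotientGroup.mk_inv]
          rw [QuotientGroup.mk'_apply] at hc
          rw [← hc, mul_inv_cancel_right]
        rw [D.inverts hj hjn hw] at h1
        have h2 : w * w = 1 ∨ w * w = D.z := by
          rcases hmk _ _ h1 with h | h
          · left; nth_rewrite 1 [← h]; exact inv_mul_cancel w
          · right
            have h' : (1 : G) = D.z * (w * w) := by
              rw [← mul_assoc, ← h, inv_mul_cancel]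
            rw [eq_inv_of_mul_eq_one_right h'.symm, D.z_inv]
        rcases h2 with h | h
        · have : (w : G ⧸ Z) = 1 := by
            rw [QuotientGroup.eq_one_iff]
            by_cases hw1 : w = 1
            · rw [hw1]; exact one_mem _
            · rw [D.z_unique w h hw1]; exact hzZ
          rw [QuotientGroup.mk'_apply, this]
          exact one_mem _
        · rw [QuotientGroup.mk'_apply, hsame (D.samePair_a hw h)]
          exact Subgroup.mem_zpowers _
      · rw [Subgroup.zpowers_le]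
        refine ⟨⟨D.a, D.a_mem_zpowers, rfl⟩, ?_⟩
        refine Subgroup.mem_centralizer_singleton_iff.2 ?_
        have h3 : ((j * D.a * j⁻¹ : G) : G ⧸ Z) = t := hsame (Or.inr (D.inverts_a hj hjn))
        rw [QuotientGroup.mk_mul, QuotientGroup.mk_mul, QuotientGroup.mk_inv,
          mul_inv_eq_iff_eq_mul] at h3
        exact h3.symm
    · rintro _ ⟨w, hw, rfl⟩
      rw [QuotientGroup.mk'_apply, ← QuotientGroup.mk_inv, ← QuotientGroup.mk_mul,
        ← QuotientGroup.mk_mul, D.inverts hj hjn hw, QuotientGroup.mk_inv]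
    · intro g hg
      rw [Subgroup.eq_bot_iff_forall]
      intro u hu
      obtain ⟨huK, v, hv, hvu⟩ := hu
      by_contra hu1
      change g * v * g⁻¹ = u at hvu
      obtain ⟨e, he⟩ := IsPGroup.iff_orderOf.1 hK2 ⟨u, huK⟩
      rw [Subgroup.orderOf_mk] at he
      have he0 : e ≠ 0 := by
        rintro rfl
        exact hu1 (orderOf_eq_one_iff.1 (by simpa using he))
      have hord : orderOf u = 2 * 2 ^ (e - 1) := by
        rw [he, ← pow_succ', Nat.sub_add_cancel (Nat.pos_of_ne_zero he0)]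
      have hov : orderOf v = orderOf u := by rw [← hvu, orderOf_conj]
      have h1 := hpowK u huK hu1 _ hord
      have hv1 : v ≠ 1 := fun h => hu1 (by rw [← hvu, h, mul_one, mul_inv_cancel])
      have h2 := hpowK v hv hv1 _ (hov.trans hord)
      rw [← hvu, conj_pow, h2] at h1
      exact hg (Subgroup.mem_centralizer_singleton_iff.2 (mul_inv_eq_iff_eq_mul.1 h1))
    · intro x y hx hy
      obtain ⟨g, rfl⟩ := QuotientGroup.mk_surjective x
      obtain ⟨h, rfl⟩ := QuotientGroup.mk_surjective y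
      obtain ⟨u, hu⟩ := D.exists_conj (hsq g hx)
      obtain ⟨v, hv⟩ := D.exists_conj (hsq h hy)
      refine isConj_iff.2 ⟨((v * u⁻¹ : G) : G ⧸ Z), ?_⟩
      rw [← hu, ← hv, ← QuotientGroup.mk_inv, ← QuotientGroup.mk_mul, ← QuotientGroup.mk_mul]
      congr 1
      group
  obtain ⟨Q, E, hcard, hQ, -, hE, hQE, hNQ, -⟩ := hBSW
  set d := Nat.card E with hd
  set q := Nat.card Q with hq
  have hd0 : 0 < d := Nat.card_pos
  have hHeq : Nat.card (G ⧸ Z) = 2 * q * d * (d + 1) := by
    have h1 : q - 1 = 2 * d := by omega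
    have h2 : q + 1 = 2 * (d + 1) := by omega
    rw [h1, h2] at hcard
    have h3 : 2 * Nat.card (G ⧸ Z) = 2 * (2 * q * d * (d + 1)) := by rw [hcard]; ring
    omega
  have hG : Nat.card G = 4 * q * d * (d + 1) := by
    rw [Subgroup.card_eq_card_quotient_mul_card_subgroup Z, hHeq, hZ, Nat.card_zpowers, hozD]
    ring
  have hGS : 2 ^ (D.m + 2) * (D.S : Subgroup G).index = Nat.card G := by
    rw [← D.card_S]; exact Subgroup.card_mul_index _
  have hSodd : Odd (D.S : Subgroup G).index := by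
    rw [Nat.odd_iff, ← Nat.two_dvd_ne_zero]
    exact D.S.not_dvd_index
  -- odd Sylow subgroups of the quotient are cyclic
  have hcycH : ∀ (p : ℕ), p.Prime → p ≠ 2 → ∀ P : Subgroup (G ⧸ Z), IsPGroup p P →
      IsCyclic P := by
    intro p hp hp2 P hP
    haveI := Fact.mk hp
    obtain ⟨P₁, hP₁⟩ := hP.exists_le_sylow
    obtain ⟨T⟩ : Nonempty (Sylow p G) := Sylow.nonempty
    haveI : IsCyclic T := D.cyclic_odd p hp hp2 _ T.2
    let T' := T.mapSurjective (QuotientGroup.mk'_surjective Z)
    haveI : IsCyclic T' := by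
      refine isCyclic_of_surjective
        (((QuotientGroup.mk' Z).subgroupMap (T : Subgroup G))) ?_
      exact MonoidHom.subgroupMap_surjective _ _
    haveI : IsCyclic P₁ :=
      isCyclic_of_injective (P₁.equiv T').toMonoidHom (P₁.equiv T').injective
    exact isCyclic_of_injective (Subgroup.inclusion hP₁) (Subgroup.inclusion_injective hP₁)
  have hQcomm : ∀ u ∈ Q, ∀ v ∈ Q, Commute u v := by
    intro u hu v hv
    by_cases hu1 : u = 1
    · rw [hu1]; exact Commute.one_left v
    · have := (hQ u hu hu1).symm ▸ hv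
      exact (Subgroup.mem_centralizer_singleton_iff.1 this).symm
  haveI : IsCyclic Q := by
    letI : CommGroup Q := { (inferInstance : Group Q) with
      mul_comm := fun u v => Subtype.ext (hQcomm u u.2 v v.2) }
    haveI : IsZGroup Q := ⟨fun p hp P => by
      haveI := Fact.mk hp
      by_cases hp2 : p = 2
      · subst hp2
        have : (P : Subgroup Q) = ⊥ := by
          obtain ⟨k, hk⟩ := P.2.exists_card_eq
          rcases eq_or_ne k 0 with rfl | hk0
          · exact Subgroup.card_eq_one.1 (by simpa using hk)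
          · have h1 := (hk ▸ dvd_pow_self 2 hk0).trans (Subgroup.card_subgroup_dvd_card (P : Subgroup Q))
            rw [← hq] at h1
            omega
        rw [this]; infer_instance
      · haveI := hcycH p hp hp2 _ (P.2.map Q.subtype)
        exact isCyclic_of_injective ((P : Subgroup Q).equivMapOfInjective Q.subtype
          Q.subtype_injective).toMonoidHom (MulEquiv.injective _)⟩
    infer_instance
  have hfix : ∀ δ ∈ E, ∀ x ∈ Q, x ≠ 1 → Commute δ x → δ = 1 := by
    intro δ hδ x hx hx1 hc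
    have : δ ∈ Q := hQ x hx hx1 ▸ Subgroup.mem_centralizer_singleton_iff.2 hc
    exact Subgroup.mem_bot.1 (hQE ▸ ⟨this, hδ⟩)
  have hnorm : ∀ δ ∈ E, ∀ x ∈ Q, δ * x * δ⁻¹ ∈ Q := fun δ hδ x hx =>
    (Subgroup.mem_normalizer_iff.1 (hNQ ▸ Subgroup.mem_sup_right hδ :
      δ ∈ Subgroup.normalizer (Q : Set (G ⧸ Z))) x).1 hx
  -- `d` is a power of two
  obtain ⟨k, hk⟩ : ∃ k, d = 2 ^ k := by
    obtain ⟨k, w, hw, hkw⟩ := Nat.exists_eq_two_pow_mul_odd hd0.ne'
    refine ⟨k, ?_⟩
    by_contra hne
    have hw1 : w ≠ 1 := by rintro rfl; exact hne (by simpa using hkw)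
    obtain ⟨r, hr, hrw⟩ := Nat.exists_prime_and_dvd hw1
    haveI := Fact.mk hr
    have hr2 : r ≠ 2 := fun e => by
      rw [e] at hrw
      exact Nat.not_even_iff_odd.2 hw (even_iff_two_dvd.2 hrw)
    obtain ⟨⟨δ, hδ⟩, hδr⟩ := exists_prime_orderOf_dvd_card' r
      (show r ∣ Nat.card E from hd ▸ hkw ▸ Dvd.dvd.mul_left hrw _)
    rw [Subgroup.orderOf_mk] at hδr
    have hq1 : q ≠ 1 := by omega
    obtain ⟨p, hp, hpq⟩ := Nat.exists_prime_and_dvd hq1
    haveI := Fact.mk hp
    have hp2 : p ≠ 2 := fun e => by rw [e] at hpq; omega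
    obtain ⟨⟨ξ, hξ⟩, hξp⟩ := exists_prime_orderOf_dvd_card' p (show p ∣ Nat.card Q from hpq)
    rw [Subgroup.orderOf_mk] at hξp
    have lift : ∀ (r : ℕ), r.Prime → r ≠ 2 → ∀ v : G ⧸ Z, orderOf v = r →
        ∃ u : G, (u : G ⧸ Z) = v ∧ orderOf u = r := by
      intro r hr hr2 v hv
      obtain ⟨w, rfl⟩ := QuotientGroup.mk_surjective v
      obtain ⟨c, hc⟩ := hr.odd_of_ne_two hr2
      have hwr : w ^ r ∈ Z := by
        rw [← QuotientGroup.eq_one_iff, QuotientGroup.mk_pow, ← hv, pow_orderOf_eq_one]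
      refine ⟨w ^ (r + 1), ?_, ?_⟩
      · rw [QuotientGroup.mk_pow, pow_succ, ← hv, pow_orderOf_eq_one, one_mul]
      · have hw1 : ((w ^ (r + 1) : G) : G ⧸ Z) ≠ 1 := by
          rw [QuotientGroup.mk_pow, pow_succ, ← hv, pow_orderOf_eq_one, one_mul]
          intro h
          rw [h, orderOf_one] at hv
          exact hr.ne_one hv.symm
        haveI := Fact.mk hr
        refine orderOf_eq_prime ?_ fun h => hw1 (by rw [h]; rfl)
        rw [← pow_mul, mul_comm, pow_mul, show r + 1 = 2 * (c + 1) by omega, pow_mul]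
        rcases hZmem _ hwr with h | h <;> rw [h] <;> simp [pow_two, D.z_sq]
    obtain ⟨u, hu, hur⟩ := lift r hr hr2 δ hδr
    obtain ⟨v, hv, hvp⟩ := lift p hp hp2 ξ hξp
    have hmem : δ * ξ * δ⁻¹ ∈ Subgroup.zpowers ξ :=
      mem_zpowers_of_isCyclic hξ (hnorm δ hδ ξ hξ) hξp (by
        rw [conj_pow, ← hξp, pow_orderOf_eq_one, mul_one, mul_inv_cancel])
    obtain ⟨l, hl⟩ := Subgroup.mem_zpowers_iff.1 hmem
    have hcom : Commute u v := by
      refine D.commute_prime r p hr hp u v hur hvp ?_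
      have h1 : ((u * v * u⁻¹ : G) : G ⧸ Z) = ((v ^ l : G) : G ⧸ Z) := by
        rw [QuotientGroup.mk_mul, QuotientGroup.mk_mul, QuotientGroup.mk_inv,
          QuotientGroup.mk_zpow, hu, hv, hl]
      rcases hmk _ _ h1 with h | h
      · rw [h]; exact zpow_mem (Subgroup.mem_zpowers _) _
      · exfalso
        have hvp' : v ^ p = 1 := hvp ▸ pow_orderOf_eq_one v
        have h2 : (u * v * u⁻¹) ^ p = 1 := by rw [conj_pow, hvp', mul_one, mul_inv_cancel]
        obtain ⟨c, hc⟩ := hp.odd_of_ne_two hp2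
        rw [h, ((show Commute (v ^ l) D.z from D.z_comm _).symm).mul_pow, ← zpow_natCast (v ^ l),
          ← zpow_mul, mul_comm, zpow_mul, zpow_natCast, hvp', one_zpow, mul_one, hc, pow_succ,
          pow_mul, pow_two, D.z_sq, one_pow, one_mul] at h2
        exact D.z_ne h2
    have hcH : Commute δ ξ := by
      rw [← hu, ← hv]
      exact hcom.map (QuotientGroup.mk' Z)
    have := hfix δ hδ ξ hξ (fun h => hp.ne_one (by rw [← hξp, h, orderOf_one])) hcH
    rw [this, orderOf_one] at hδr
    exact hr.ne_one hδr.symm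
  have hm2 := D.m_le_two
  have hm1 := D.one_le_m
  rcases eq_or_ne k 0 with rfl | hk0
  · exfalso
    rw [pow_zero] at hk
    refine not_solvable_of_perfect D.perfect (Cfsg.Agent.S3378.solvable_of_dvd 3 1 ?_)
    rw [hG, hk, show q = 3 by omega]
    norm_num
  have hodd1 : Odd (q * (d + 1)) := by
    refine Nat.odd_mul.2 ⟨⟨d, by omega⟩, ?_⟩
    rw [hk]
    exact ((Nat.even_pow).2 ⟨even_two, hk0⟩).add_one
  have hkm : k = D.m := by
    have h1 : 2 ^ (k + 2) * (q * (d + 1)) = 2 ^ (D.m + 2) * (D.S : Subgroup G).index := by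
      rw [hGS, hG, hk, pow_add]; ring
    have h2 : ∀ a b x y : ℕ, Odd x → 2 ^ a * x = 2 ^ b * y → b ≤ a := by
      intro a b x y hx h
      by_contra hlt
      push Not at hlt
      obtain ⟨c, rfl⟩ := Nat.exists_eq_add_of_lt hlt
      rw [add_assoc, pow_add, mul_assoc, Nat.mul_right_inj (by positivity)] at h
      exact Nat.not_even_iff_odd.2 hx (h ▸ (Nat.even_pow.2 ⟨even_two, by omega⟩).mul_right y)
    have := h2 _ _ _ _ hodd1 h1
    have := h2 _ _ _ _ hSodd h1.symm
    omega
  obtain rfl | rfl : k = 1 ∨ k = 2 := by omega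
  · rw [pow_one] at hk
    rw [hG, hk, show q = 5 by omega]
  · exfalso
    norm_num at hk
    have hq9 : Nat.card Q = 9 := by omega
    let c : E →* MulAut Q :=
      { toFun := fun δ =>
          { toFun := fun x => ⟨(δ : G ⧸ Z) * x * (δ : G ⧸ Z)⁻¹, hnorm _ δ.2 _ x.2⟩
            invFun := fun x => ⟨(δ : G ⧸ Z)⁻¹ * x * (δ : G ⧸ Z)⁻¹⁻¹, hnorm _ (inv_mem δ.2) _ x.2⟩
            left_inv := fun x => Subtype.ext (by simp [mul_assoc])
            right_inv := fun x => Subtype.ext (by simp [mul_assoc])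
            map_mul' := fun x y => Subtype.ext (by simp [mul_assoc]) }
        map_one' := MulEquiv.ext fun x => Subtype.ext (by simp)
        map_mul' := fun δ ε => MulEquiv.ext fun x => Subtype.ext (by simp [mul_assoc]) }
    have hinj : Function.Injective c := by
      rw [injective_iff_map_eq_one]
      intro δ hδ1
      haveI : Nontrivial Q := by rw [← Finite.one_lt_card_iff_nontrivial, hq9]; norm_num
      obtain ⟨x, hx⟩ := exists_ne (1 : Q)
      refine Subtype.ext (hfix δ δ.2 x x.2 (fun h => hx (Subtype.ext h)) ?_)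
      have h1 : (δ : G ⧸ Z) * x * (δ : G ⧸ Z)⁻¹ = x := congrArg Subtype.val
        (show c δ x = x by rw [hδ1]; rfl)
      exact mul_inv_eq_iff_eq_mul.1 h1
    have h4 := Subgroup.card_dvd_of_injective c hinj
    rw [IsCyclic.card_mulAut, hq9, ← hd, hk, show Nat.totient 9 = 6 by decide] at h4
    norm_num at h4

end PerfectSetup

/-- Zassenhaus: a perfect group with free actions is `SL(2,5)`. -/
theorem equiv_sl25_of_perfect_free [Nontrivial G] {V : Type*} [AddCommGroup V] [Finite V]
    [Nontrivial V] {ρ : G →* AddMonoid.End V} (hρ : IsFree ρ) {p : ℕ} [Fact p.Prime]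
    (hV : ∀ v : V, p • v = 0) (hperf : commutator G = ⊤) :
    Nonempty (G ≃* Matrix.SpecialLinearGroup (Fin 2) (ZMod 5)) := by
  obtain ⟨W, _, _, _, σ, hσ⟩ := exists_free_rat_module hV hρ
  obtain ⟨D⟩ := exists_perfectSetup hρ (σ := σ) (fun h h1 v hv => hσ h h1 v hv) hperf
  have h120 := D.card_eq
  refine Cfsg.Agent.S3378.result.1 G h120 (not_solvable_of_perfect hperf) fun P => ?_
  haveI : Fact (Nat.Prime 2) := ⟨Nat.prime_two⟩
  rcases isCyclic_or_quaternion P.2 (hasUniqueOrderP_of_free hρ P.2) with hP | ⟨-, m, -, ⟨e⟩⟩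
  · exfalso
    haveI := hP
    haveI : IsCyclic D.S :=
      isCyclic_of_injective (D.S.equiv P).toMonoidHom (D.S.equiv P).injective
    obtain ⟨j, hj, hjn⟩ := D.exists_notMem
    refine D.not_commute_a hj hjn ?_
    have := IsCyclic.isMulCommutative.is_comm.comm (⟨j, hj⟩ : D.S) ⟨D.a, D.a_mem⟩
    exact congrArg Subtype.val this
  · haveI : NeZero (2 ^ m) := ⟨by positivity⟩
    have h1 : Nat.card P = 8 := by
      rw [show Nat.card P = Nat.card D.S from Nat.card_congr (P.equiv D.S).toEquiv, D.card_S]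
      have h16 := Subgroup.card_subgroup_dvd_card (D.S : Subgroup G)
      rw [show Nat.card (D.S : Subgroup G) = _ from D.card_S, h120] at h16
      have := D.m_le_two
      have := D.one_le_m
      rcases (by omega : D.m = 1 ∨ D.m = 2) with h | h <;> rw [h] at h16 ⊢
      · norm_num
      · norm_num at h16
    rw [Nat.card_congr e.toEquiv, Nat.card_eq_fintype_card, QuaternionGroup.card] at h1
    have hm : m = 1 := Nat.pow_right_injective le_rfl (show 2 ^ m = 2 ^ 1 by omega)
    subst hm
    exact ⟨e⟩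

end CfsgLib.FrobComp
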