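import Mathlib
import Cfsg.Agent.Inv54.CentralizerFour

/-!
# Local structure of a perfect group with free actions

The hypotheses are bundled in `PerfectSetup`: a quaternion Sylow 2-subgroup with its cyclic subgroup
`⟨y⟩`, a unique involution, cyclic Sylow subgroups for odd primes, the `pq`-condition and the
quadratic lemma. The outcome is that the centraliser of an element `a` of order 4 in `⟨y⟩` has no
odd-order part, and that the Sylow 2-subgroups have order at most 16.
-/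

set_option autoImplicit false
set_option linter.unusedSectionVars false
set_option linter.style.haveILetI false

namespace CfsgLib.FrobComp

variable {G : Type*} [Group G]

/-- `u` and `v` generate the same subgroup of order 4. -/
def SamePair (u v : G) : Prop := u = v ∨ u = v⁻¹

theorem SamePair.conj {u v : G} (h : SamePair u v) (n : G) :
    SamePair (n * u * n⁻¹) (n * v * n⁻¹) := by
  rcases h with rfl | rfl
  · exact Or.inl rfl
  · exact Or.inr (by group)

theorem SamePair.symm {u v : G} (h : SamePair u v) : SamePair v u := by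
  rcases h with rfl | rfl
  · exact Or.inl rfl
  · exact Or.inr (inv_inv v).symm

theorem SamePair.trans {u v w : G} (h : SamePair u v) (h' : SamePair v w) : SamePair u w := by
  rcases h with rfl | rfl
  · exact h'
  · rcases h' with rfl | rfl
    · exact Or.inr rfl
    · exact Or.inl (inv_inv w)

theorem SamePair.inv_left {u v : G} (h : SamePair u v) : SamePair u⁻¹ v := by
  rcases h with rfl | rfl
  · exact Or.inr rfl
  · exact Or.inl (inv_inv v)

theorem SamePair.commute_of_odd [Finite G] {g u : G} (h : SamePair (g * u * g⁻¹) u)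
    (ho : Odd (orderOf g)) : Commute g u := by
  have h2 : Commute (g * g) u := by
    rw [commute_iff_eq, ← mul_inv_eq_iff_eq_mul]
    rcases h with h | h
    · calc g * g * u * (g * g)⁻¹ = g * (g * u * g⁻¹) * g⁻¹ := by group
        _ = u := by rw [h, h]
    · calc g * g * u * (g * g)⁻¹ = g * (g * u * g⁻¹) * g⁻¹ := by group
        _ = g * u⁻¹ * g⁻¹ := by rw [h]
        _ = (g * u * g⁻¹)⁻¹ := by group
        _ = u := by rw [h, inv_inv]
  obtain ⟨k, hk⟩ := ho
  have hg : g = (g * g) ^ (k + 1) := by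
    rw [← pow_two, ← pow_mul, show 2 * (k + 1) = (2 * k + 1) + 1 by ring, pow_succ, ← hk,
      pow_orderOf_eq_one, one_mul]
  rw [hg]
  exact h2.pow_left _

theorem pow_gcd_mem {H : Subgroup G} {g : G} {i k : ℕ} (hi : g ^ i ∈ H) (hk : g ^ k ∈ H) :
    g ^ i.gcd k ∈ H := by
  rw [← zpow_natCast, Nat.gcd_eq_gcd_ab, zpow_add, zpow_mul, zpow_mul, zpow_natCast, zpow_natCast]
  exact mul_mem (zpow_mem hi _) (zpow_mem hk _)

theorem conj_pow_eq_zpow {g x : G} {r : ℤ} (h : g * x * g⁻¹ = x ^ r) (n : ℕ) :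
    g ^ n * x * (g ^ n)⁻¹ = x ^ r ^ n := by
  induction n with
  | zero => simp
  | succ n ih =>
    rw [pow_succ' g, show g * g ^ n * x * (g * g ^ n)⁻¹ = g * (g ^ n * x * (g ^ n)⁻¹) * g⁻¹ by group,
      ih, ← conj_zpow, h, ← zpow_mul, pow_succ' r]

theorem mem_zpowers_of_isCyclic [Finite G] {P : Subgroup G} [hP : IsCyclic P] {x w : G}
    (hx : x ∈ P) (hw : w ∈ P) {p : ℕ} [hp : Fact p.Prime] (hxp : orderOf x = p)
    (hwp : w ^ p = 1) : w ∈ Subgroup.zpowers x := by
  classical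
  haveI := Fintype.ofFinite P
  have hle : (Finset.univ.filter fun u : P => u ^ p = 1).card ≤ p :=
    IsCyclic.card_pow_eq_one_le hp.out.pos
  have hx1 : (⟨x, hx⟩ : P) ^ p = 1 := by
    apply Subtype.ext
    rw [SubmonoidClass.coe_pow, ← hxp]
    exact pow_orderOf_eq_one x
  let s : Finset P := (Finset.range p).image fun i => (⟨x, hx⟩ : P) ^ i
  have hox : orderOf (⟨x, hx⟩ : P) = p := by rw [← hxp, Subgroup.orderOf_mk]
  have hscard : s.card = p := by
    rw [Finset.card_image_of_injOn, Finset.card_range]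
    intro i hi k hk h
    rw [Finset.coe_range, Set.mem_Iio, ← hox] at hi hk
    exact pow_injOn_Iio_orderOf hi hk h
  have hsub : s ⊆ Finset.univ.filter fun u : P => u ^ p = 1 := by
    intro u hu
    obtain ⟨i, -, rfl⟩ := Finset.mem_image.1 hu
    rw [Finset.mem_filter]
    exact ⟨Finset.mem_univ _, by rw [← pow_mul, mul_comm, pow_mul, hx1, one_pow]⟩
  have heq := Finset.eq_of_subset_of_card_le hsub (by rw [hscard]; exact hle)
  have : (⟨w, hw⟩ : P) ∈ s := by
    rw [heq, Finset.mem_filter]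
    exact ⟨Finset.mem_univ _, Subtype.ext hwp⟩
  obtain ⟨i, -, hi⟩ := Finset.mem_image.1 this
  have h2 : x ^ i = w := congrArg Subtype.val hi
  exact h2 ▸ pow_mem (Subgroup.mem_zpowers x) i

/-- A perfect group has no cyclic Sylow subgroup with a central-in-normaliser element of order `p`. -/
theorem false_of_perfect_of_omega [Finite G] (hperf : commutator G = ⊤) {p : ℕ} [hp : Fact p.Prime]
    (P : Sylow p G) [hc : IsCyclic P] {x : G} (hxP : x ∈ P) (hx : orderOf x = p)
    (h : ∀ g : G, g * x * g⁻¹ ∈ Subgroup.zpowers x → g * x = x * g) : False := by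
  have hN : Subgroup.normalizer (P : Set G) ≤ Subgroup.centralizer (P : Set G) := by
    intro g hg
    obtain ⟨⟨c, hcP⟩, hgen⟩ := hc.exists_generator
    have hgc : ∀ w ∈ P, ∃ i : ℤ, c ^ i = w := fun w hw => by
      obtain ⟨i, hi⟩ := Subgroup.mem_zpowers_iff.1 (hgen ⟨w, hw⟩)
      exact ⟨i, by simpa using congrArg Subtype.val hi⟩
    have hcomm : ∀ w ∈ P, Commute c w := fun w hw => by
      obtain ⟨i, rfl⟩ := hgc w hw
      exact (Commute.refl c).zpow_right i
    obtain ⟨r, hr⟩ := hgc _ ((Subgroup.mem_normalizer_iff.1 hg c).1 hcP)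
    obtain ⟨s, hs⟩ := hgc x hxP
    have hgx : g * x * g⁻¹ = x ^ r := by
      rw [← hs, ← conj_zpow, ← hr, ← zpow_mul, ← zpow_mul, mul_comm]
    have hgx' := h g (hgx ▸ zpow_mem (Subgroup.mem_zpowers x) r)
    rw [hgx', mul_inv_cancel_right, eq_comm, ← mul_inv_eq_one, ← zpow_sub_one] at hgx
    have hpr : (p : ℤ) ∣ r - 1 := hx ▸ orderOf_dvd_iff_zpow_eq_one.2 hgx
    obtain ⟨k, hk⟩ := P.2.exists_card_eq
    have h1 : g ^ p ^ k ∈ Subgroup.centralizer ({c} : Set G) := by
      rw [Subgroup.mem_centralizer_singleton_iff, ← mul_inv_eq_iff_eq_mul, conj_pow_eq_zpow hr.symm]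
      conv_rhs => rw [← zpow_one c]
      rw [← mul_inv_eq_one, ← zpow_sub, ← orderOf_dvd_iff_zpow_eq_one]
      refine dvd_trans ?_ (dvd_trans (pow_dvd_pow (p : ℤ) (Nat.le_succ k)) ?_)
      · rw [← Nat.cast_pow, Int.natCast_dvd_natCast, ← hk, ← Subgroup.orderOf_mk c hcP]
        exact orderOf_dvd_natCard _
      · simpa using dvd_sub_pow_of_dvd_sub hpr k
    set e := (P : Subgroup G).relIndex (Subgroup.normalizer (P : Set G)) with he
    have h2 : g ^ e ∈ Subgroup.centralizer ({c} : Set G) := by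
      haveI : ((P : Subgroup G).subgroupOf (Subgroup.normalizer (P : Set G))).Normal :=
        Subgroup.normal_in_normalizer
      have := Subgroup.pow_index_mem
        ((P : Subgroup G).subgroupOf (Subgroup.normalizer (P : Set G))) ⟨g, hg⟩
      rw [Subgroup.mem_centralizer_singleton_iff]
      exact (hcomm _ this).symm.eq
    have hcop : (p ^ k).Coprime e := by
      refine Nat.Coprime.pow_left _ ((Nat.Prime.coprime_iff_not_dvd hp.out).2 fun hd => ?_)
      exact P.not_dvd_index (hd.trans (Subgroup.relIndex_dvd_index_of_le Subgroup.le_normalizer))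
    have h3 := pow_gcd_mem h1 h2
    rw [hcop.gcd_eq_one, pow_one, Subgroup.mem_centralizer_singleton_iff] at h3
    rw [Subgroup.mem_centralizer_iff]
    intro w hw
    obtain ⟨i, rfl⟩ := hgc w hw
    exact ((show Commute g c from h3).zpow_right i).symm.eq
  have hcompl := MonoidHom.ker_transferSylow_isComplement' P hN
  have hle : commutator G ≤ (MonoidHom.transferSylow P hN).ker := by
    rw [commutator_eq_closure, Subgroup.closure_le]
    rintro _ ⟨u, v, rfl⟩
    rw [SetLike.mem_coe, MonoidHom.mem_ker, commutatorElement_def, map_mul, map_mul, map_mul,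
      map_inv, map_inv]
    have hcom : Commute (MonoidHom.transferSylow P hN u) (MonoidHom.transferSylow P hN v) :=
      Subtype.ext (hN (Subgroup.le_normalizer (MonoidHom.transferSylow P hN v).2) _
        (MonoidHom.transferSylow P hN u).2)
    rw [hcom.eq, mul_inv_cancel_right, mul_inv_cancel]
  rw [hperf, top_le_iff] at hle
  rw [hle] at hcompl
  have hP : (P : Subgroup G) = ⊥ := Subgroup.isComplement'_top_left.1 hcompl
  rw [show x = 1 from Subgroup.mem_bot.1 (hP ▸ hxP), orderOf_one] at hx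
  exact hp.out.ne_one hx.symm

/-- The data of a perfect group with free actions. -/
structure PerfectSetup (G : Type*) [Group G] where
  /-- a Sylow 2-subgroup -/
  S : Sylow 2 G
  /-- the exponent -/
  m : ℕ
  one_le_m : 1 ≤ m
  /-- generator of a cyclic subgroup of index 2 -/
  y : G
  /-- the involution -/
  z : G
  orderOf_y : orderOf y = 2 ^ (m + 1)
  y_mem : y ∈ S
  card_S : Nat.card S = 2 ^ (m + 2)
  dichot : ∀ s ∈ S, s ∈ Subgroup.zpowers y ∨ (s * s = z ∧ s * y * s⁻¹ = y⁻¹)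
  z_ne : z ≠ 1
  z_sq : z * z = 1
  z_unique : ∀ g : G, g * g = 1 → g ≠ 1 → g = z
  perfect : commutator G = ⊤
  cyclic_odd : ∀ (p : ℕ), p.Prime → p ≠ 2 → ∀ P : Subgroup G, IsPGroup p P → IsCyclic P
  commute_prime : ∀ (p q : ℕ), p.Prime → q.Prime → ∀ x w : G, orderOf x = p → orderOf w = q →
    x * w * x⁻¹ ∈ Subgroup.zpowers w → Commute x w
  quad : ∀ a j x g : G, a * a = z → j * j = z → j * a * j⁻¹ = a⁻¹ → x ^ 3 = 1 → x ≠ 1 →
    x * a * x⁻¹ = j → (x * j * x⁻¹ = a * j ∨ x * j * x⁻¹ = (a * j)⁻¹) → g * a = a * g →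
    j * g * j⁻¹ = g⁻¹ → g ^ 8 = 1

namespace PerfectSetup

variable [Finite G] (D : PerfectSetup G)

/-- The element of order 4 in `⟨y⟩`. -/
def a : G := D.y ^ 2 ^ (D.m - 1)

theorem z_inv : D.z⁻¹ = D.z := inv_eq_of_mul_eq_one_right D.z_sq

theorem z_comm (g : G) : g * D.z = D.z * g := by
  refine mul_inv_eq_iff_eq_mul.1 (D.z_unique _ ?_ ?_)
  · rw [show g * D.z * g⁻¹ * (g * D.z * g⁻¹) = g * (D.z * D.z) * g⁻¹ by group, D.z_sq, mul_one,
      mul_inv_cancel]
  · intro h
    exact D.z_ne (by rwa [mul_inv_eq_one, mul_eq_left] at h)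

theorem two_le_pow : 4 ≤ 2 ^ (D.m + 1) := by
  have := Nat.pow_le_pow_right two_pos (show 2 ≤ D.m + 1 by have := D.one_le_m; omega)
  simpa using this

theorem y_pow_eq : D.y ^ 2 ^ D.m = D.z := by
  refine D.z_unique _ ?_ ?_
  · rw [← pow_add, ← two_mul, ← pow_succ', ← D.orderOf_y, pow_orderOf_eq_one]
  · refine pow_ne_one_of_lt_orderOf (by positivity) ?_
    rw [D.orderOf_y]
    exact Nat.pow_lt_pow_right one_lt_two (Nat.lt_succ_self _)

theorem a_mem_zpowers : D.a ∈ Subgroup.zpowers D.y := pow_mem (Subgroup.mem_zpowers _) _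

theorem zpowers_le : Subgroup.zpowers D.y ≤ (D.S : Subgroup G) := Subgroup.zpowers_le.2 D.y_mem

theorem a_mem : D.a ∈ D.S := D.zpowers_le D.a_mem_zpowers

theorem a_sq : D.a * D.a = D.z := by
  rw [a, ← pow_add, ← D.y_pow_eq]
  congr 1
  rw [← two_mul, ← pow_succ', Nat.sub_add_cancel D.one_le_m]

theorem ne_inv {b : G} (hb : b * b = D.z) : b ≠ b⁻¹ := fun h => D.z_ne (by
  rw [← hb]; nth_rewrite 2 [h]; rw [mul_inv_cancel])

theorem inv_eq {b : G} (hb : b * b = D.z) : b⁻¹ = D.z * b :=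
  inv_eq_of_mul_eq_one_right (by rw [← mul_assoc, D.z_comm b, mul_assoc, hb, D.z_sq])

theorem commute_y_of_mem {w : G} (hw : w ∈ Subgroup.zpowers D.y) : Commute w D.y := by
  obtain ⟨i, rfl⟩ := Subgroup.mem_zpowers_iff.1 hw
  exact (Commute.refl D.y).zpow_left i

theorem commute_of_mem {v w : G} (hv : v ∈ Subgroup.zpowers D.y) (hw : w ∈ Subgroup.zpowers D.y) :
    Commute v w := by
  obtain ⟨i, rfl⟩ := Subgroup.mem_zpowers_iff.1 hw
  exact (D.commute_y_of_mem hv).zpow_right i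

theorem sq_of_notMem {s : G} (hs : s ∈ D.S) (hn : s ∉ Subgroup.zpowers D.y) : s * s = D.z :=
  ((D.dichot s hs).resolve_left hn).1

theorem inverts {s : G} (hs : s ∈ D.S) (hn : s ∉ Subgroup.zpowers D.y) {w : G}
    (hw : w ∈ Subgroup.zpowers D.y) : s * w * s⁻¹ = w⁻¹ := by
  obtain ⟨i, rfl⟩ := Subgroup.mem_zpowers_iff.1 hw
  rw [← conj_zpow, ((D.dichot s hs).resolve_left hn).2, inv_zpow]

theorem inverts_a {s : G} (hs : s ∈ D.S) (hn : s ∉ Subgroup.zpowers D.y) :
    s * D.a * s⁻¹ = D.a⁻¹ := D.inverts hs hn D.a_mem_zpowers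

theorem not_commute_a {s : G} (hs : s ∈ D.S) (hn : s ∉ Subgroup.zpowers D.y) :
    ¬ Commute s D.a := fun h => D.ne_inv D.a_sq (by
  conv_rhs => rw [← D.inverts_a hs hn, h.eq, mul_inv_cancel_right])

theorem mul_mem_zpowers {s t : G} (hs : s ∈ D.S) (hsn : s ∉ Subgroup.zpowers D.y) (ht : t ∈ D.S)
    (htn : t ∉ Subgroup.zpowers D.y) : s * t ∈ Subgroup.zpowers D.y := by
  by_contra hn
  refine D.not_commute_a (mul_mem hs ht) hn ?_
  rw [commute_iff_eq, ← mul_inv_eq_iff_eq_mul]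
  calc s * t * D.a * (s * t)⁻¹ = s * (t * D.a * t⁻¹) * s⁻¹ := by group
    _ = (s * D.a * s⁻¹)⁻¹ := by rw [D.inverts_a ht htn]; group
    _ = D.a := by rw [D.inverts_a hs hsn, inv_inv]

theorem exists_notMem : ∃ s ∈ D.S, s ∉ Subgroup.zpowers D.y := by
  by_contra h
  push Not at h
  have h1 := Subgroup.card_dvd_of_le (show (D.S : Subgroup G) ≤ Subgroup.zpowers D.y from h)
  rw [Nat.card_zpowers, D.orderOf_y, show Nat.card (D.S : Subgroup G) = _ from D.card_S,
    Nat.pow_dvd_pow_iff_le_right (by norm_num)] at h1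
  omega

theorem samePair_of_commute {b c : G} (hb : b * b = D.z) (hc : c * c = D.z) (h : Commute b c) :
    SamePair b c := by
  by_cases he : b * c⁻¹ = 1
  · exact Or.inl (mul_inv_eq_one.1 he)
  refine Or.inr ?_
  have h1 : b * c⁻¹ = D.z := by
    refine D.z_unique _ ?_ he
    rw [show b * c⁻¹ * (b * c⁻¹) = b * (c⁻¹ * b) * c⁻¹ by group, ← h.inv_right.eq,
      show b * (b * c⁻¹) * c⁻¹ = (b * b) * (c * c)⁻¹ by group, hb, hc, mul_inv_cancel]
  rw [mul_inv_eq_iff_eq_mul] at h1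
  rw [h1, D.inv_eq hc]

theorem samePair_a {b : G} (hb : b ∈ Subgroup.zpowers D.y) (hb2 : b * b = D.z) :
    SamePair b D.a :=
  D.samePair_of_commute hb2 D.a_sq (D.commute_of_mem hb D.a_mem_zpowers)

theorem exists_conj {b : G} (hb : b * b = D.z) : ∃ g, g * D.a * g⁻¹ = b := by
  haveI : Fact (Nat.Prime 2) := ⟨Nat.prime_two⟩
  classical
  set Z := Subgroup.zpowers D.z with hZ
  haveI hZn : Z.Normal := ⟨fun v hv g => by
    obtain ⟨i, rfl⟩ := Subgroup.mem_zpowers_iff.1 hv
    rw [((show Commute g D.z from D.z_comm g).zpow_right i).eq, mul_inv_cancel_right]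
    exact zpow_mem (Subgroup.mem_zpowers _) i⟩
  have hzy : D.z ∈ Subgroup.zpowers D.y := D.y_pow_eq ▸ pow_mem (Subgroup.mem_zpowers _) _
  set M := (Subgroup.zpowers D.y).map (QuotientGroup.mk' Z) with hM
  have hidx : M.index = 2 * (D.S : Subgroup G).index := by
    rw [hM, Subgroup.index_map_eq _ (QuotientGroup.mk'_surjective Z)
      (by rw [QuotientGroup.ker_mk']; exact Subgroup.zpowers_le.2 hzy)]
    have h1 := Subgroup.card_mul_index (Subgroup.zpowers D.y)
    rw [← Subgroup.card_mul_index (D.S : Subgroup G), Nat.card_zpowers, D.orderOf_y,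
      show Nat.card (D.S : Subgroup G) = _ from D.card_S, pow_succ _ (D.m + 1), mul_assoc] at h1
    exact Nat.eq_of_mul_eq_mul_left (by positivity) h1
  have hodd : Odd (D.S : Subgroup G).index := by
    rw [Nat.odd_iff, ← Nat.two_dvd_ne_zero]
    exact D.S.not_dvd_index
  have hbx : orderOf ((b : G) : G ⧸ Z) = 2 := by
    refine orderOf_eq_prime ?_ ?_
    · rw [← QuotientGroup.mk_pow, QuotientGroup.eq_one_iff, pow_two, hb]
      exact Subgroup.mem_zpowers _
    · rw [Ne, QuotientGroup.eq_one_iff]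
      intro h
      obtain ⟨i, hi⟩ := Subgroup.mem_zpowers_iff.1 h
      have : b * b = 1 := by rw [← hi, ← ((Commute.refl D.z).mul_zpow i), D.z_sq, one_zpow]
      exact D.z_ne (hb.symm.trans this)
  by_contra hne
  push Not at hne
  obtain ⟨K, hK, hbK⟩ := CfsgLib.Inv54.exists_index_two_not_mem M hbx hodd hidx fun q => by
    obtain ⟨g, rfl⟩ := QuotientGroup.mk_surjective q
    rw [← QuotientGroup.mk_inv, ← QuotientGroup.mk_mul, ← QuotientGroup.mk_mul]
    rintro ⟨w, hw, hwe⟩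
    rw [QuotientGroup.mk'_apply, QuotientGroup.eq] at hwe
    have hmem : g⁻¹ * b * g ∈ Subgroup.zpowers D.y := by
      have := mul_mem hw (Subgroup.zpowers_le.2 hzy hwe)
      rwa [mul_inv_cancel_left] at this
    have hsq : g⁻¹ * b * g * (g⁻¹ * b * g) = D.z := by
      rw [show g⁻¹ * b * g * (g⁻¹ * b * g) = g⁻¹ * (b * b) * g by group, hb, mul_assoc,
        ← D.z_comm g, inv_mul_cancel_left]
    rcases D.samePair_a hmem hsq with h | h
    · exact hne g (by rw [← h]; group)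
    · obtain ⟨s, hs, hsn⟩ := D.exists_notMem
      refine hne (g * s) ?_
      rw [show g * s * D.a * (g * s)⁻¹ = g * (s * D.a * s⁻¹) * g⁻¹ by group, D.inverts_a hs hsn,
        ← h]
      group
  haveI : K.Normal := Subgroup.normal_of_index_eq_two hK
  have htop : commutator (G ⧸ Z) = ⊤ := by
    rw [commutator_def, ← Subgroup.map_top_of_surjective _ (QuotientGroup.mk'_surjective Z),
      ← Subgroup.map_commutator, ← commutator_def, D.perfect]
  have hle : commutator (G ⧸ Z) ≤ K := by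
    refine Subgroup.Normal.quotient_commutative_iff_commutator_le.1 ?_
    refine ⟨⟨fun u v => ?_⟩⟩
    haveI : Fact (Nat.Prime 2) := ⟨Nat.prime_two⟩
    haveI : IsCyclic ((G ⧸ Z) ⧸ K) := isCyclic_of_prime_card (p := 2) (by
      rw [← hK]; rfl)
    exact IsCyclic.isMulCommutative.is_comm.comm u v
  exact hbK (hle (htop ▸ Subgroup.mem_top _))

theorem exists_O : ∃ O : Subgroup G, (∀ g, g ∈ O ↔ Commute g D.a ∧ Odd (orderOf g)) ∧
    ∀ g, Commute g D.a → ∃ o ∈ O, ∃ w ∈ Subgroup.zpowers D.y, g = o * w := by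
  haveI : Fact (Nat.Prime 2) := ⟨Nat.prime_two⟩
  set C := Subgroup.centralizer ({D.a} : Set G) with hC
  have hmemC : ∀ g, g ∈ C ↔ Commute g D.a := fun g => Subgroup.mem_centralizer_singleton_iff
  have hyC : Subgroup.zpowers D.y ≤ C := fun w hw =>
    (hmemC w).2 (D.commute_of_mem hw D.a_mem_zpowers)
  have hy2 : IsPGroup 2 ((Subgroup.zpowers D.y).subgroupOf C) :=
    (D.S.2.to_le D.zpowers_le).comap_of_injective C.subtype C.subtype_injective
  obtain ⟨P, hP⟩ := hy2.exists_le_sylow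
  set P' := (P : Subgroup C).map C.subtype with hP'
  have hyP : Subgroup.zpowers D.y ≤ P' := fun w hw => ⟨⟨w, hyC hw⟩, hP hw, rfl⟩
  have hP'c : ∀ w ∈ P', Commute w D.a := by
    rintro _ ⟨w, -, rfl⟩
    exact (hmemC _).1 w.2
  have hP'card : Nat.card P' ≤ 2 ^ (D.m + 1) := by
    obtain ⟨T, hT⟩ := (P.2.map C.subtype).exists_le_sylow
    obtain ⟨g, hg⟩ := MulAction.exists_smul_eq G T D.S
    have hcard : Nat.card P' = Nat.card (P'.map (MulAut.conj g).toMonoidHom) :=
      (Subgroup.card_map_of_injective (MulAut.conj g).injective).symm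
    rw [hcard]
    set a' := g * D.a * g⁻¹ with ha'
    have hS : ∀ w ∈ P', g * w * g⁻¹ ∈ D.S := fun w hw => by
      show MulAut.conj g w ∈ (D.S : Subgroup G)
      rw [← hg]
      exact Subgroup.smul_mem_pointwise_smul w (MulAut.conj g) _ (hT hw)
    have ha'S : a' ∈ D.S := hS _ (hyP D.a_mem_zpowers)
    have ha'sq : a' * a' = D.z := by
      rw [ha', show g * D.a * g⁻¹ * (g * D.a * g⁻¹) = g * (D.a * D.a) * g⁻¹ by group, D.a_sq,
        D.z_comm g, mul_inv_cancel_right]
    have hcomm : ∀ w ∈ P', Commute (g * w * g⁻¹) a' := fun w hw =>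
      (hP'c w hw).map (MulAut.conj g).toMonoidHom
    by_cases ha'y : a' ∈ Subgroup.zpowers D.y
    · have hle : P'.map (MulAut.conj g).toMonoidHom ≤ Subgroup.zpowers D.y := by
        rintro _ ⟨w, hw, rfl⟩
        show g * w * g⁻¹ ∈ _
        by_contra hn
        have := D.inverts (hS w hw) hn ha'y
        rw [(hcomm w hw).eq, mul_inv_cancel_right] at this
        exact D.ne_inv ha'sq this
      have := Subgroup.card_le_of_le hle
      rwa [Nat.card_zpowers, D.orderOf_y] at this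
    · have hsmall : ∀ v ∈ Subgroup.zpowers D.y, Commute v a' → v ∈ Subgroup.zpowers a' := by
        intro v hv hc
        have h1 := D.inverts ha'S ha'y hv
        rw [← hc.eq, mul_inv_cancel_right] at h1
        by_cases hv1 : v = 1
        · rw [hv1]; exact one_mem _
        rw [D.z_unique v (by nth_rewrite 2 [h1]; rw [mul_inv_cancel]) hv1, ← ha'sq]
        exact mul_mem (Subgroup.mem_zpowers _) (Subgroup.mem_zpowers _)
      have hle : P'.map (MulAut.conj g).toMonoidHom ≤ Subgroup.zpowers a' := by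
        rintro _ ⟨w, hw, rfl⟩
        show g * w * g⁻¹ ∈ _
        by_cases hn : g * w * g⁻¹ ∈ Subgroup.zpowers D.y
        · exact hsmall _ hn (hcomm w hw)
        · have := hsmall _ (D.mul_mem_zpowers (hS w hw) hn ha'S ha'y)
            ((hcomm w hw).mul_left (Commute.refl a'))
          have h2 := mul_mem this (inv_mem (Subgroup.mem_zpowers a'))
          rwa [mul_inv_cancel_right] at h2
      refine (Subgroup.card_le_of_le hle).trans ?_
      rw [Nat.card_zpowers]
      refine (orderOf_le_of_pow_eq_one (n := 4) (by norm_num) ?_).trans D.two_le_pow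
      rw [show (4 : ℕ) = 2 + 2 from rfl, pow_add, pow_two, ha'sq, D.z_sq]
  have hP'y : Subgroup.zpowers D.y = P' :=
    Subgroup.eq_of_le_of_card_ge hyP (by rwa [Nat.card_zpowers, D.orderOf_y])
  have hPc : IsCyclic P := by
    haveI : IsCyclic P' := hP'y ▸ inferInstance
    exact isCyclic_of_injective ((P : Subgroup C).equivMapOfInjective C.subtype
      C.subtype_injective).toMonoidHom (MulEquiv.injective _)
  have heven : (Nat.card C).minFac = 2 := by
    rw [Nat.minFac_eq_two_iff]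
    refine dvd_trans ?_ (Subgroup.card_dvd_of_le hyC)
    rw [Nat.card_zpowers, D.orderOf_y]
    exact dvd_pow_self 2 (by omega)
  have hcompl := IsCyclic.isComplement' heven hPc
  set N := (MonoidHom.transferSylow P (hPc.normalizer_le_centralizer heven)).ker with hN
  have hNodd : ¬ 2 ∣ Nat.card N := MonoidHom.not_dvd_card_ker_transferSylow P _
  refine ⟨N.map C.subtype, fun g => ⟨?_, fun ⟨hga, hgo⟩ => ?_⟩, fun g hg => ?_⟩
  · rintro ⟨w, hw, rfl⟩
    refine ⟨(hmemC _).1 w.2, ?_⟩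
    rw [Subgroup.coe_subtype, Subgroup.orderOf_coe, ← Subgroup.orderOf_mk w hw, Nat.odd_iff,
      ← Nat.two_dvd_ne_zero]
    exact fun h => hNodd (h.trans (orderOf_dvd_natCard _))
  · refine ⟨⟨g, (hmemC g).2 hga⟩, ?_, rfl⟩
    rw [SetLike.mem_coe, hN, MonoidHom.mem_ker]
    rw [← orderOf_eq_one_iff]
    obtain ⟨k, hk⟩ := P.2 (MonoidHom.transferSylow P (hPc.normalizer_le_centralizer heven)
      ⟨g, (hmemC g).2 hga⟩)
    refine Nat.eq_one_of_dvd_coprimes ((Nat.coprime_two_left.2 hgo).pow_left k)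
      (orderOf_dvd_of_pow_eq_one hk) ((orderOf_map_dvd _ _).trans ?_)
    rw [Subgroup.orderOf_mk]
  · obtain ⟨⟨⟨n, hn⟩, ⟨p, hp⟩⟩, hnp⟩ := hcompl.2 ⟨g, (hmemC g).2 hg⟩
    refine ⟨n, ⟨n, hn, rfl⟩, p, hP'y ▸ ⟨p, hp, rfl⟩, ?_⟩
    exact (congrArg Subtype.val hnp).symm

/-- The odd part of the centraliser of `a`. -/
noncomputable def O : Subgroup G := D.exists_O.choose

theorem mem_O {g : G} : g ∈ D.O ↔ Commute g D.a ∧ Odd (orderOf g) :=
  D.exists_O.choose_spec.1 g

theorem decomp {g : G} (hg : SamePair (g * D.a * g⁻¹) D.a) :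
    ∃ o ∈ D.O, ∃ s ∈ D.S, g = o * s := by
  rcases hg with h | h
  · obtain ⟨o, ho, w, hw, e⟩ := D.exists_O.choose_spec.2 g (mul_inv_eq_iff_eq_mul.1 h)
    exact ⟨o, ho, w, D.zpowers_le hw, e⟩
  · obtain ⟨s, hs, hsn⟩ := D.exists_notMem
    have hc : g * s * D.a * (g * s)⁻¹ = D.a := by
      calc g * s * D.a * (g * s)⁻¹ = g * (s * D.a * s⁻¹) * g⁻¹ := by group
        _ = (g * D.a * g⁻¹)⁻¹ := by rw [D.inverts_a hs hsn]; group
        _ = D.a := by rw [h, inv_inv]
    obtain ⟨o, ho, w, hw, e⟩ :=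
      D.exists_O.choose_spec.2 (g * s) (mul_inv_eq_iff_eq_mul.1 hc)
    exact ⟨o, ho, w * s⁻¹, mul_mem (D.zpowers_le hw) (inv_mem hs),
      by rw [← mul_assoc, ← e, mul_inv_cancel_right]⟩

theorem odd_mem_O {g : G} (h : SamePair (g * D.a * g⁻¹) D.a) (ho : Odd (orderOf g)) : g ∈ D.O :=
  D.mem_O.2 ⟨h.commute_of_odd ho, ho⟩

theorem conj_mem_O {o u : G} (ho : o ∈ D.O) (hu : u ∈ D.S) : u * o * u⁻¹ ∈ D.O := by
  obtain ⟨hc, hodd⟩ := D.mem_O.1 ho
  have hu' : SamePair (u * D.a * u⁻¹) D.a := by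
    by_cases hn : u ∈ Subgroup.zpowers D.y
    · exact Or.inl (by rw [(D.commute_of_mem hn D.a_mem_zpowers).eq, mul_inv_cancel_right])
    · exact Or.inr (D.inverts_a hu hn)
  refine D.odd_mem_O ?_ ?_
  · have h1 : SamePair (u⁻¹ * D.a * u) D.a := by
      have := hu'.symm.conj u⁻¹
      simpa [mul_assoc] using this
    have h2 : SamePair (o * (u⁻¹ * D.a * u) * o⁻¹) D.a := by
      have := h1.conj o
      rwa [hc.eq, mul_inv_cancel_right] at this
    have h3 := (h2.conj u).trans hu'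
    rwa [show u * o * u⁻¹ * D.a * (u * o * u⁻¹)⁻¹ = u * (o * (u⁻¹ * D.a * u) * o⁻¹) * u⁻¹ by group]
  · rw [← MulAut.conj_apply, MulEquiv.orderOf_eq]
    exact hodd

theorem odd_card_O : Odd (Nat.card D.O) := by
  rw [Nat.odd_iff, ← Nat.two_dvd_ne_zero]
  intro h
  haveI : Fact (Nat.Prime 2) := ⟨Nat.prime_two⟩
  obtain ⟨g, hg⟩ := exists_prime_orderOf_dvd_card' 2 h
  have := (D.mem_O.1 g.2).2
  rw [Subgroup.orderOf_coe, hg] at this
  exact absurd this (by decide)

theorem exists_move {j : G} (hj : j ∈ D.S) (hjn : j ∉ Subgroup.zpowers D.y) :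
    ∃ h : G, h * D.a * h⁻¹ = j ∧ h⁻¹ * D.a * h ∈ D.S ∧
      h⁻¹ * D.a * h ∉ Subgroup.zpowers D.y := by
  obtain ⟨g, hg⟩ := D.exists_conj (D.sq_of_notMem hj hjn)
  have haj : D.a * j * D.a⁻¹ = j⁻¹ := by
    have h1 : j * D.a = D.a⁻¹ * j := mul_inv_eq_iff_eq_mul.1 (D.inverts_a hj hjn)
    calc D.a * j * D.a⁻¹ = D.a * (j * D.a) * D.a⁻¹ * D.a⁻¹ := by group
      _ = j * (D.a * D.a)⁻¹ := by rw [h1]; group
      _ = j⁻¹ := by
        rw [D.a_sq, D.z_inv, D.z_comm j, D.inv_eq (D.sq_of_notMem hj hjn)]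
  set b := g⁻¹ * D.a * g with hb
  have hbinv : b * D.a * b⁻¹ = D.a⁻¹ := by
    calc b * D.a * b⁻¹ = g⁻¹ * (D.a * (g * D.a * g⁻¹) * D.a⁻¹) * g := by rw [hb]; group
      _ = g⁻¹ * j⁻¹ * g := by rw [hg, haj]
      _ = D.a⁻¹ := by rw [← hg]; group
  have hbz : b * b = D.z := by
    rw [hb, show g⁻¹ * D.a * g * (g⁻¹ * D.a * g) = g⁻¹ * (D.a * D.a) * g by group, D.a_sq,
      mul_assoc, ← D.z_comm g, inv_mul_cancel_left]
  obtain ⟨o, ho, s, hs, hos⟩ := D.decomp (Or.inr hbinv)
  obtain ⟨hoc, hodd⟩ := D.mem_O.1 ho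
  have hsn : s ∉ Subgroup.zpowers D.y := fun h => by
    have hc : Commute b D.a := hos ▸ hoc.mul_left (D.commute_of_mem h D.a_mem_zpowers)
    rw [hc.eq, mul_inv_cancel_right] at hbinv
    exact D.ne_inv D.a_sq hbinv
  have hso : s * o * s⁻¹ = o⁻¹ := by
    refine eq_inv_of_mul_eq_one_right ?_
    rw [hos] at hbz
    calc o * (s * o * s⁻¹) = o * s * (o * s) * (s * s)⁻¹ := by group
      _ = 1 := by rw [hbz, D.sq_of_notMem hs hsn, mul_inv_cancel]
  obtain ⟨k, hk⟩ := hodd
  have hr : o ^ (k + 1) * o ^ (k + 1) = o := by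
    rw [← pow_add, show k + 1 + (k + 1) = (2 * k + 1) + 1 by ring, pow_succ, ← hk,
      pow_orderOf_eq_one, one_mul]
  have hsr : s * (o ^ (k + 1))⁻¹ * s⁻¹ = o ^ (k + 1) := by
    rw [← inv_pow, ← conj_pow, show s * o⁻¹ * s⁻¹ = (s * o * s⁻¹)⁻¹ by group, hso, inv_inv]
  have hrc : Commute (o ^ (k + 1)) D.a := hoc.pow_left _
  set r := o ^ (k + 1) with hrdef
  have hbs : r⁻¹ * b * r = s := by
    calc r⁻¹ * b * r = r⁻¹ * (o * s) * r := by rw [hos]
      _ = r⁻¹ * (r * r) * (s * r⁻¹ * s⁻¹)⁻¹ * s := by rw [hr]; group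
      _ = s := by rw [hsr]; group
  refine ⟨g * r, ?_, ?_⟩
  · rw [show g * r * D.a * (g * r)⁻¹ = g * (r * D.a * r⁻¹) * g⁻¹ by group, hrc.eq,
      mul_inv_cancel_right, hg]
  · rw [show (g * r)⁻¹ * D.a * (g * r) = r⁻¹ * b * r by rw [hb]; group, hbs]
    exact ⟨hs, hsn⟩

end PerfectSetup

end CfsgLib.FrobComp
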