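import Mathlib

/-!
# Free rational representations: the quaternion / order-three lemma

If `G` acts freely on a rational vector space, `⟨a, j⟩` is a quaternion group of order 8 on which an
element `x` of order 3 acts by permuting its three cyclic subgroups of order 4, and `g` centralises
`a` and is inverted by `j`, then `g ^ 8 = 1`.

The proof computes `X = -(1 + A + J + AJ)/2`, so that `h = x j g` satisfies
`4 (T² - 1)² = 2 - k - k⁻¹` with `T = h + h⁻¹`, `k = g⁴`; comparing with the eigenvalues of `h`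
(all primitive roots of unity of order `orderOf h`) leaves `orderOf h ∈ {3, 4, 6, 8}`.
-/

set_option autoImplicit false
set_option linter.unusedSimpArgs false
set_option linter.style.haveILetI false

namespace CfsgLib.FrobComp

open Polynomial

variable {G : Type*} [Group G] {W : Type*} [AddCommGroup W] [Module ℚ W]

/-- A free rational action. -/
def IsFreeRat (σ : G →* Module.End ℚ W) : Prop :=
  ∀ h : G, h ≠ 1 → ∀ v : W, σ h v = v → v = 0

namespace IsFreeRat

variable {σ : G →* Module.End ℚ W} (hσ : IsFreeRat σ)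
include hσ

theorem injective_sub_one {h : G} (h1 : h ≠ 1) :
    Function.Injective (σ h - 1 : Module.End ℚ W) := by
  rw [injective_iff_map_eq_zero]
  intro v hv
  rw [LinearMap.sub_apply, Module.End.one_apply, sub_eq_zero] at hv
  exact hσ h h1 v hv

theorem eq_zero_of_sub_one_mul {h : G} (h1 : h ≠ 1) {B : Module.End ℚ W}
    (hB : (σ h - 1) * B = 0) : B = 0 :=
  LinearMap.ext fun v => hσ.injective_sub_one h1 (by
    rw [show (σ h - 1 : Module.End ℚ W) (B v) = ((σ h - 1) * B) v from rfl, hB]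
    simp)

theorem eq_one_of_map_eq_one [Nontrivial W] {h : G} (hh : σ h = 1) : h = 1 := by
  by_contra h1
  obtain ⟨v, hv⟩ := exists_ne (0 : W)
  exact hv (hσ h h1 v (by rw [hh]; rfl))

theorem injective [Nontrivial W] : Function.Injective σ := by
  intro g h hgh
  rw [← inv_mul_eq_one]
  refine hσ.eq_one_of_map_eq_one ?_
  rw [map_mul, ← hgh, ← map_mul, inv_mul_cancel, map_one]

theorem eq_one_of_sub_one_sq [Nontrivial W] {h : G} (hh : (σ h - 1) * (σ h - 1) = 0) : h = 1 := by
  by_contra h1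
  exact h1 (hσ.eq_one_of_map_eq_one (sub_eq_zero.1 (hσ.eq_zero_of_sub_one_mul h1 hh)))

theorem map_eq_neg_one {h : G} (h2 : h ^ 2 = 1) (h1 : h ≠ 1) : σ h = -1 := by
  have hmul : σ h * σ h = 1 := by rw [← map_mul, ← pow_two, h2, map_one]
  refine eq_neg_of_add_eq_zero_left (hσ.eq_zero_of_sub_one_mul h1 ?_)
  rw [sub_mul, mul_add, hmul, mul_one, one_mul]
  abel

theorem sq_add_self_add_one {h : G} (h3 : h ^ 3 = 1) (h1 : h ≠ 1) :
    σ h * σ h + σ h + 1 = 0 := by
  refine hσ.eq_zero_of_sub_one_mul h1 ?_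
  have h' : σ h * (σ h * σ h) = 1 := by
    rw [← map_mul, ← map_mul, ← pow_two, ← pow_succ', h3, map_one]
  rw [sub_mul, mul_add, mul_add, h', mul_one, one_mul]
  abel

theorem aeval_cyclotomic {h : G} {n : ℕ} (hn : 0 < n) (hh : orderOf h = n) :
    aeval (σ h) (cyclotomic n ℚ) = 0 := by
  classical
  have hinj : Function.Injective
      (aeval (σ h) (∏ d ∈ n.properDivisors, cyclotomic d ℚ) : Module.End ℚ W) := by
    refine Finset.prod_induction _
      (fun p => Function.Injective (aeval (σ h) p : Module.End ℚ W)) ?_ ?_ ?_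
    · intro p q hp hq
      rw [map_mul]
      exact hp.comp hq
    · rw [map_one]
      exact fun v w hvw => hvw
    · intro d hd
      have hd' := Nat.mem_properDivisors.1 hd
      have hd0 : 0 < d := Nat.pos_of_dvd_of_pos hd'.1 hn
      obtain ⟨q, hq⟩ : cyclotomic d ℚ ∣ X ^ d - 1 := cyclotomic.dvd_X_pow_sub_one d ℚ
      have h1 : h ^ d ≠ 1 := fun e => by
        have := Nat.le_of_dvd hd0 (hh ▸ orderOf_dvd_of_pow_eq_one e)
        omega
      have h2 := hσ.injective_sub_one h1
      rw [show σ (h ^ d) - 1 = aeval (σ h) (X ^ d - 1 : ℚ[X]) by simp, hq,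
        mul_comm, map_mul] at h2
      exact Function.Injective.of_comp (f := (aeval (σ h) q : Module.End ℚ W)) h2
  have htot := prod_cyclotomic_eq_X_pow_sub_one hn ℚ
  rw [← Nat.insert_self_properDivisors hn.ne',
    Finset.prod_insert Nat.self_notMem_properDivisors, mul_comm] at htot
  refine LinearMap.ext fun v => hinj ?_
  have := LinearMap.congr_fun (congrArg (aeval (σ h)) htot) v
  rw [map_mul, map_sub, map_pow, aeval_X, map_one, ← map_pow,
    show h ^ n = 1 by rw [← hh, pow_orderOf_eq_one], map_one, sub_self, LinearMap.zero_apply] at this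
  rw [LinearMap.zero_apply, map_zero]
  exact this

end IsFreeRat

theorem aeval_dickson {A : Type*} [Ring A] [Algebra ℚ A] {a b : A} (hab : a * b = 1)
    (hba : b * a = 1) (n : ℕ) :
    aeval (a + b) (dickson 1 (1 : ℚ) n) = a ^ n + b ^ n := by
  induction n using Nat.twoStepInduction with
  | zero => simp only [dickson_zero, Nat.cast_one, map_sub, map_ofNat, map_one, pow_zero]; norm_num
  | one => simp [dickson_one]
  | more n ih1 ih2 =>
    rw [dickson_add_two, map_sub, map_mul, map_mul, aeval_X, aeval_C, map_one, one_mul, ih1, ih2,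
      add_mul, mul_add, mul_add, ← pow_succ' a, ← pow_succ' b, pow_succ' b n, ← mul_assoc a b,
      hab, one_mul, pow_succ' a n, ← mul_assoc b a, hba, one_mul]
    abel

/-- A real number `x = 2 - 4 (t² - 1)²` with `dickson N (x) = 2` forces `t² ≤ 2`. -/
theorem sq_le_two_of_dickson {t : ℝ} {N : ℕ} (hN : N ≠ 0)
    (h : (dickson 1 (1 : ℂ) N).eval ((2 - 4 * (t ^ 2 - 1) ^ 2 : ℝ) : ℂ) = 2) : t ^ 2 ≤ 2 := by
  set c : ℂ := ((2 - 4 * (t ^ 2 - 1) ^ 2 : ℝ) : ℂ) with hc
  obtain ⟨e, he⟩ := IsAlgClosed.exists_root (X ^ 2 - C c * X + 1 : ℂ[X]) (by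
    rw [show (X ^ 2 - C c * X + 1 : ℂ[X]).degree = 2 by compute_degree!]
    decide)
  simp only [IsRoot, eval_add, eval_sub, eval_pow, eval_mul, eval_X, eval_C, eval_one] at he
  have he0 : e ≠ 0 := by rintro rfl; simp at he
  have hce : c = e + e⁻¹ := by field_simp; linear_combination -he
  rw [hce] at h
  rw [← Polynomial.coe_aeval_eq_eval] at h
  have hd : (dickson 1 (1 : ℚ) N).map (algebraMap ℚ ℂ) = dickson 1 (1 : ℂ) N := by
    rw [map_dickson, map_one]
  rw [← hd, aeval_map_algebraMap, aeval_dickson (mul_inv_cancel₀ he0) (inv_mul_cancel₀ he0)] at h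
  have heN : e ^ N = 1 := by
    have h1 : e ^ N ≠ 0 := pow_ne_zero _ he0
    have h2 : (e ^ N - 1) ^ 2 = 0 := by
      rw [inv_pow] at h
      field_simp at h
      linear_combination h
    exact sub_eq_zero.1 (pow_eq_zero_iff (n := 2) (by norm_num) |>.1 h2)
  have hnorm : ‖e‖ = 1 := by
    rw [← pow_eq_one_iff_of_nonneg (norm_nonneg e) hN, ← norm_pow, heN, norm_one]
  have hc2 : ‖c‖ ≤ 2 := by
    rw [hce]
    refine (norm_add_le _ _).trans ?_
    rw [norm_inv, hnorm]
    norm_num
  rw [hc, Complex.norm_real, Real.norm_eq_abs, abs_le] at hc2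
  nlinarith

/-- For `n ∉ {3, 4, 6, 8}` some primitive `n`-th root of unity `η` has `(η + η⁻¹)² > 2`. -/
theorem exists_primitive_root_gt {n : ℕ} (hn : 0 < n) (h3 : n ≠ 3) (h4 : n ≠ 4) (h6 : n ≠ 6)
    (h8 : n ≠ 8) :
    ∃ η : ℂ, IsPrimitiveRoot η n ∧ ∃ t : ℝ, η + η⁻¹ = (t : ℂ) ∧ 2 < t ^ 2 := by
  obtain ⟨m, hm, hcos⟩ : ∃ m : ℕ, m.Coprime n ∧ 0 < Real.cos (4 * Real.pi * m / n) := by
    have hn' : (0 : ℝ) < n := by exact_mod_cast hn
    have hpi := Real.pi_pos
    rcases Nat.even_or_odd n with he | ho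
    · refine ⟨1, Nat.coprime_one_left n, ?_⟩
      obtain ⟨k, hk⟩ := he
      rcases eq_or_ne n 2 with rfl | h2
      · rw [show 4 * Real.pi * ((1 : ℕ) : ℝ) / ((2 : ℕ) : ℝ) = 2 * Real.pi by push_cast; ring,
          Real.cos_two_pi]
        norm_num
      · refine Real.cos_pos_of_mem_Ioo ⟨?_, ?_⟩
        · have : 0 ≤ 4 * Real.pi * ((1 : ℕ) : ℝ) / n := by positivity
          linarith
        · have : (10 : ℝ) ≤ n := by exact_mod_cast (show 10 ≤ n by omega)
          rw [div_lt_iff₀ hn']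
          push_cast
          nlinarith
    · obtain ⟨k, hk⟩ := ho
      refine ⟨k + 1, ?_, ?_⟩
      · refine Nat.Coprime.symm ?_
        rw [Nat.coprime_iff_gcd_eq_one, ← Nat.dvd_one]
        have hd : n.gcd (k + 1) ∣ 2 * (k + 1) - n :=
          Nat.dvd_sub (Dvd.dvd.mul_left (Nat.gcd_dvd_right n (k + 1)) 2) (Nat.gcd_dvd_left n (k + 1))
        rwa [show 2 * (k + 1) - n = 1 by omega] at hd
      · have h2k : (n : ℝ) = 2 * k + 1 := by exact_mod_cast hk
        rw [show 4 * Real.pi * ((k + 1 : ℕ) : ℝ) / n = 2 * Real.pi / n + 2 * Real.pi by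
          push_cast; rw [h2k]; field_simp; ring, Real.cos_add_two_pi]
        rcases eq_or_ne n 1 with rfl | h1
        · rw [Nat.cast_one, div_one, Real.cos_two_pi]
          norm_num
        · refine Real.cos_pos_of_mem_Ioo ⟨?_, ?_⟩
          · have : 0 ≤ 2 * Real.pi / n := by positivity
            linarith
          · have : (5 : ℝ) ≤ n := by exact_mod_cast (show 5 ≤ n by omega)
            rw [div_lt_iff₀ hn']
            nlinarith
  refine ⟨_, Complex.isPrimitiveRoot_exp_of_coprime m n hn.ne' hm,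
    2 * Real.cos (2 * Real.pi * m / n), ?_, ?_⟩
  · rw [← Complex.exp_neg]
    push_cast
    rw [Complex.two_cos]
    congr 1 <;> congr 1 <;> ring
  · rw [mul_pow, Real.cos_sq,
      show 2 * (2 * Real.pi * m / n) = 4 * Real.pi * m / n by ring]
    linarith

/-- Inside a ring: a quaternion pair, an element `X` of order three permuting it, is `-(1+A+J+AJ)/2`. -/
theorem eq_quarter_sum {R : Type*} [Ring R] [Algebra ℚ R] {A J X : R} (hA : A * A = -1)
    (hJ : J * J = -1) (hJA : J * A = -(A * J)) (hXA : X * A = J * X) (hXJ : X * J = A * J * X)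
    (hX : X * X + X + 1 = 0) : X = (-(1 / 2) : ℚ) • (1 + A + J + A * J) := by
  have hA' : ∀ b, A * (A * b) = -b := fun b => by rw [← mul_assoc, hA, neg_one_mul]
  have hJ' : ∀ b, J * (J * b) = -b := fun b => by rw [← mul_assoc, hJ, neg_one_mul]
  have hJA' : ∀ b, J * (A * b) = -(A * (J * b)) := fun b => by
    rw [← mul_assoc, hJA, neg_mul, mul_assoc]
  set P := (-(1 / 2) : ℚ) • (1 + A + J + A * J) with hP
  have hPP : P * P + P + 1 = 0 := by
    simp only [hP, smul_mul_assoc, mul_smul_comm, smul_smul, mul_add, add_mul, one_mul, mul_one,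
      mul_assoc, hA, hJ, hJA, hA', hJ', hJA', mul_neg, neg_neg]
    module
  have hPA : P * A = J * P := by
    simp only [hP, smul_mul_assoc, mul_smul_comm, mul_add, add_mul, one_mul, mul_one,
      mul_assoc, hA, hJ, hJA, hA', hJ', hJA', mul_neg, neg_neg]
    module
  have hPJ : P * J = A * J * P := by
    simp only [hP, smul_mul_assoc, mul_smul_comm, mul_add, add_mul, one_mul, mul_one,
      mul_assoc, hA, hJ, hJA, hA', hJ', hJA', mul_neg, neg_neg]
    module
  have hAPA : P + A * P * A = -(J + A * J) := by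
    simp only [hP, smul_mul_assoc, mul_smul_comm, mul_add, add_mul, one_mul, mul_one,
      mul_assoc, hA, hJ, hJA, hA', hJ', hJA', mul_neg, neg_mul, neg_neg]
    module
  have hP2 : P * P = -P - 1 := by linear_combination (norm := noncomm_ring) hPP
  have hP3 : P * (P * P) = 1 := by
    rw [hP2, mul_sub, mul_neg, hP2, mul_one]; abel
  obtain ⟨U, hU⟩ : ∃ U, U = P * P * X := ⟨_, rfl⟩
  have hXPU : X = P * U := by rw [hU, ← mul_assoc, hP3, one_mul]
  have hPK : P * (A * J) = A * P := by
    rw [← mul_assoc, hPA, mul_assoc, hPJ, ← mul_assoc, ← mul_assoc, hJA, neg_mul, mul_assoc A J J,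
      hJ, mul_neg, mul_one, neg_neg]
  have hUA : Commute U A := by
    show U * A = A * U
    rw [hU, mul_assoc _ X A, hXA, ← mul_assoc, mul_assoc P P J, hPJ, ← mul_assoc, hPK]
    simp only [mul_assoc]
  have hUJ : Commute U J := by
    show U * J = J * U
    rw [hU, mul_assoc _ X J, hXJ, ← mul_assoc, mul_assoc P P (A * J), hPK, ← mul_assoc, hPA]
    simp only [mul_assoc]
  have hUP : Commute U P :=
    ((((Commute.one_right U).add_right hUA).add_right hUJ).add_right (hUA.mul_right hUJ)).smul_right _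
  have hE : (1 - U * U) + P * (U - U * U) = 0 := by
    rw [hXPU, show P * U * (P * U) = P * P * (U * U) by
      rw [mul_assoc, ← mul_assoc U P, hUP.eq, mul_assoc P U U, ← mul_assoc], hP2] at hX
    linear_combination (norm := noncomm_ring) hX
  have h1A : Commute (1 - U * U) A := (Commute.one_left A).sub_left (hUA.mul_left hUA)
  have h2A : Commute (U - U * U) A := hUA.sub_left (hUA.mul_left hUA)
  have hE' : -(1 - U * U) + A * P * A * (U - U * U) = 0 := by
    have := congrArg (fun e => A * e * A) hE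
    simp only [mul_add, add_mul, mul_zero, zero_mul] at this
    rw [mul_assoc A (1 - U * U) A, h1A.eq, hA', mul_assoc A (P * (U - U * U)) A,
      mul_assoc P (U - U * U) A, h2A.eq] at this
    rwa [mul_assoc (A * P) A, mul_assoc A P]
  have hsum : (J + A * J) * (U - U * U) = 0 := by
    have := add_eq_zero_iff_eq_neg.1 (show (P + A * P * A) * (U - U * U) + 0 = 0 by
      rw [add_mul, add_zero]; linear_combination (norm := noncomm_ring) hE + hE')
    rwa [hAPA, neg_zero, neg_mul, neg_eq_zero] at this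
  have hu2 : U - U * U = 0 := by
    have h2 : (J + A * J) * (J + A * J) = (-2 : ℚ) • (1 : R) := by
      simp only [mul_add, add_mul, mul_assoc, hA, hJ, hJA, hA', hJ', hJA', mul_neg, neg_neg,
        mul_one]
      module
    have := congrArg ((J + A * J) * ·) hsum
    simp only [← mul_assoc, h2, mul_zero, smul_mul_assoc, one_mul] at this
    exact (smul_eq_zero.1 this).resolve_left (by norm_num)
  rw [hu2, mul_zero, add_zero, sub_eq_zero] at hE
  have hU1 : U = 1 := by rw [sub_eq_zero.1 hu2]; exact hE.symm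
  rw [hXPU, hU1, mul_one]

namespace IsFreeRat

variable [Finite G] [Nontrivial W] {σ : G →* Module.End ℚ W} (hσ : IsFreeRat σ)
include hσ

/-- The Dickson-polynomial step: the order of `h` is 3, 4, 6 or 8. -/
theorem orderOf_mem {h k : G}
    (hT : (4 : ℚ) • (((σ h + σ h⁻¹) * (σ h + σ h⁻¹) - 1) *
      ((σ h + σ h⁻¹) * (σ h + σ h⁻¹) - 1)) = 2 - σ k - σ k⁻¹) :
    orderOf h = 3 ∨ orderOf h = 4 ∨ orderOf h = 6 ∨ orderOf h = 8 := by
  by_contra hne
  push Not at hne
  obtain ⟨h3, h4, h6, h8⟩ := hne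
  set n := orderOf h with hn
  have hn0 : 0 < n := orderOf_pos h
  set N := orderOf k with hNdef
  have hN0 : 0 < N := orderOf_pos k
  have hinv : h⁻¹ = h ^ (n - 1) := inv_eq_of_mul_eq_one_right (by
    rw [← pow_succ', Nat.sub_add_cancel hn0, pow_orderOf_eq_one])
  let M : ℚ[X] := 2 - C 4 * ((X + X ^ (n - 1)) ^ 2 - 1) ^ 2
  have hM : aeval (σ h) M = σ k + σ k⁻¹ := by
    simp only [M, map_sub, map_mul, map_pow, map_add, aeval_X, aeval_C, map_ofNat, map_one]
    rw [← map_pow, ← hinv, pow_two, pow_two, ← map_ofNat (algebraMap ℚ (Module.End ℚ W)) 4,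
      ← Algebra.smul_def, hT]
    abel
  let R : ℚ[X] := (dickson 1 (1 : ℚ) N).comp M - 2
  have hR : aeval (σ h) R = 0 := by
    have hk1 : σ k * σ k⁻¹ = 1 := by rw [← map_mul, mul_inv_cancel, map_one]
    have hk2 : σ k⁻¹ * σ k = 1 := by rw [← map_mul, inv_mul_cancel, map_one]
    rw [map_sub, aeval_comp, hM, aeval_dickson hk1 hk2, ← map_pow, ← map_pow, inv_pow,
      pow_orderOf_eq_one, inv_one, map_one, map_ofNat, one_add_one_eq_two, sub_self]
  obtain ⟨η, hη, t, ht, ht2⟩ := exists_primitive_root_gt hn0 h3 h4 h6 h8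
  have hdvd : cyclotomic n ℚ ∣ R := by
    by_contra hnd
    obtain ⟨a, b, hab⟩ := (cyclotomic.irreducible_rat hn0).coprime_iff_not_dvd.2 hnd
    have := congrArg (aeval (σ h)) hab
    rw [map_add, map_mul, map_mul, hσ.aeval_cyclotomic hn0 hn.symm, hR, mul_zero, mul_zero,
      add_zero, map_one] at this
    exact zero_ne_one this
  have hηΦ : aeval η (cyclotomic n ℚ) = 0 := by
    haveI : NeZero (n : ℂ) := ⟨by exact_mod_cast hn0.ne'⟩
    rw [aeval_def, eval₂_eq_eval_map, map_cyclotomic]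
    exact isRoot_cyclotomic_iff.2 hη
  obtain ⟨Q, hQ⟩ := hdvd
  have hRη : aeval η R = 0 := by rw [hQ, map_mul, hηΦ, zero_mul]
  have hηinv : η ^ (n - 1) = η⁻¹ := eq_inv_of_mul_eq_one_left (by
    rw [← pow_succ, Nat.sub_add_cancel hn0, hη.pow_eq_one])
  have hMη : aeval η M = ((2 - 4 * (t ^ 2 - 1) ^ 2 : ℝ) : ℂ) := by
    simp only [M, map_sub, map_mul, map_pow, map_add, aeval_X, aeval_C, map_ofNat, map_one, hηinv,
      ht]
    push_cast
    ring
  rw [map_sub, aeval_comp, hMη, map_ofNat, sub_eq_zero] at hRη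
  refine absurd (sq_le_two_of_dickson hN0.ne' ?_) (not_le.2 ht2)
  rw [← map_one (algebraMap ℚ ℂ), ← map_dickson, eval_map]
  exact hRη

theorem pow_eight_eq_one {z a j x g : G} (hz : σ z = -1) (ha : a * a = z) (hj : j * j = z)
    (hja : j * a * j⁻¹ = a⁻¹) (hx3 : x ^ 3 = 1) (hx1 : x ≠ 1) (hxa : x * a * x⁻¹ = j)
    (hxj : x * j * x⁻¹ = a * j ∨ x * j * x⁻¹ = (a * j)⁻¹) (hga : g * a = a * g)
    (hgj : j * g * j⁻¹ = g⁻¹) : g ^ 8 = 1 := by
  have hzc : ∀ y : G, z * y = y * z := fun y => hσ.injective (by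
    rw [map_mul, map_mul, hz, neg_one_mul, mul_neg_one])
  have hz2 : z * z = 1 := hσ.injective (by rw [map_mul, map_one, hz, neg_mul_neg, one_mul])
  have hzinv : z⁻¹ = z := inv_eq_of_mul_eq_one_right hz2
  have hflip : ∀ c y : G, c * y * c⁻¹ = y⁻¹ → c * y⁻¹ * c⁻¹ = y ∧ c⁻¹ * y * c = y⁻¹ := by
    intro c y hcy
    have h1 : c * y⁻¹ * c⁻¹ = y := by
      calc c * y⁻¹ * c⁻¹ = (c * y * c⁻¹)⁻¹ := by group
        _ = y := by rw [hcy, inv_inv]
    refine ⟨h1, ?_⟩
    conv_lhs => rw [← h1]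
    group
  -- reduce to `x j x⁻¹ = a j`
  wlog hxj' : x * j * x⁻¹ = a * j generalizing a j with H
  · have hxj2 := hxj.resolve_left hxj'
    have hnew : x * j⁻¹ * x⁻¹ = a⁻¹ * j⁻¹ := by
      calc x * j⁻¹ * x⁻¹ = (x * j * x⁻¹)⁻¹ := by group
        _ = a * j := by rw [hxj2, inv_inv]
        _ = a⁻¹ * j⁻¹ := by
          have e1 : a = z * a⁻¹ := by rw [← ha]; group
          have e2 : j = z * j⁻¹ := by rw [← hj]; group
          nth_rewrite 1 [e1, e2]
          rw [hzc a⁻¹, mul_assoc, ← mul_assoc z z, hz2, one_mul]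
    refine H (a := a⁻¹) (j := j⁻¹) ?_ ?_ ?_ ?_ (Or.inl hnew) ?_ ?_ hnew
    · rw [← mul_inv_rev, ha, hzinv]
    · rw [← mul_inv_rev, hj, hzinv]
    · rw [inv_inv, inv_inv, ← hja]; group
    · rw [← hxa]; group
    · exact (Commute.inv_right (show Commute g a from hga)).eq
    · rw [inv_inv]; exact (hflip j g hgj).2
  -- the operators
  have hA : σ a * σ a = -1 := by rw [← map_mul, ha, hz]
  have hJ : σ j * σ j = -1 := by rw [← map_mul, hj, hz]
  have hJinv : σ j⁻¹ = -σ j := by
    rw [show j⁻¹ = z⁻¹ * j by rw [← hj]; group,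
      show z⁻¹ = z from inv_eq_of_mul_eq_one_right (hσ.injective (by
        rw [map_mul, map_one, hz, neg_mul_neg, one_mul])), map_mul, hz, neg_one_mul]
  have hJA : σ j * σ a = -(σ a * σ j) := by
    rw [← map_mul, show j * a = a⁻¹ * j by rw [← hja]; group,
      show a⁻¹ = z⁻¹ * a by rw [← ha]; group,
      show z⁻¹ = z from inv_eq_of_mul_eq_one_right (hσ.injective (by
        rw [map_mul, map_one, hz, neg_mul_neg, one_mul])), mul_assoc, map_mul, map_mul, hz,
      neg_one_mul]
  have hXA : σ x * σ a = σ j * σ x := by rw [← map_mul, ← map_mul, ← hxa]; congr 1; group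
  have hXJ : σ x * σ j = σ a * σ j * σ x := by
    rw [← map_mul, ← map_mul, ← map_mul, ← hxj']; congr 1; group
  have hX := hσ.sq_add_self_add_one hx3 hx1
  have hP := eq_quarter_sum hA hJ hJA hXA hXJ hX
  have hXinv : σ x⁻¹ = σ x * σ x := by
    rw [← map_mul]; congr 1
    refine inv_eq_of_mul_eq_one_right ?_
    rw [← pow_two, ← pow_succ', hx3]
  have hGA : σ g * σ a = σ a * σ g := by rw [← map_mul, hga, map_mul]
  have hG'A : σ g⁻¹ * σ a = σ a * σ g⁻¹ := by
    rw [← map_mul, (Commute.inv_left (show Commute g a from hga)).eq, map_mul]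
  have hGJ : σ g * σ j = σ j * σ g⁻¹ := by
    rw [← map_mul, ← map_mul, ← (hflip j g hgj).2]
    congr 1; group
  have hG'J : σ g⁻¹ * σ j = σ j * σ g := by
    rw [← map_mul, ← map_mul, ← hgj]; congr 1; group
  have hGG : σ g * σ g⁻¹ = 1 := by rw [← map_mul, mul_inv_cancel, map_one]
  have hGG' : σ g⁻¹ * σ g = 1 := by rw [← map_mul, inv_mul_cancel, map_one]
  have hX2 : σ x * σ x = -σ x - 1 := by linear_combination (norm := noncomm_ring) hX
  set h := x * j * g with hh
  set A := σ a with hAdef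
  set J := σ j with hJdef
  set Γ := σ g with hΓdef
  set Γ' := σ g⁻¹ with hΓ'def
  have hA' : ∀ b, A * (A * b) = -b := fun b => by rw [← mul_assoc, hA, neg_one_mul]
  have hJ' : ∀ b, J * (J * b) = -b := fun b => by rw [← mul_assoc, hJ, neg_one_mul]
  have hJA' : ∀ b, J * (A * b) = -(A * (J * b)) := fun b => by
    rw [← mul_assoc, hJA, neg_mul, mul_assoc]
  have hGA' : ∀ b, Γ * (A * b) = A * (Γ * b) := fun b => by rw [← mul_assoc, hGA, mul_assoc]
  have hG'A' : ∀ b, Γ' * (A * b) = A * (Γ' * b) := fun b => by rw [← mul_assoc, hG'A, mul_assoc]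
  have hGJ' : ∀ b, Γ * (J * b) = J * (Γ' * b) := fun b => by rw [← mul_assoc, hGJ, mul_assoc]
  have hG'J' : ∀ b, Γ' * (J * b) = J * (Γ * b) := fun b => by rw [← mul_assoc, hG'J, mul_assoc]
  have hGG1 : ∀ b, Γ * (Γ' * b) = b := fun b => by rw [← mul_assoc, hGG, one_mul]
  have hGG2 : ∀ b, Γ' * (Γ * b) = b := fun b => by rw [← mul_assoc, hGG', one_mul]
  have hT : σ h + σ h⁻¹ = (1 / 2 : ℚ) • (Γ + Γ' + A * Γ - A * Γ') := by
    rw [hh, mul_inv_rev, mul_inv_rev, map_mul, map_mul, map_mul, map_mul, hJinv, hXinv, hX2, hP,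
      ← hJdef, ← hΓdef, ← hΓ'def]
    simp only [smul_mul_assoc, mul_smul_comm, mul_add, add_mul, mul_sub, sub_mul, one_mul, mul_one,
      mul_assoc, hA, hJ, hJA, hA', hJ', hJA', hGA, hG'A, hGJ, hG'J, hGA', hG'A', hGJ', hG'J',
      mul_neg, neg_mul, neg_neg, smul_add, smul_sub, smul_neg]
    module
  have hT2 : (σ h + σ h⁻¹) * (σ h + σ h⁻¹) - 1 = (1 / 2 : ℚ) • (A * Γ * Γ - A * Γ' * Γ') := by
    rw [hT]
    simp only [smul_mul_assoc, mul_smul_comm, smul_smul, mul_add, add_mul, mul_sub, sub_mul,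
      one_mul, mul_one, mul_assoc, hA, hA', hGA, hG'A, hGA', hG'A', hGG, hGG', mul_neg, neg_mul,
      neg_neg, smul_add, smul_sub, smul_neg]
    module
  set k := g ^ 4 with hk
  have hT4 : (4 : ℚ) • (((σ h + σ h⁻¹) * (σ h + σ h⁻¹) - 1) *
      ((σ h + σ h⁻¹) * (σ h + σ h⁻¹) - 1)) = 2 - σ k - σ k⁻¹ := by
    rw [hT2, hk, ← inv_pow, map_pow, map_pow]
    show _ = 2 - Γ ^ 4 - Γ' ^ 4
    simp only [smul_mul_assoc, mul_smul_comm, smul_smul, mul_sub, sub_mul, mul_assoc, hA, hA',
      hGA, hG'A, hGA', hG'A', hGG, hGG', hGG1, hGG2, mul_neg, neg_mul, neg_neg, smul_sub, smul_neg,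
      mul_one, ← one_add_one_eq_two (R := Module.End ℚ W), pow_succ, pow_zero, one_mul]
    module
  have hinv : ∀ n : ℕ, orderOf h = n + 1 → σ h⁻¹ = σ h ^ n := fun n hn => by
    rw [← map_pow]
    congr 1
    exact inv_eq_of_mul_eq_one_right (by rw [← pow_succ', ← hn, pow_orderOf_eq_one])
  have hhalf : ∀ n : ℕ, 0 < n → orderOf h = 2 * n → σ h ^ n = -1 := fun n hn0 hn => by
    rw [← map_pow]
    refine hσ.map_eq_neg_one ?_ fun e => ?_
    · rw [← pow_mul, mul_comm, ← hn, pow_orderOf_eq_one]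
    · have := Nat.le_of_dvd hn0 (hn ▸ orderOf_dvd_of_pow_eq_one e)
      omega
  set H := σ h with hHdef
  have hk' : σ k + σ k⁻¹ = 2 ∨ σ k + σ k⁻¹ = -2 := by
    rcases hσ.orderOf_mem hT4 with e | e | e | e
    · left
      have hh3 := hσ.sq_add_self_add_one (h := h) (by rw [← e, pow_orderOf_eq_one])
        (fun e' => by rw [e', orderOf_one] at e; omega)
      rw [← hHdef] at hh3
      have : H + σ h⁻¹ = -1 := by
        rw [hinv 2 e]; linear_combination (norm := noncomm_ring) hh3
      rw [this, neg_mul_neg, one_mul, sub_self, mul_zero, smul_zero] at hT4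
      linear_combination (norm := abel) hT4
    · right
      have hh2 := hhalf 2 (by norm_num) e
      have : H + σ h⁻¹ = 0 := by
        rw [hinv 3 e, pow_succ, hh2, neg_one_mul, add_neg_cancel]
      rw [this, mul_zero, zero_sub, neg_mul_neg, one_mul] at hT4
      rw [show (4 : ℚ) • (1 : Module.End ℚ W) = 4 by
        rw [Algebra.smul_def, mul_one, map_ofNat]] at hT4
      rw [show (4 : Module.End ℚ W) = 2 + 2 by norm_num] at hT4
      linear_combination (norm := abel) hT4
    · left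
      have hh3 := hhalf 3 (by norm_num) e
      have hne : h ^ 2 ≠ 1 := fun e' => by
        have := Nat.le_of_dvd two_pos (e ▸ orderOf_dvd_of_pow_eq_one e')
        omega
      have hh2 := hσ.sq_add_self_add_one (h := h ^ 2)
        (by rw [← pow_mul, show 2 * 3 = orderOf h from e.symm, pow_orderOf_eq_one]) hne
      rw [map_pow, ← hHdef] at hh2
      have h4 : H ^ 2 * H ^ 2 = -H := by
        rw [← pow_add, pow_succ, hh3, neg_one_mul]
      have : H + σ h⁻¹ = 1 := by
        rw [hinv 5 e, show (5 : ℕ) = 3 + 2 from rfl, pow_add, hh3, neg_one_mul]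
        rw [h4] at hh2
        linear_combination (norm := abel) -hh2
      rw [this, one_mul, sub_self, mul_zero, smul_zero] at hT4
      linear_combination (norm := abel) hT4
    · right
      have hh4 := hhalf 4 (by norm_num) e
      have : (H + σ h⁻¹) * (H + σ h⁻¹) = 2 := by
        rw [hinv 7 e, show (7 : ℕ) = 4 + 3 from rfl, pow_add, hh4, neg_one_mul]
        have e1 : H * H ^ 3 = -1 := by rw [← pow_succ', hh4]
        have e2 : H ^ 3 * H = -1 := by rw [← pow_succ, hh4]
        have e3 : H ^ 3 * H ^ 3 = -(H * H) := by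
          rw [← pow_add, show 3 + 3 = 4 + 2 from rfl, pow_add, hh4, neg_one_mul, pow_two]
        simp only [add_mul, mul_add, neg_mul, mul_neg, neg_neg, e1, e2, e3]
        rw [← one_add_one_eq_two (R := Module.End ℚ W)]
        abel
      rw [this, show (2 : Module.End ℚ W) - 1 = 1 by rw [← one_add_one_eq_two, add_sub_cancel_right],
        one_mul, show (4 : ℚ) • (1 : Module.End ℚ W) = 4 by
        rw [Algebra.smul_def, mul_one, map_ofNat]] at hT4
      rw [show (4 : Module.End ℚ W) = 2 + 2 by norm_num] at hT4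
      linear_combination (norm := abel) hT4
  have hkk : σ k * σ k⁻¹ = 1 := by rw [← map_mul, mul_inv_cancel, map_one]
  rcases hk' with e | e
  · have h1 : k = 1 := hσ.eq_one_of_sub_one_sq (by
      have := congrArg (σ k * ·) e
      simp only [mul_add, hkk] at this
      linear_combination (norm := noncomm_ring) this)
    rw [show (8 : ℕ) = 4 * 2 from rfl, pow_mul, ← hk, h1, one_pow]
  · have h1 : z * k = 1 := hσ.eq_one_of_sub_one_sq (by
      have := congrArg (σ k * ·) e
      simp only [mul_add, hkk] at this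
      rw [map_mul, hz]
      linear_combination (norm := noncomm_ring) this)
    have hkz : k = z⁻¹ := eq_inv_of_mul_eq_one_right h1
    have hz2 : z * z = 1 := hσ.injective (by rw [map_mul, map_one, hz, neg_mul_neg, one_mul])
    rw [show (8 : ℕ) = 4 * 2 from rfl, pow_mul, ← hk, hkz, pow_two, ← mul_inv_rev, hz2, inv_one]

end IsFreeRat

end CfsgLib.FrobComp
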