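import Cfsg.Agent.FrobComp.NonSolvable
import Cfsg.Agent.S3358.Main

/-!
# The canonical quotient of a group with a free action

A group with a free action has exactly one normal subgroup with cyclic Sylow subgroups whose
quotient is trivial, the four-group, or one of `A₄`, `S₄`, `A₅`, `S₅`.

* `exists_klein_quotient`, `exists_zgroup_quotient`: existence;
* `trivial_normal_zgroup_*`: the four large quotients have no nontrivial normal Z-subgroup;
* `eq_of_quotient_conditions`: uniqueness.
-/

set_option autoImplicit false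
set_option linter.unusedSectionVars false
set_option linter.style.haveILetI false

namespace CfsgLib.FrobComp

open CfsgLib.ZassComp CfsgLib.TwoGroupsQ
open scoped commutatorElement

/-- The four allowed nontrivial, non-Klein quotients. -/
def HasBigQuotient {G : Type*} [Group G] (N : Subgroup G) : Prop :=
  (∃ f : G →* alternatingGroup (Fin 4), Function.Surjective f ∧ f.ker = N) ∨
    (∃ f : G →* Equiv.Perm (Fin 4), Function.Surjective f ∧ f.ker = N) ∨
    (∃ f : G →* alternatingGroup (Fin 5), Function.Surjective f ∧ f.ker = N) ∨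
    (∃ f : G →* Equiv.Perm (Fin 5), Function.Surjective f ∧ f.ker = N)

/-- The quotient is trivial, the four-group or one of the four large groups. -/
def HasAllowedQuotient {G : Type*} [Group G] (N : Subgroup G) : Prop :=
  N = ⊤ ∨ (∃ f : G →* DihedralGroup 2, Function.Surjective f ∧ f.ker = N) ∨ HasBigQuotient N

section Klein

open QuaternionGroup

variable {n : ℕ}

/-- The abelianisation of a generalised quaternion group. -/
def quaternionToKlein (hn : Even n) : QuaternionGroup n →* DihedralGroup 2 :=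
  MonoidHom.mk'
    (fun g => match g with
      | a i => DihedralGroup.r (ZMod.castHom (dvd_mul_right 2 n) (ZMod 2) i)
      | xa i => DihedralGroup.sr (ZMod.castHom (dvd_mul_right 2 n) (ZMod 2) i))
    (fun g h => by
      have h2 : ((n : ℕ) : ZMod 2) = 0 :=
        (ZMod.natCast_eq_zero_iff n 2).2 (even_iff_two_dvd.1 hn)
      cases g <;> cases h <;>
        simp only [a_mul_a, a_mul_xa, xa_mul_a, xa_mul_xa, DihedralGroup.r_mul_r,
          DihedralGroup.r_mul_sr, DihedralGroup.sr_mul_r, DihedralGroup.sr_mul_sr, map_add,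
          map_sub, map_natCast, h2, zero_add])

theorem quaternionToKlein_surjective (hn : Even n) :
    Function.Surjective (quaternionToKlein (n := n) hn) := by
  intro g
  have hs := ZMod.castHom_surjective (m := 2) (n := 2 * n) (dvd_mul_right 2 n)
  cases g with
  | r i => obtain ⟨k, rfl⟩ := hs i; exact ⟨a k, rfl⟩
  | sr i => obtain ⟨k, rfl⟩ := hs i; exact ⟨xa k, rfl⟩

theorem isCyclic_ker_quaternionToKlein [NeZero n] (hn : Even n) :
    IsCyclic (quaternionToKlein (n := n) hn).ker := by
  refine isCyclic_of_no_xa _ fun i hi => ?_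
  rw [MonoidHom.mem_ker] at hi
  change DihedralGroup.sr _ = DihedralGroup.r 0 at hi
  cases hi

/-- A homomorphic image of exponent two of a generalised quaternion group has at most four elements. -/
theorem card_range_quaternion_le [NeZero n] {A : Type*} [Group A] (φ : QuaternionGroup n →* A)
    (h : ∀ x : A, x * x = 1) : Nat.card φ.range ≤ 4 := by
  classical
  set u := φ (a 1) with hu
  set v := φ (xa 0) with hv
  have hpow : ∀ k : ℕ, u ^ k = 1 ∨ u ^ k = u := by
    intro k
    induction k with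
    | zero => simp
    | succ k ih =>
      rcases ih with e | e <;> rw [pow_succ, e]
      · exact Or.inr (one_mul u)
      · exact Or.inl (h u)
  have hsub : (φ.range : Set A) ⊆ ({1, u, v, v * u} : Finset A) := by
    rintro _ ⟨g, rfl⟩
    simp only [Finset.coe_insert, Finset.coe_singleton, Set.mem_insert_iff, Set.mem_singleton_iff]
    cases g with
    | a i =>
      rw [← ZMod.natCast_zmod_val i, ← a_one_pow, map_pow, ← hu]
      rcases hpow i.val with e | e <;> rw [e] <;> simp
    | xa i =>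
      rw [show (xa i : QuaternionGroup n) = xa 0 * a i by simp, map_mul, ← hv,
        ← ZMod.natCast_zmod_val i, ← a_one_pow, map_pow, ← hu]
      rcases hpow i.val with e | e <;> rw [e] <;> simp
  have h4 := (Set.ncard_le_ncard hsub (Finset.finite_toSet _)).trans_eq (Set.ncard_coe_finset _)
  rw [← Nat.card_coe_set_eq] at h4
  exact h4.trans Finset.card_le_four

end Klein

section Trivial

theorem false_of_commuting_involutions {H : Type*} [Group H] [Finite H] {K : Subgroup H}
    [IsZGroup K] {u v : H} (hu : u ∈ K) (hv : v ∈ K) (hu2 : u * u = 1) (hv2 : v * v = 1)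
    (hu1 : u ≠ 1) (hv1 : v ≠ 1) (huv : u ≠ v) (hc : u * v = v * u) : False := by
  haveI : Fact (Nat.Prime 2) := ⟨Nat.prime_two⟩
  have hou : orderOf (⟨u, hu⟩ : K) = 2 :=
    orderOf_eq_prime (Subtype.ext (by simpa [pow_two] using hu2)) fun e => hu1 (congrArg Subtype.val e)
  have hv2' : (⟨v, hv⟩ : K) ^ 2 = 1 := Subtype.ext (by simpa [pow_two] using hv2)
  -- the subgroup they generate is a cyclic 2-group
  set U := Subgroup.zpowers (⟨u, hu⟩ : K) with hU
  set V := Subgroup.zpowers (⟨v, hv⟩ : K) with hV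
  have hV2 : IsPGroup 2 V := by
    have hov : orderOf (⟨v, hv⟩ : K) = 2 :=
      orderOf_eq_prime hv2' fun e => hv1 (congrArg Subtype.val e)
    exact IsPGroup.of_card (n := 1) (by rw [Nat.card_zpowers, hov, pow_one])
  have hU2 : IsPGroup 2 U := IsPGroup.of_card (n := 1) (by rw [Nat.card_zpowers, hou, pow_one])
  have hnorm : V ≤ Subgroup.normalizer (U : Set K) := by
    rw [hV, Subgroup.zpowers_le, Subgroup.mem_normalizer_iff]
    have hcc : ∀ w ∈ U, Commute (⟨v, hv⟩ : K) w := fun w hw => by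
      obtain ⟨i, rfl⟩ := Subgroup.mem_zpowers_iff.1 hw
      exact Commute.zpow_right (Subtype.ext hc.symm) i
    intro w
    refine ⟨fun hw => by rwa [(hcc w hw).eq, mul_inv_cancel_right], fun hw => ?_⟩
    have h1 := hcc _ hw
    have : (⟨v, hv⟩ : K) * w * (⟨v, hv⟩ : K)⁻¹ = w := by
      rw [commute_iff_eq] at h1
      have h2 := congrArg (fun q => (⟨v, hv⟩ : K)⁻¹ * q) h1
      simpa [mul_assoc] using h2
    rwa [this] at hw
  obtain ⟨P, hP⟩ := (IsPGroup.to_sup_of_normal_right' hV2 hU2 hnorm).exists_le_sylow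
  have := mem_zpowers_of_isCyclic (P := (P : Subgroup K))
    (hP (Subgroup.mem_sup_right (Subgroup.mem_zpowers _)))
    (hP (Subgroup.mem_sup_left (Subgroup.mem_zpowers _))) hou hv2'
  obtain ⟨i, hi⟩ := Subgroup.mem_zpowers_iff.1 this
  rw [← zpow_mod_orderOf, hou] at hi
  rcases Int.emod_two_eq_zero_or_one i with e | e <;> rw [Nat.cast_ofNat, e] at hi
  · exact hv1 (by simpa using (congrArg Subtype.val hi).symm)
  · exact huv (by simpa using congrArg Subtype.val hi)

theorem trivial_normal_zgroup_A4 (K : Subgroup (alternatingGroup (Fin 4))) [hK : K.Normal]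
    [IsZGroup K] : K = ⊥ := by
  rw [Subgroup.eq_bot_iff_forall]
  intro g hg
  by_contra hg1
  have key : ∀ g : alternatingGroup (Fin 4), g ≠ 1 → ∃ a b : alternatingGroup (Fin 4),
      let u := a * g * a⁻¹ * g⁻¹
      let v := b * g * b⁻¹ * g⁻¹
      let u' := if g * g = 1 then g else u
      let v' := if g * g = 1 then a * g * a⁻¹ else v
      u' * u' = 1 ∧ v' * v' = 1 ∧ u' ≠ 1 ∧ v' ≠ 1 ∧ u' ≠ v' ∧ u' * v' = v' * u' := by
    decide +kernel
  obtain ⟨a, b, h1, h2, h3, h4, h5, h6⟩ := key g hg1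
  have hmem : ∀ c, c * g * c⁻¹ * g⁻¹ ∈ K := fun c => mul_mem (hK.conj_mem g hg c) (inv_mem hg)
  refine false_of_commuting_involutions (K := K) ?_ ?_ h1 h2 h3 h4 h5 h6
  · split
    exacts [hg, hmem a]
  · split
    exacts [hK.conj_mem g hg a, hmem b]

theorem trivial_normal_zgroup_A5 (K : Subgroup (alternatingGroup (Fin 5))) [hK : K.Normal]
    [IsZGroup K] : K = ⊥ := by
  rcases hK.eq_bot_or_eq_top with h | h
  · exact h
  · exfalso
    have h1 : Group.IsSolvable K := inferInstance
    subst h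
    have h2 : Group.IsSolvable (alternatingGroup (Fin 5)) :=
      Group.isSolvable_of_isSolvable_injective (f := (Subgroup.topEquiv (G := alternatingGroup (Fin 5))).symm.toMonoidHom)
        (Subgroup.topEquiv (G := alternatingGroup (Fin 5))).symm.injective
    have h3 := IsSimpleGroup.comm_iff_isSolvable.2 h2
    have : ¬ ∀ a b : alternatingGroup (Fin 5), a * b = b * a := by decide +kernel
    exact this h3

/-- A normal subgroup of `Sₙ` meeting `Aₙ` trivially is trivial. -/
theorem eq_bot_of_inf_alternating {n : ℕ} (hn : 3 ≤ n)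
    (K : Subgroup (Equiv.Perm (Fin n))) [hK : K.Normal]
    (h : ∀ g ∈ K, g ∈ alternatingGroup (Fin n) → g = 1) : K = ⊥ := by
  rw [Subgroup.eq_bot_iff_forall]
  intro g hg
  have hc : g ∈ Subgroup.center (Equiv.Perm (Fin n)) := by
    rw [Subgroup.mem_center_iff]
    intro c
    have := h (c * g * c⁻¹ * g⁻¹) (mul_mem (hK.conj_mem g hg c) (inv_mem hg)) (by
      rw [Equiv.Perm.mem_alternatingGroup, map_mul, map_mul, map_mul, map_inv, map_inv,
        mul_comm (Equiv.Perm.sign c), mul_inv_cancel_right, mul_inv_cancel])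
    exact mul_inv_eq_iff_eq_mul.1 (mul_inv_eq_one.1 this)
  refine Equiv.ext fun i => ?_
  by_contra hi
  rw [Equiv.Perm.one_apply] at hi
  obtain ⟨k, hk⟩ : ∃ k, k ∉ ({i, g i} : Finset (Fin n)) := by
    by_contra h'
    push Not at h'
    have h2 := Finset.card_le_card (show Finset.univ ⊆ ({i, g i} : Finset (Fin n)) from
      fun k _ => h' k)
    rw [Finset.card_univ, Fintype.card_fin] at h2
    have h3 : ({i, g i} : Finset (Fin n)).card ≤ 2 := Finset.card_le_two
    omega
  rw [Finset.mem_insert, Finset.mem_singleton, not_or] at hk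
  have h1 := Equiv.congr_fun (Subgroup.mem_center_iff.1 hc (Equiv.swap i k)) i
  rw [Equiv.Perm.mul_apply, Equiv.Perm.mul_apply, Equiv.swap_apply_left,
    Equiv.swap_apply_of_ne_of_ne hi (Ne.symm hk.2)] at h1
  exact hk.1 (g.injective h1).symm

theorem trivial_normal_zgroup_perm {n : ℕ} (hn : 3 ≤ n)
    (hA : ∀ (K : Subgroup (alternatingGroup (Fin n))) [K.Normal] [IsZGroup K], K = ⊥)
    (K : Subgroup (Equiv.Perm (Fin n))) [hK : K.Normal] [IsZGroup K] : K = ⊥ := by
  set K' := K.subgroupOf (alternatingGroup (Fin n)) with hK'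
  haveI : K'.Normal := by rw [hK']; infer_instance
  let f : K' →* K :=
    { toFun := fun u => ⟨(u : alternatingGroup (Fin n)), u.2⟩
      map_one' := rfl
      map_mul' := fun _ _ => rfl }
  haveI : IsZGroup K' := IsZGroup.of_injective (f := f) fun u v e => by
    exact Subtype.ext (Subtype.ext (congrArg (fun w : K => (w : Equiv.Perm (Fin n))) e))
  refine eq_bot_of_inf_alternating hn K fun g hg hgA => ?_
  have h1 : (⟨g, hgA⟩ : alternatingGroup (Fin n)) ∈ K' := hg
  rw [hA K', Subgroup.mem_bot] at h1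
  exact congrArg Subtype.val h1

end Trivial

variable {G : Type*} [Group G] [Finite G]

theorem HasBigQuotient.le_of_zgroup {N : Subgroup G} (hN : HasBigQuotient N) (K : Subgroup G)
    [hK : K.Normal] [IsZGroup K] : K ≤ N := by
  have key : ∀ {Q : Type} [Group Q] [Finite Q] (f : G →* Q), Function.Surjective f →
      (∀ (R : Subgroup Q) [R.Normal] [IsZGroup R], R = ⊥) → K ≤ f.ker := by
    intro Q _ _ f hf hQ g hg
    haveI : (K.map f).Normal := hK.map f hf
    haveI : IsZGroup (K.map f) :=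
      IsZGroup.of_surjective (f := f.subgroupMap K) (f.subgroupMap_surjective K)
    have := hQ (K.map f)
    rw [MonoidHom.mem_ker, ← Subgroup.mem_bot, ← this]
    exact Subgroup.mem_map_of_mem f hg
  rcases hN with ⟨f, hf, rfl⟩ | ⟨f, hf, rfl⟩ | ⟨f, hf, rfl⟩ | ⟨f, hf, rfl⟩
  · exact key f hf fun R => trivial_normal_zgroup_A4 R
  · exact key f hf fun R => trivial_normal_zgroup_perm (by norm_num)
      (fun K => trivial_normal_zgroup_A4 K) R
  · exact key f hf fun R => trivial_normal_zgroup_A5 R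
  · exact key f hf fun R => trivial_normal_zgroup_perm (by norm_num)
      (fun K => trivial_normal_zgroup_A5 K) R

theorem HasBigQuotient.twelve_le {N : Subgroup G} (hN : HasBigQuotient N) : 12 ≤ N.index := by
  have key : ∀ {Q : Type} [Group Q] [Finite Q] (f : G →* Q), Function.Surjective f →
      12 ≤ Nat.card Q → 12 ≤ f.ker.index := by
    intro Q _ _ f hf h
    rwa [Subgroup.index_ker, MonoidHom.range_eq_top.2 hf, Subgroup.card_top]
  rcases hN with ⟨f, hf, rfl⟩ | ⟨f, hf, rfl⟩ | ⟨f, hf, rfl⟩ | ⟨f, hf, rfl⟩ <;>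
    refine key f hf ?_ <;> rw [Nat.card_eq_fintype_card] <;> decide +kernel

variable {V : Type*} [AddCommGroup V] [Finite V] [Nontrivial V] {ρ : G →* AddMonoid.End V}

theorem card_quotient_le_four (hρ : IsFree ρ) (K : Subgroup G) [K.Normal]
    (hK : ∀ g : G, g * g ∈ K) : K.index ≤ 4 := by
  haveI : Fact (Nat.Prime 2) := ⟨Nat.prime_two⟩
  obtain ⟨S⟩ : Nonempty (Sylow 2 G) := Sylow.nonempty
  have hexp : ∀ x : G ⧸ K, x * x = 1 := fun x => by
    obtain ⟨g, rfl⟩ := QuotientGroup.mk_surjective x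
    exact (QuotientGroup.eq_one_iff _).2 (hK g)
  have hQ : IsPGroup 2 (G ⧸ K) := fun x => ⟨1, by rw [pow_one, pow_two, hexp]⟩
  have hsur := surjective_of_two_quotient S K hQ
  rcases isCyclic_or_quaternion S.2 (hasUniqueOrderP_of_free hρ S.2) with hS | ⟨-, m, hm, ⟨e⟩⟩
  · haveI : IsCyclic (G ⧸ K) := isCyclic_of_surjective _ hsur
    rw [Subgroup.index_eq_card]
    obtain ⟨x, hx⟩ := IsCyclic.exists_generator (α := G ⧸ K)
    rw [← orderOf_eq_card_of_forall_mem_zpowers hx]
    exact (orderOf_le_of_pow_eq_one two_pos (by rw [pow_two, hexp])).trans (by norm_num)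
  · haveI : NeZero (2 ^ m) := ⟨by positivity⟩
    have h4 := card_range_quaternion_le
      (((QuotientGroup.mk' K).comp (S : Subgroup G).subtype).comp e.symm.toMonoidHom) hexp
    rwa [MonoidHom.range_eq_top.2 (fun q => by
      obtain ⟨s, hs⟩ := hsur q
      obtain ⟨t, rfl⟩ := e.symm.surjective s
      exact ⟨t, hs⟩), Subgroup.card_top,
      ← Subgroup.index_eq_card] at h4

theorem klein_facts {N : Subgroup G} {f : G →* DihedralGroup 2} (hf : Function.Surjective f)
    (hN : f.ker = N) : N.index = 4 ∧ ∀ g : G, g * g ∈ N := by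
  refine ⟨?_, fun g => ?_⟩
  · rw [← hN, Subgroup.index_ker, MonoidHom.range_eq_top.2 hf, Subgroup.card_top,
      DihedralGroup.nat_card]
  · rw [← hN, MonoidHom.mem_ker, map_mul]
    have h := Monoid.pow_exponent_eq_one (f g)
    rwa [IsKleinFour.exponent_two, pow_two] at h

/-- Uniqueness. -/
theorem eq_of_quotient_conditions (hρ : IsFree ρ) {N₁ N₂ : Subgroup G} [N₁.Normal] [N₂.Normal]
    [IsZGroup N₁] [IsZGroup N₂] (h₁ : HasAllowedQuotient N₁) (h₂ : HasAllowedQuotient N₂) :
    N₁ = N₂ := by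
  have small : ∀ {N : Subgroup G}, (N = ⊤ ∨ (∃ f : G →* DihedralGroup 2,
      Function.Surjective f ∧ f.ker = N)) → N.index ≤ 4 := by
    rintro N (rfl | ⟨f, hf, hN⟩)
    · simp
    · exact (klein_facts hf hN).1.le
  have mixed : ∀ {N N' : Subgroup G} [N.Normal] [IsZGroup N] [N'.Normal],
      HasBigQuotient N' → N.index ≤ 4 → False := by
    intro N N' _ _ _ hb hs
    have h := Nat.le_of_dvd (Nat.pos_of_ne_zero Subgroup.FiniteIndex.index_ne_zero)
      (Subgroup.index_dvd_of_le (hb.le_of_zgroup N))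
    have := hb.twelve_le
    omega
  have not_top : ∀ {N : Subgroup G} (f : G →* DihedralGroup 2), Function.Surjective f → f.ker = N →
      IsZGroup (⊤ : Subgroup G) → False := by
    intro N f hf _ hz
    haveI := hz
    haveI : IsZGroup G :=
      IsZGroup.of_injective (f := (Subgroup.topEquiv (G := G)).symm.toMonoidHom)
        Subgroup.topEquiv.symm.injective
    haveI : IsZGroup (DihedralGroup 2) := IsZGroup.of_surjective hf
    haveI : Group.IsNilpotent (DihedralGroup 2) := by
      haveI : Fact (Nat.Prime 2) := ⟨Nat.prime_two⟩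
      exact (IsPGroup.of_card (n := 2) (p := 2) (by rw [DihedralGroup.nat_card]; norm_num)).isNilpotent
    exact IsKleinFour.not_isCyclic (inferInstance : IsCyclic (DihedralGroup 2))
  rcases h₁ with h₁ | h₁ | h₁ <;> rcases h₂ with h₂ | h₂ | h₂
  · rw [h₁, h₂]
  · obtain ⟨f, hf, hN⟩ := h₂
    exact (not_top f hf hN (h₁ ▸ inferInstance)).elim
  · exact (mixed (N := N₁) h₂ (small (Or.inl h₁))).elim
  · obtain ⟨f, hf, hN⟩ := h₁
    exact (not_top f hf hN (h₂ ▸ inferInstance)).elim
  · obtain ⟨f, hf, hN⟩ := h₁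
    obtain ⟨f', hf', hN'⟩ := h₂
    obtain ⟨i₁, s₁⟩ := klein_facts hf hN
    obtain ⟨i₂, s₂⟩ := klein_facts hf' hN'
    have h4 := card_quotient_le_four hρ (N₁ ⊓ N₂) fun g => ⟨s₁ g, s₂ g⟩
    have e1 : N₁ ⊓ N₂ = N₁ := by
      refine inf_eq_left.2 (Subgroup.relIndex_eq_one.1 ?_)
      have hm := Subgroup.relIndex_mul_index (inf_le_left : N₁ ⊓ N₂ ≤ N₁)
      rw [Subgroup.inf_relIndex_left, i₁] at hm
      have : (N₁ ⊓ N₂).index ≠ 0 := Subgroup.FiniteIndex.index_ne_zero
      have : N₂.relIndex N₁ ≠ 0 := fun e => by rw [e, zero_mul] at hm; omega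
      omega
    refine Subgroup.eq_of_le_of_card_ge (inf_eq_left.1 e1) ?_
    have := N₁.card_mul_index
    have := N₂.card_mul_index
    rw [i₁] at *
    rw [i₂] at *
    omega
  · exact (mixed (N := N₁) h₂ (small (Or.inr h₁))).elim
  · exact (mixed (N := N₂) h₁ (small (Or.inl h₂))).elim
  · exact (mixed (N := N₂) h₁ (small (Or.inr h₂))).elim
  · exact le_antisymm (h₂.le_of_zgroup N₁) (h₁.le_of_zgroup N₂)

/-- The elements of odd order of a normal Z-subgroup with 2-power index form a normal subgroup. -/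
theorem exists_odd_normal (L : Subgroup G) [L.Normal] [IsZGroup L] :
    ∃ K : Subgroup G, K.Normal ∧ Odd (Nat.card K) ∧ ∀ g ∈ L, Odd (orderOf g) → g ∈ K := by
  haveI : Fact (Nat.Prime 2) := ⟨Nat.prime_two⟩
  by_cases h2 : 2 ∣ Nat.card L
  · obtain ⟨P⟩ : Nonempty (Sylow 2 L) := Sylow.nonempty
    have hP : IsCyclic P := inferInstance
    have heven : (Nat.card L).minFac = 2 := (Nat.minFac_eq_two_iff _).2 h2
    set K := (MonoidHom.transferSylow P (hP.normalizer_le_centralizer heven)).ker with hK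
    have hKodd : ¬ 2 ∣ Nat.card K := MonoidHom.not_dvd_card_ker_transferSylow P _
    have hKmem : ∀ u : L, Odd (orderOf u) → u ∈ K := fun u hu => by
      rw [hK, MonoidHom.mem_ker, ← orderOf_eq_one_iff]
      obtain ⟨k, hk⟩ := P.2 (MonoidHom.transferSylow P (hP.normalizer_le_centralizer heven) u)
      exact Nat.eq_one_of_dvd_coprimes ((Nat.coprime_two_left.2 hu).pow_left k)
        (orderOf_dvd_of_pow_eq_one hk) (orderOf_map_dvd _ _)
    have hodd : ∀ u ∈ K, Odd (orderOf u) := fun u hu => by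
      rw [Nat.odd_iff, ← Nat.two_dvd_ne_zero]
      exact fun h => hKodd (h.trans (Subgroup.orderOf_mk u hu ▸ orderOf_dvd_natCard _))
    haveI : K.Characteristic := Subgroup.characteristic_iff_map_le.2 fun σ => by
      rintro _ ⟨u, hu, rfl⟩
      exact hKmem _ (by
        show Odd (orderOf (σ u))
        rw [MulEquiv.orderOf_eq]; exact hodd u hu)
    refine ⟨K.map L.subtype, ConjAct.normal_of_characteristic_of_normal, ?_, fun g hg ho =>
      ⟨⟨g, hg⟩, hKmem _ (by rw [Subgroup.orderOf_mk]; exact ho), rfl⟩⟩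
    rw [Subgroup.card_map_of_injective L.subtype_injective, Nat.odd_iff, ← Nat.two_dvd_ne_zero]
    exact hKodd
  · exact ⟨L, inferInstance, Nat.odd_iff.2 (Nat.two_dvd_ne_zero.1 h2), fun g hg _ => hg⟩

theorem exists_klein_quotient (hρ : IsFree ρ) (S : Sylow 2 G) {m : ℕ} (hm : 1 ≤ m)
    (e : S ≃* QuaternionGroup (2 ^ m)) (L : Subgroup G) [L.Normal] [IsZGroup L]
    (hL : IsPGroup 2 (G ⧸ L)) :
    ∃ N : Subgroup G, N.Normal ∧ IsZGroup N ∧
      ∃ f : G →* DihedralGroup 2, Function.Surjective f ∧ f.ker = N := by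
  haveI : Fact (Nat.Prime 2) := ⟨Nat.prime_two⟩
  haveI : NeZero (2 ^ m) := ⟨by positivity⟩
  obtain ⟨K, hKn, hKodd, hKmem⟩ := exists_odd_normal L
  have hodd : ∀ g : G, Odd (orderOf g) → g ∈ K := fun g hg => hKmem g (by
    obtain ⟨k, hk⟩ := hL (g : G ⧸ L)
    refine (QuotientGroup.eq_one_iff g).1 (orderOf_eq_one_iff.1 ?_)
    exact Nat.eq_one_of_dvd_coprimes ((Nat.coprime_two_left.2 hg).pow_left k)
      (orderOf_dvd_of_pow_eq_one hk) (orderOf_map_dvd (QuotientGroup.mk' L) g)) hg
  have hsur := surjective_of_two_quotient S K (pow_two_part_mem hodd)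
  set φ := (QuotientGroup.mk' K).comp (S : Subgroup G).subtype with hφ
  have hinj : Function.Injective φ := by
    rw [injective_iff_map_eq_one]
    intro s hs
    have h1 : (s : G) ∈ K := (QuotientGroup.eq_one_iff _).1 hs
    obtain ⟨k, hk⟩ := S.2 s
    rw [← orderOf_eq_one_iff]
    refine Nat.eq_one_of_dvd_coprimes ((Nat.coprime_two_left.2 hKodd).pow_left k)
      (orderOf_dvd_of_pow_eq_one hk) ?_
    rw [← Subgroup.orderOf_coe, ← Subgroup.orderOf_mk (s : G) h1]
    exact orderOf_dvd_natCard _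
  let ψ : S ≃* G ⧸ K := MulEquiv.ofBijective φ ⟨hinj, hsur⟩
  have hev : Even (2 ^ m) := Nat.even_pow.2 ⟨even_two, by omega⟩
  let f : G →* DihedralGroup 2 :=
    ((quaternionToKlein hev).comp (ψ.symm.trans e).toMonoidHom).comp (QuotientGroup.mk' K)
  have hf : Function.Surjective f :=
    ((quaternionToKlein_surjective hev).comp (ψ.symm.trans e).surjective).comp
      (QuotientGroup.mk'_surjective K)
  refine ⟨f.ker, inferInstance, ?_, f, hf, rfl⟩
  refine isZGroup_of_inf_sylow hρ S f.ker ?_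
  haveI := isCyclic_ker_quaternionToKlein hev
  let g : (f.ker ⊓ (S : Subgroup G) : Subgroup G) →* (quaternionToKlein hev).ker :=
    { toFun := fun u => ⟨e ⟨u, u.2.2⟩, by
        have h1 : f (u : G) = 1 := u.2.1
        have h2 : ψ.symm ((u : G) : G ⧸ K) = ⟨u, u.2.2⟩ := ψ.injective (by
          rw [ψ.apply_symm_apply]; rfl)
        have h3 : quaternionToKlein hev (e (ψ.symm ((u : G) : G ⧸ K))) = 1 := h1
        rw [h2] at h3
        exact h3⟩
      map_one' := Subtype.ext (map_one e)
      map_mul' := fun u v => Subtype.ext (map_mul e ⟨u, u.2.2⟩ ⟨v, v.2.2⟩) }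
  exact isCyclic_of_injective g fun u v h => Subtype.ext
    (congrArg (fun w : S => (w : G)) (e.injective (congrArg Subtype.val h)))

theorem hasAllowed_of_perm_four {f : G →* Equiv.Perm (Fin 4)}
    (h : Nat.card f.range = 12 ∨ Nat.card f.range = 24) : HasBigQuotient f.ker := by
  rcases h with h | h
  · have hr : f.range = alternatingGroup (Fin 4) := by
      refine Equiv.Perm.eq_alternatingGroup_of_index_eq_two ?_
      have := f.range.card_mul_index
      rw [h, Nat.card_perm, Nat.card_fin, show Nat.factorial 4 = 24 from rfl] at this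
      omega
    refine Or.inl ⟨f.codRestrict (alternatingGroup (Fin 4)) fun g => hr ▸ ⟨g, rfl⟩, ?_, ?_⟩
    · rintro ⟨p, hp⟩
      obtain ⟨g, hg⟩ : p ∈ f.range := hr.symm ▸ hp
      exact ⟨g, Subtype.ext hg⟩
    · exact MonoidHom.ker_codRestrict _ _ _
  · refine Or.inr (Or.inl ⟨f, MonoidHom.range_eq_top.1 (Subgroup.eq_top_of_card_eq _ ?_), rfl⟩)
    rw [h, Nat.card_perm, Nat.card_fin]
    rfl

theorem hasAllowed_of_perm_five {f : G →* Equiv.Perm (Fin 5)}
    (h : Nat.card f.range = 60 ∨ Nat.card f.range = 120) : HasBigQuotient f.ker := by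
  rcases h with h | h
  · have hr : f.range = alternatingGroup (Fin 5) := by
      refine Equiv.Perm.eq_alternatingGroup_of_index_eq_two ?_
      have := f.range.card_mul_index
      rw [h, Nat.card_perm, Nat.card_fin, show Nat.factorial 5 = 120 from rfl] at this
      omega
    refine Or.inr (Or.inr (Or.inl
      ⟨f.codRestrict (alternatingGroup (Fin 5)) fun g => hr ▸ ⟨g, rfl⟩, ?_, ?_⟩))
    · rintro ⟨p, hp⟩
      obtain ⟨g, hg⟩ : p ∈ f.range := hr.symm ▸ hp
      exact ⟨g, Subtype.ext hg⟩
    · exact MonoidHom.ker_codRestrict _ _ _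
  · refine Or.inr (Or.inr (Or.inr ⟨f, MonoidHom.range_eq_top.1 (Subgroup.eq_top_of_card_eq _ ?_), rfl⟩))
    rw [h, Nat.card_perm, Nat.card_fin]
    rfl

/-- Existence. -/
theorem exists_zgroup_quotient (hρ : IsFree ρ) {p : ℕ} [Fact p.Prime] (hV : ∀ v : V, p • v = 0) :
    ∃ N : Subgroup G, N.Normal ∧ IsZGroup N ∧ HasAllowedQuotient N := by
  haveI : Fact (Nat.Prime 2) := ⟨Nat.prime_two⟩
  by_cases hsol : Group.IsSolvable G
  swap
  · obtain ⟨_, _, _, _, _, _, _, _, _, _, f, hz, hc⟩ := exists_structure_aux hρ hV hsol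
    exact ⟨f.ker, inferInstance, hz, Or.inr (Or.inr (hasAllowed_of_perm_five hc))⟩
  haveI := hsol
  obtain ⟨S⟩ : Nonempty (Sylow 2 G) := Sylow.nonempty
  rcases isCyclic_or_quaternion S.2 (hasUniqueOrderP_of_free hρ S.2) with hS | ⟨-, m, hm, ⟨e⟩⟩
  · refine ⟨⊤, inferInstance, isZGroup_of_inf_sylow hρ S ⊤ ?_, Or.inl rfl⟩
    haveI := hS
    exact isCyclic_of_injective (Subgroup.inclusion (inf_le_right : ⊤ ⊓ (S : Subgroup G) ≤ _))
      (Subgroup.inclusion_injective _)
  obtain ⟨G₀, hn, hz, f, hf⟩ := exists_normal_zgroup (M := V) hρ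
  haveI := hn
  haveI := hz
  have klein : ∀ (L : Subgroup G) [L.Normal] [IsZGroup L], IsPGroup 2 (G ⧸ L) →
      ∃ N : Subgroup G, N.Normal ∧ IsZGroup N ∧ HasAllowedQuotient N := fun L _ _ hL => by
    obtain ⟨N, h1, h2, h3⟩ := exists_klein_quotient hρ S hm e L hL
    exact ⟨N, h1, h2, Or.inr (Or.inl h3)⟩
  have hdvd : Nat.card f.range ∣ 24 := by
    refine (Subgroup.card_subgroup_dvd_card f.range).trans ?_
    rw [Nat.card_perm, Nat.card_fin]
    rfl
  by_cases hbig : Nat.card f.range = 12 ∨ Nat.card f.range = 24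
  · exact ⟨f.ker, inferInstance, hf ▸ hz, Or.inr (Or.inr (hasAllowed_of_perm_four hbig))⟩
  push Not at hbig
  have hidx : G₀.index = Nat.card f.range := by rw [← hf, Subgroup.index_ker]
  by_cases h3 : 3 ∣ Nat.card f.range
  swap
  · refine klein G₀ ?_
    obtain ⟨k, -, hk⟩ := (Nat.dvd_prime_pow Nat.prime_two).1
      (show Nat.card f.range ∣ 2 ^ 3 from
        (Nat.Coprime.dvd_of_dvd_mul_right ((Nat.prime_three.coprime_iff_not_dvd.2 h3).symm)
          (show Nat.card f.range ∣ 8 * 3 from hdvd)))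
    exact IsPGroup.of_card (n := k) (by rw [← Subgroup.index_eq_card, hidx, hk])
  -- the image has order 3 or 6
  have h36 : Nat.card f.range = 3 ∨ Nat.card f.range = 6 := by
    have hle := Nat.le_of_dvd (by norm_num) hdvd
    have hpos : 0 < Nat.card f.range := Nat.card_pos
    interval_cases (Nat.card f.range) <;> omega
  haveI : Fact (Nat.Prime 3) := ⟨Nat.prime_three⟩
  obtain ⟨T⟩ : Nonempty (Sylow 3 f.range) := Sylow.nonempty
  have hT : Nat.card T = 3 ∧ (T : Subgroup f.range).index ≤ 2 := by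
    obtain ⟨k, hk⟩ := T.2.exists_card_eq
    have h1 := (T : Subgroup f.range).card_mul_index
    have h2 := T.not_dvd_index
    rw [hk] at h1
    have h4 : 3 ^ k ≤ 6 := by
      have := Nat.le_of_dvd Nat.card_pos (Dvd.intro _ h1)
      omega
    have h5 : k ≤ 1 := by
      by_contra hlt
      have := Nat.pow_le_pow_right (show 0 < 3 by norm_num) (show 2 ≤ k by omega)
      omega
    interval_cases k
    · rw [pow_zero, one_mul] at h1
      exact absurd (h1 ▸ h3) h2
    · rw [pow_one] at h1
      exact ⟨hk.trans (pow_one 3), by omega⟩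
  haveI hTn : (T : Subgroup f.range).Normal := by
    rcases (by
      have : (T : Subgroup f.range).index ≠ 0 := Subgroup.FiniteIndex.index_ne_zero
      omega : (T : Subgroup f.range).index = 1 ∨ (T : Subgroup f.range).index = 2) with h | h
    · rw [Subgroup.index_eq_one.1 h]; infer_instance
    · exact Subgroup.normal_of_index_eq_two h
  set L := (T : Subgroup f.range).comap f.rangeRestrict with hLdef
  haveI : L.Normal := Subgroup.Normal.comap hTn _
  haveI : IsZGroup L := by
    refine isZGroup_of_inf_sylow hρ S L ?_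
    have hle : L ⊓ (S : Subgroup G) ≤ G₀ ⊓ (S : Subgroup G) := by
      rintro g ⟨hgL, hgS⟩
      refine ⟨?_, hgS⟩
      show g ∈ G₀
      rw [← hf, MonoidHom.mem_ker, ← f.coe_rangeRestrict g, OneMemClass.coe_eq_one,
        ← orderOf_eq_one_iff]
      obtain ⟨k, hk⟩ := S.2 ⟨g, hgS⟩
      have hk' : g ^ 2 ^ k = 1 := by simpa using congrArg Subtype.val hk
      refine Nat.eq_one_of_dvd_coprimes (show Nat.Coprime (2 ^ k) 3 from
        Nat.Coprime.pow_left k (by norm_num))
        ((orderOf_map_dvd _ g).trans (orderOf_dvd_of_pow_eq_one hk')) ?_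
      rw [← hT.1]
      exact Subgroup.orderOf_mk (H := (T : Subgroup f.range)) (f.rangeRestrict g) hgL ▸
        orderOf_dvd_natCard _
    haveI : IsCyclic (G₀ ⊓ (S : Subgroup G) : Subgroup G) := by
      haveI : IsPGroup 2 (G₀ ⊓ (S : Subgroup G) : Subgroup G) := S.2.to_le inf_le_right
      haveI : Group.IsNilpotent (G₀ ⊓ (S : Subgroup G) : Subgroup G) :=
        (S.2.to_le inf_le_right : IsPGroup 2 (G₀ ⊓ (S : Subgroup G) : Subgroup G)).isNilpotent
      haveI : IsZGroup (G₀ ⊓ (S : Subgroup G) : Subgroup G) :=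
        IsZGroup.of_injective (Subgroup.inclusion_injective (inf_le_left : G₀ ⊓ (S : Subgroup G) ≤ G₀))
      infer_instance
    exact isCyclic_of_injective (Subgroup.inclusion hle) (Subgroup.inclusion_injective hle)
  refine klein L ?_
  have h6 : L.index = (T : Subgroup f.range).index :=
    Subgroup.index_comap_of_surjective _ f.rangeRestrict_surjective
  intro q
  refine ⟨1, ?_⟩
  obtain ⟨g, rfl⟩ := QuotientGroup.mk_surjective q
  rw [pow_one, ← QuotientGroup.mk_pow, QuotientGroup.eq_one_iff]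
  rcases (by
    have : L.index ≠ 0 := Subgroup.FiniteIndex.index_ne_zero
    omega : L.index = 1 ∨ L.index = 2) with h | h
  · rw [Subgroup.index_eq_one.1 h]; exact Subgroup.mem_top _
  · exact h ▸ Subgroup.pow_index_mem L g

end CfsgLib.FrobComp
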